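import Groth.Agent.CohFinite.ClosedDescent

/-!
# The annihilator ideal sheaf of a quasi-coherent module of finite type

`annIdeal F`, with support `CohB1.support F`; `F` is killed by it.
Also: support of a push-forward along a closed immersion.
-/

universe u

open CategoryTheory CategoryTheory.Limits AlgebraicGeometry TopologicalSpace Opposite

set_option backward.isDefEq.respectTransparency false

namespace Groth.Agent.CohFinite

open Groth.Agent.QCohLib

variable {X : Scheme.{u}} (F : X.Modules)

theorem map_annihilator_basicOpen [F.IsQuasicoherent] (hF : F.IsFiniteType) (U : X.affineOpens)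
    (f : Γ(X, U.1)) :
    (Module.annihilator Γ(X, U.1) Γ(F, U.1)).map
        (X.presheaf.map (homOfLE <| X.basicOpen_le f).op).hom =
      Module.annihilator Γ(X, X.basicOpen f) Γ(F, X.basicOpen f) := by
  refine le_antisymm (Ideal.map_le_iff_le_comap.mpr fun r hr => ?_) fun a ha => ?_
  · rw [Ideal.mem_comap, Module.mem_annihilator]
    intro (s : Γ(F, X.basicOpen f))
    obtain ⟨n, x, hx⟩ := exists_res_eq_pow_smul U.2 f _ (X.basicOpen_le f) rfl s
    have hu : IsUnit (X.presheaf.map (homOfLE (X.basicOpen_le f)).op f) :=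
      X.toRingedSpace.isUnit_res_basicOpen f
    refine (IsUnit.smul_eq_zero (hu.pow n)).mp ?_
    rw [smul_comm, ← hx]
    exact (Scheme.Modules.map_smul F _ r x).symm.trans (by rw [Module.mem_annihilator.mp hr x, map_zero])
  · let := (X.presheaf.map (homOfLE (X.basicOpen_le f)).op).hom.toAlgebra
    have : IsLocalization.Away f Γ(X, X.basicOpen f) := U.2.isLocalization_basicOpen f
    obtain ⟨⟨r, ⟨_, k, rfl⟩⟩, hr⟩ := IsLocalization.surj (Submonoid.powers f)
      (show Γ(X, X.basicOpen f) from a)
    obtain ⟨t, ht⟩ := (finite_sections F hF U.2).fg_top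
    have hkill : ∀ m : Γ(F, U.1), ∃ n, f ^ n • r • m = 0 := fun m =>
      exists_pow_smul_eq_zero U.2 f _ (X.basicOpen_le f) rfl (r • m) (by
        rw [Scheme.Modules.map_smul]
        change (algebraMap Γ(X, U.1) Γ(X, X.basicOpen f) r) • _ = (0 : Γ(F, X.basicOpen f))
        rw [← hr, mul_comm, mul_smul]
        exact (congrArg (_ • ·) (Module.mem_annihilator.mp ha _)).trans (smul_zero _))
    choose n hn using hkill
    have hmem : f ^ t.sup n * r ∈ Module.annihilator Γ(X, U.1) Γ(F, U.1) := by
      rw [Module.mem_annihilator]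
      intro m
      have hm : m ∈ Submodule.span Γ(X, U.1) (t : Set Γ(F, U.1)) := by rw [ht]; trivial
      induction hm using Submodule.span_induction with
      | mem x hx =>
        rw [mul_smul, ← Nat.sub_add_cancel (Finset.le_sup (f := n) hx), pow_add, mul_smul, hn,
          smul_zero]
      | zero => rw [smul_zero]
      | add x y _ _ hx hy => rw [smul_add, hx, hy, add_zero]
      | smul c x _ hx => rw [smul_comm, hx, smul_zero]
    have h1 := Ideal.mem_map_of_mem (X.presheaf.map (homOfLE <| X.basicOpen_le f).op).hom hmem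
    have hu : IsUnit (algebraMap Γ(X, U.1) Γ(X, X.basicOpen f) f) :=
      IsLocalization.Away.algebraMap_isUnit f
    have h2 : algebraMap Γ(X, U.1) Γ(X, X.basicOpen f) (f ^ t.sup n * r) =
        ((algebraMap Γ(X, U.1) Γ(X, X.basicOpen f) f) ^ (t.sup n + k)) *
          (show Γ(X, X.basicOpen f) from a) := by
      rw [map_mul, ← hr, map_pow, map_pow, pow_add]
      ring
    exact (Ideal.unit_mul_mem_iff_mem _ (hu.pow (t.sup n + k))).mp (h2 ▸ h1)

/-- The annihilator ideal sheaf. -/
noncomputable def annIdeal [F.IsQuasicoherent] (hF : F.IsFiniteType) : X.IdealSheafData :=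
  Scheme.IdealSheafData.mkOfMemSupportIff (fun U => Module.annihilator Γ(X, U.1) Γ(F, U.1))
    (fun U f => map_annihilator_basicOpen F hF U f) (CohB1.support F) fun U x hx => by
      have := finite_sections F hF U.2
      rw [mem_support_iff_mem_moduleSupport U.2 x hx, Module.mem_support_iff_of_finite,
        Scheme.mem_zeroLocus_iff]
      exact forall₂_congr fun r _ =>
        ((mem_basicOpen_iff_notMem_primeIdealOf U.2 hx r).trans Iff.rfl).not.trans not_not |>.symm

variable [F.IsQuasicoherent] (hF : F.IsFiniteType)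

theorem support_annIdeal : ((annIdeal F hF).support : Set X) = CohB1.support F := rfl

theorem killedByIdeal_annIdeal : ClSub.KilledByIdeal (annIdeal F hF) F :=
  fun _ _ ha m => Module.mem_annihilator.mp ha m

variable {Z : Scheme.{u}} (i : Z ⟶ X) [IsClosedImmersion i]

omit [F.IsQuasicoherent] in
theorem subsingleton_stalk_pushforward_of_notMem_range (N : Z.Modules) (x : X)
    (hx : x ∉ Set.range i) : Subsingleton (((Scheme.Modules.pushforward i).obj N).presheaf.stalk x) := by
  let P := (Scheme.Modules.pushforward i).obj N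
  let V : X.Opens := ⟨(Set.range i)ᶜ, i.isClosedEmbedding.isClosed_range.isOpen_compl⟩
  refine ⟨fun a b => ?_⟩
  obtain ⟨W, hxW, s, rfl⟩ := P.presheaf.exists_germ_eq a
  obtain ⟨W', hxW', t, rfl⟩ := P.presheaf.exists_germ_eq b
  have hxv : x ∈ W ⊓ W' ⊓ V := ⟨⟨hxW, hxW'⟩, hx⟩
  rw [← TopCat.Presheaf.germ_res_apply P.presheaf
      (homOfLE (inf_le_left.trans inf_le_left : W ⊓ W' ⊓ V ≤ W)) x hxv s,
    ← TopCat.Presheaf.germ_res_apply P.presheaf
      (homOfLE (inf_le_left.trans inf_le_right : W ⊓ W' ⊓ V ≤ W')) x hxv t]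
  congr 1
  refine section_ext (M := N) (U := i ⁻¹ᵁ (W ⊓ W' ⊓ V)) _ _ fun z hz => absurd ⟨z, rfl⟩ hz.2

theorem support_pushforward_subset (N : Z.Modules) :
    CohB1.support ((Scheme.Modules.pushforward i).obj N) ⊆ Set.range i := fun x hx => by
  by_contra hc
  exact hx (subsingleton_stalk_pushforward_of_notMem_range i N x hc)

end Groth.Agent.CohFinite
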