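import Mathlib.RingTheory.Filtration
import Groth.Agent.QCohLib.NoethObj
import Groth.Agent.QCohLib.Biprod
import Groth.Agent.QCohLib.StalkRestrict

/-!
# Coherent submodules with prescribed stalk

* `exists_sub_affine`: submodule with prescribed sections over an affine open;
* `exists_roof`: a linear map of stalks of coherent modules is induced by a coherent roof;
* `exists_sub_mono`: if `q : K ⟶ B` is injective at `x`, it is a monomorphism on a coherent
  submodule of `K` with the same stalk at `x`.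
-/

universe u

open CategoryTheory CategoryTheory.Limits AlgebraicGeometry TopologicalSpace Opposite

set_option backward.isDefEq.respectTransparency false

namespace Groth.Agent.CohFinite

open Groth.Agent.QCohLib

variable {X : Scheme.{u}}

theorem stalkHom_add {M N : X.Modules} (φ ψ : M ⟶ N) (x : X) (m : M.presheaf.stalk x) :
    stalkHom (φ + ψ) x m = stalkHom φ x m + stalkHom ψ x m := by
  obtain ⟨U, hx, s, rfl⟩ := M.presheaf.exists_germ_eq m
  rw [stalkHom_germ, stalkHom_germ, stalkHom_germ, ← map_add]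
  rfl

theorem biprod_stalk_ext {A B : X.Modules} (x : X) (z : (A ⊞ B).presheaf.stalk x)
    (h₁ : stalkHom (biprod.fst : A ⊞ B ⟶ A) x z = 0)
    (h₂ : stalkHom (biprod.snd : A ⊞ B ⟶ B) x z = 0) : z = 0 := by
  have h : stalkHom (biprod.fst ≫ biprod.inl + biprod.snd ≫ biprod.inr : A ⊞ B ⟶ A ⊞ B) x z =
      stalkHom (𝟙 (A ⊞ B)) x z := congrArg (fun q => stalkHom q x z) biprod.total
  rw [stalkHom_add, stalkHom_comp, stalkHom_comp, h₁, h₂, stalkHom_id, map_zero, map_zero,
    add_zero] at h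
  exact h.symm

/-- A quasi-coherent submodule with prescribed sections over an affine open `U`, having the full
stalk at every point outside a closed set off which the quotient vanishes. -/
theorem exists_sub_affine [IsLocallyNoetherian X] {U : X.Opens} (hU : IsAffineOpen U) (K : X.Modules) [K.IsQuasicoherent]
    (P : Submodule Γ(X, U) Γ(K, U)) :
    ∃ (K' : X.Modules) (ι : K' ⟶ K), Mono ι ∧ K'.IsQuasicoherent ∧
      (∀ s, s ∈ P ↔ ∃ c, ι.app U c = s) ∧
      ∀ C : Set X, IsClosed C →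
        (∀ y ∈ U, y ∉ C → ∃ f : Γ(X, U), y ∈ X.basicOpen f ∧ ∀ m : Γ(K, U), f • m ∈ P) →
        ∀ x ∉ C, Function.Surjective (stalkHom ι x) := by
  let P' : Submodule Γ(X, U) (ΓR (onSpec K hU)) := P.comap (onSpecΓ K hU).toLinearMap
  have hP : ∀ s, (truncMap hU K P').app U s = 0 ↔ s ∈ P := fun s => by
    rw [truncMap_app_eq_zero_iff]
    change (onSpecΓ K hU) ((onSpecΓ K hU).symm s) ∈ P ↔ _
    rw [LinearEquiv.apply_symm_apply]
  let ψ := truncMap hU K P'
  have := isQuasicoherent_tilde_obj (quotObj (ΓR (onSpec K hU)) P')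
  have : ((Scheme.Modules.pushforward hU.fromSpec).obj
      ((tilde.functor Γ(X, U)).obj (quotObj (ΓR (onSpec K hU)) P'))).IsQuasicoherent :=
    isQuasicoherent_pushforward hU.fromSpec
  refine ⟨kernel ψ, kernel.ι ψ, inferInstance, isQuasicoherent_kernel ψ,
    fun s => (hP s).symm.trans (exists_kernel_app_eq _ _ _), ?_⟩
  intro C hC hf x hx m
  obtain ⟨V, hxV, t, rfl⟩ := K.presheaf.exists_germ_eq m
  let V₀ : X.Opens := V ⊓ ⟨Cᶜ, hC.isOpen_compl⟩
  have hz : ψ.app V₀ (K.presheaf.map (homOfLE (inf_le_left : V₀ ≤ V)).op t) = 0 := by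
    refine section_ext (M := (tilde.functor Γ(X, U)).obj (quotObj (ΓR (onSpec K hU)) P'))
      (U := hU.fromSpec ⁻¹ᵁ V₀) _ _ fun p hp => ?_
    have hyU : hU.fromSpec p ∈ U := hU.range_fromSpec.le ⟨p, rfl⟩
    obtain ⟨f, hyf, hfP⟩ := hf _ hyU hp.2
    obtain ⟨g, hg, hyg⟩ := hU.exists_basicOpen_le (V := V₀ ⊓ X.basicOpen f) ⟨_, ⟨hp, hyf⟩⟩ hyU
    have hD : X.basicOpen (g * f) = X.basicOpen g := by
      rw [X.basicOpen_mul, inf_eq_left.mpr (hg.trans inf_le_right)]
    have hDV : X.basicOpen (g * f) ≤ V₀ := hD.le.trans (hg.trans inf_le_left)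
    obtain ⟨n, y, hy⟩ := exists_res_eq_pow_smul hU (g * f) _ (X.basicOpen_le (g * f)) rfl
      (K.presheaf.map (homOfLE (hDV.trans inf_le_left)).op t)
    have h0 : ψ.app U ((g * f) • y) = 0 := (hP _).mpr (by rw [mul_smul]; exact P.smul_mem g (hfP y))
    have h1 := congrArg (Scheme.Modules.presheaf _|>.map (homOfLE (X.basicOpen_le (g * f))).op) h0
    rw [map_zero, ← app_map, Scheme.Modules.map_smul, hy, smul_smul, ← pow_succ',
      Scheme.Modules.Hom.app_smul] at h1
    have hu : IsUnit (X.presheaf.map (homOfLE (X.basicOpen_le (g * f))).op (g * f)) :=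
      X.toRingedSpace.isUnit_res_basicOpen _
    have h2 := (IsUnit.smul_eq_zero (hu.pow (n + 1))).mp h1
    rw [← map_map K hDV inf_le_left t, app_map] at h2
    let N := (tilde.functor Γ(X, U)).obj (quotObj (ΓR (onSpec K hU)) P')
    have hpD : p ∈ hU.fromSpec ⁻¹ᵁ X.basicOpen (g * f) := hD.ge hyg
    rw [← TopCat.Presheaf.germ_res_apply N.presheaf
      (homOfLE ((Opens.map hU.fromSpec.base).map (homOfLE hDV)).le) p hpD]
    refine (congrArg (N.presheaf.germ _ p hpD) h2).trans ?_
    rw [map_zero, map_zero]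
  obtain ⟨c, hc⟩ := (exists_kernel_app_eq ψ V₀ _).mp hz
  refine ⟨(kernel ψ).presheaf.germ V₀ x ⟨hxV, hx⟩ c, ?_⟩
  rw [stalkHom_germ, hc, TopCat.Presheaf.germ_res_apply]

/-- A linear map of stalks is induced by a coherent roof. -/
theorem exists_roof [IsLocallyNoetherian X] {A B : X.Modules} (hA : Coh.IsCoh A) (hB : Coh.IsCoh B)
    (x : X) (φ : A.presheaf.stalk x →ₗ[X.presheaf.stalk x] B.presheaf.stalk x) :
    ∃ (K : X.Modules) (p : K ⟶ A) (q : K ⟶ B), Coh.IsCoh K ∧ Mono (biprod.lift p q) ∧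
      Function.Bijective (stalkHom p x) ∧ ∀ k, stalkHom q x k = φ (stalkHom p x k) := by
  obtain ⟨U, hU, hxU, -⟩ := exists_isAffineOpen_mem_and_subset (U := ⊤) (Opens.mem_top x)
  have := hA.1
  have := hB.1
  have := isQuasicoherent_biprod (M := A) (N := B)
  let α : Γ(A ⊞ B, U) → B.presheaf.stalk x := fun z =>
    φ (A.presheaf.germ U x hxU ((biprod.fst : A ⊞ B ⟶ A).app U z)) -
      B.presheaf.germ U x hxU ((biprod.snd : A ⊞ B ⟶ B).app U z)
  let P : Submodule Γ(X, U) Γ(A ⊞ B, U) :=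
    { carrier := {z | α z = 0}
      add_mem' := fun {a b} ha hb => by
        change α (a + b) = 0
        have : α (a + b) = α a + α b := by simp only [α, map_add]; abel
        rw [this, ha, hb, add_zero]
      zero_mem' := by change α 0 = 0; simp only [α, map_zero, sub_zero]
      smul_mem' := fun r a ha => by
        change α (r • a) = 0
        have : α (r • a) = X.presheaf.germ U x hxU r • α a := by
          simp only [α, Scheme.Modules.Hom.app_smul, germ_smul, map_smul, smul_sub]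
        rw [this, ha, smul_zero] }
  obtain ⟨K, ι, hι, hKq, hsec, -⟩ := exists_sub_affine hU (A ⊞ B) P
  have hKc : Coh.IsCoh K := isCoh_of_mono ι (isCoh_biprod hA hB) hKq
  have key : ∀ k, stalkHom (ι ≫ biprod.snd) x k = φ (stalkHom (ι ≫ biprod.fst) x k) := fun k => by
    obtain ⟨f, c, hxf, hfc⟩ := exists_smul_eq_germ hU x hxU k
    have h : α (ι.app U c) = 0 := (hsec _).mpr ⟨c, rfl⟩
    simp only [α, sub_eq_zero] at h
    have h2 : X.presheaf.germ U x hxU f • stalkHom (ι ≫ biprod.snd) x k =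
        X.presheaf.germ U x hxU f • φ (stalkHom (ι ≫ biprod.fst) x k) := by
      rw [← φ.map_smul, ← stalkHom_smul, ← stalkHom_smul, hfc, stalkHom_germ, stalkHom_germ]
      exact h.symm
    exact ((X.mem_basicOpen f x hxU).mp hxf).smul_left_cancel.mp h2
  refine ⟨K, ι ≫ biprod.fst, ι ≫ biprod.snd, hKc, ?_, ⟨?_, ?_⟩, key⟩
  · have : biprod.lift (ι ≫ biprod.fst) (ι ≫ biprod.snd) = ι := biprod.hom_ext _ _ (biprod.lift_fst _ _) (biprod.lift_snd _ _)
    rwa [this]
  · rw [injective_iff_map_eq_zero]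
    intro k hk
    refine (mono_iff_stalk_injective ι).mp hι x ?_
    rw [map_zero]
    refine biprod_stalk_ext x _ ?_ ?_
    · rw [← stalkHom_comp]; exact hk
    · rw [← stalkHom_comp, key, hk, map_zero]
  · intro m
    obtain ⟨f, s, hxf, hfs⟩ := exists_smul_eq_germ hU x hxU m
    obtain ⟨g, t, hxg, hgt⟩ := exists_smul_eq_germ hU x hxU (φ (A.presheaf.germ U x hxU s))
    let z : Γ(A ⊞ B, U) := (biprod.inl : A ⟶ A ⊞ B).app U (g • s) + (biprod.inr : B ⟶ A ⊞ B).app U t
    have h1 : (biprod.fst : A ⊞ B ⟶ A).app U z = g • s := by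
      simp only [z, map_add, ← CategoryTheory.comp_apply, ← Scheme.Modules.Hom.comp_app,
        biprod.inl_fst, biprod.inr_fst]
      exact add_zero _
    have h2 : (biprod.snd : A ⊞ B ⟶ B).app U z = t := by
      simp only [z, map_add, ← CategoryTheory.comp_apply, ← Scheme.Modules.Hom.comp_app,
        biprod.inl_snd, biprod.inr_snd]
      exact zero_add _
    have hz : α z = 0 := by
      simp only [α, h1, h2, germ_smul, map_smul, hgt, sub_self]
    obtain ⟨c, hc⟩ := (hsec z).mp hz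
    obtain ⟨v, hv⟩ := ((X.mem_basicOpen g x hxU).mp hxg).mul ((X.mem_basicOpen f x hxU).mp hxf)
    refine ⟨(↑v⁻¹ : X.presheaf.stalk x) • K.presheaf.germ U x hxU c, ?_⟩
    rw [stalkHom_smul, stalkHom_germ, Scheme.Modules.Hom.comp_app, CategoryTheory.comp_apply, hc, h1,
      germ_smul, ← hfs, smul_smul, smul_smul, mul_assoc, ← hv, Units.inv_mul, one_smul]

theorem exists_sub_mono_step [IsLocallyNoetherian X] {K B : X.Modules} (hK : Coh.IsCoh K)
    [B.IsQuasicoherent] (q : K ⟶ B) (x : X) (hx : Function.Injective (stalkHom q x))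
    {U : X.Opens} (hU : IsAffineOpen U) :
    ∃ (K' : X.Modules) (ι : K' ⟶ K), Mono ι ∧ Coh.IsCoh K' ∧ Function.Bijective (stalkHom ι x) ∧
      Function.Injective ((ι ≫ q).app U) := by
  have := hK.1
  have hT : Coh.IsCoh (kernel q) := isCoh_kernel q hK inferInstance
  have := hT.1
  have hxT : x ∉ CohB1.support (kernel q) := by
    refine not_not.mpr ⟨fun a b => ?_⟩
    apply (mono_iff_stalk_injective (kernel.ι q)).mp inferInstance x
    apply hx
    rw [← stalkHom_comp, ← stalkHom_comp, kernel.condition, stalkHom_zero, stalkHom_zero]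
  let a : Ideal Γ(X, U) := Module.annihilator Γ(X, U) Γ(kernel q, U)
  let N : Submodule Γ(X, U) Γ(K, U) := LinearMap.range (appLinearMap (kernel.ι q) U)
  have := IsLocallyNoetherian.component_noetherian (X := X) ⟨U, hU⟩
  have := finite_sections K hK.2 hU
  obtain ⟨k, hk⟩ := Ideal.exists_pow_inf_eq_pow_smul a N
  obtain ⟨K', ι, hι, hK'q, hsec, hsurj⟩ :=
    exists_sub_affine hU K (a ^ (k + 1) • (⊤ : Submodule Γ(X, U) Γ(K, U)))
  refine ⟨K', ι, hι, isCoh_of_mono ι hK hK'q, ⟨(mono_iff_stalk_injective ι).mp hι x,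
    hsurj _ (isClosed_support hT.2) (fun y hy hyC => ?_) x hxT⟩, ?_⟩
  · rw [mem_support_iff_mem_moduleSupport hU y hy] at hyC
    have := finite_sections (kernel q) hT.2 hU
    rw [Module.mem_support_iff_of_finite, SetLike.not_le_iff_exists] at hyC
    obtain ⟨f, hfa, hfy⟩ := hyC
    refine ⟨f ^ (k + 1), ?_, fun m => Submodule.smul_mem_smul (Ideal.pow_mem_pow hfa _) trivial⟩
    rw [basicOpen_pow_succ]
    exact (mem_basicOpen_iff_notMem_primeIdealOf hU hy f).mpr hfy
  · rw [injective_iff_map_eq_zero]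
    intro c hc
    refine (mono_iff_app_injective ι).mp hι U ?_
    rw [map_zero]
    obtain ⟨d, hd⟩ := (exists_kernel_app_eq q U _).mp
      (show q.app U (ι.app U c) = 0 from hc)
    have h1 : ι.app U c ∈ a ^ (k + 1) • (⊤ : Submodule Γ(X, U) Γ(K, U)) ⊓ N :=
      ⟨(hsec _).mpr ⟨c, rfl⟩, d, hd⟩
    rw [hk (k + 1) (Nat.le_succ k), Nat.add_sub_cancel_left, pow_one] at h1
    have h2 : a • N = ⊥ := by
      rw [eq_bot_iff, Submodule.smul_le]
      rintro r hr _ ⟨e, rfl⟩
      rw [Submodule.mem_bot, ← map_smul, Module.mem_annihilator.mp hr e, map_zero]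
    exact (Submodule.mem_bot Γ(X, U)).mp (h2 ▸ Submodule.smul_mono le_rfl inf_le_right h1)

/-- If `q : K ⟶ B` is injective at `x`, then `q` is a monomorphism on some coherent submodule of
`K` with the same stalk at `x`. -/
theorem exists_sub_mono [IsNoetherian X] {K B : X.Modules} (hK : Coh.IsCoh K)
    [B.IsQuasicoherent] (q : K ⟶ B) (x : X) (hx : Function.Injective (stalkHom q x)) :
    ∃ (K' : X.Modules) (ι : K' ⟶ K), Mono ι ∧ Coh.IsCoh K' ∧ Function.Bijective (stalkHom ι x) ∧
      Mono (ι ≫ q) := by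
  classical
  obtain ⟨κ, _, W, hW, -, hsup⟩ :=
    exists_finite_affine_cover (X := X) (U := ⊤) CompactSpace.isCompact_univ
  have hcov : ∀ y, ∃ a, y ∈ W a := fun y => Opens.mem_iSup.mp (hsup (Opens.mem_top y))
  suffices h : ∀ s : Finset κ, ∃ (K' : X.Modules) (ι : K' ⟶ K), Mono ι ∧ Coh.IsCoh K' ∧
      Function.Bijective (stalkHom ι x) ∧ ∀ b ∈ s, Function.Injective ((ι ≫ q).app (W b)) by
    obtain ⟨K', ι, h1, h2, h3, h4⟩ := h Finset.univ
    have := h2.1
    exact ⟨K', ι, h1, h2, h3, mono_of_cover_injective W hW hcov _ fun b => h4 b (Finset.mem_univ b)⟩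
  intro s
  induction s using Finset.induction with
  | empty => exact ⟨K, 𝟙 K, inferInstance, hK, (isIso_iff_stalk_bijective (𝟙 K)).mp inferInstance x,
      fun b hb => absurd hb (Finset.notMem_empty b)⟩
  | insert b s _ ih =>
    obtain ⟨K', ι, h1, h2, h3, h4⟩ := ih
    obtain ⟨K'', ι', g1, g2, g3, g4⟩ := exists_sub_mono_step h2 (ι ≫ q) x (fun a c h => by
      rw [stalkHom_comp, stalkHom_comp] at h
      exact h3.1 (hx h)) (hW b)
    refine ⟨K'', ι' ≫ ι, mono_comp _ _, g2, ?_, fun c hc => ?_⟩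
    · refine ⟨fun a c h => ?_, fun m => ?_⟩
      · rw [stalkHom_comp, stalkHom_comp] at h
        exact g3.1 (h3.1 h)
      · obtain ⟨m', rfl⟩ := h3.2 m
        obtain ⟨m'', rfl⟩ := g3.2 m'
        exact ⟨m'', stalkHom_comp _ _ _ _⟩
    · rw [Category.assoc]
      rcases Finset.mem_insert.mp hc with rfl | hc
      · exact g4
      · intro a d h
        exact (mono_iff_app_injective ι').mp g1 (W c) (h4 c hc h)

end Groth.Agent.CohFinite
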