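import Mathlib.AlgebraicGeometry.FunctionField
import Mathlib.AlgebraicGeometry.Noetherian
import Mathlib.RingTheory.Ideal.AssociatedPrime.Basic
import Groth.Agent.InvBasic.QCoh
import Groth.Agent.CohFinite.AnnIdeal
import Groth.Agent.CohFinite.Sub

/-!
# Generic points of integral closed subschemes and the module `i_* O_Z`

* `exists_integral_subscheme`;
* `subsingleton_stalk_imp_isZero`: submodules of `i_* O_Z` are pure;
* `genMap`: `O_{X,ξ} → (i_* O_Z)_ξ` surjective with kernel the maximal ideal;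
* `exists_associated`: a nonzero coherent module has an associated point;
* `stalk_killed_of_killedByIdeal`.
-/

universe u

open CategoryTheory CategoryTheory.Limits AlgebraicGeometry TopologicalSpace Opposite

set_option backward.isDefEq.respectTransparency false

namespace Groth.Agent.CohFinite

open Groth.Agent.QCohLib

variable {X : Scheme.{u}}

theorem isReduced_vanishingIdeal (C : Closeds X) :
    IsReduced (Scheme.IdealSheafData.vanishingIdeal C).subscheme := by
  let I := Scheme.IdealSheafData.vanishingIdeal C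
  have : ∀ i, IsReduced (I.subschemeCover.openCover.X i) := fun U => by
    change IsReduced (Spec (CommRingCat.of (Γ(X, U.1) ⧸ I.ideal U)))
    have : _root_.IsReduced (Γ(X, U.1) ⧸ I.ideal U) := by
      rw [← Ideal.isRadical_iff_quotient_reduced]
      simp only [I]
      exact PrimeSpectrum.isRadical_vanishingIdeal _
    infer_instance
  exact AlgebraicGeometry.IsReduced.of_openCover (X := _) I.subschemeCover.openCover

theorem range_vanishingIdeal_subschemeι {C : Set X} (hC : IsClosed C) :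
    Set.range (Scheme.IdealSheafData.vanishingIdeal (⟨C, hC⟩ : Closeds X)).subschemeι = C := by
  rw [Scheme.IdealSheafData.range_subschemeι, Scheme.IdealSheafData.coe_support_vanishingIdeal]
  rfl

theorem isIntegral_vanishingIdeal {C : Set X} (hC : IsClosed C) (hirr : IsIrreducible C) :
    IsIntegral (Scheme.IdealSheafData.vanishingIdeal (⟨C, hC⟩ : Closeds X)).subscheme := by
  let i := (Scheme.IdealSheafData.vanishingIdeal (⟨C, hC⟩ : Closeds X)).subschemeι
  have := isReduced_vanishingIdeal (⟨C, hC⟩ : Closeds X)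
  have : IrreducibleSpace (Scheme.IdealSheafData.vanishingIdeal (⟨C, hC⟩ : Closeds X)).subscheme := by
    have hr : Set.range i = C := range_vanishingIdeal_subschemeι hC
    rw [irreducibleSpace_def, Set.top_eq_univ]
    refine ⟨?_, fun u v hu hv hnu hnv => ?_⟩
    · obtain ⟨c, hc⟩ := hirr.nonempty
      rw [← hr] at hc
      obtain ⟨z, -⟩ := hc
      exact ⟨z, trivial⟩
    · obtain ⟨u', hu', rfl⟩ := i.isClosedEmbedding.isInducing.isOpen_iff.mp hu
      obtain ⟨v', hv', rfl⟩ := i.isClosedEmbedding.isInducing.isOpen_iff.mp hv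
      obtain ⟨a, -, ha⟩ := hnu
      obtain ⟨b, -, hb⟩ := hnv
      obtain ⟨c, hc, hcu, hcv⟩ := hirr.2 u' v' hu' hv' ⟨i a, hr.le ⟨a, rfl⟩, ha⟩
        ⟨i b, hr.le ⟨b, rfl⟩, hb⟩
      rw [← hr] at hc
      obtain ⟨z, rfl⟩ := hc
      exact ⟨z, trivial, hcu, hcv⟩
  exact isIntegral_of_irreducibleSpace_of_isReduced _

theorem exists_integral_subscheme (ξ : X) :
    ∃ (Z : Scheme.{u}) (i : Z ⟶ X), IsClosedImmersion i ∧ IsIntegral Z ∧
      Set.range i = closure {ξ} :=
  ⟨_, _, inferInstance, isIntegral_vanishingIdeal isClosed_closure isIrreducible_singleton.closure,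
    range_vanishingIdeal_subschemeι isClosed_closure⟩

variable {Z : Scheme.{u}} [IsIntegral Z] (i : Z ⟶ X) [IsClosedImmersion i]

theorem closure_genericPoint : closure {i (genericPoint Z)} = Set.range i := by
  rw [← Set.image_singleton, i.isClosedEmbedding.closure_image_eq, genericPoint_closure,
    Set.image_univ]

theorem eq_image_genericPoint {ξ : X} (h : closure {ξ} = Set.range i) : ξ = i (genericPoint Z) :=
  (show IsGenericPoint ξ (Set.range i) from h).eq (closure_genericPoint i)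

/-- A quasi-coherent submodule of `i_* O_Z` with vanishing stalk at the generic point is zero. -/
theorem isZero_of_subsingleton_stalk_generic {K : X.Modules}
    (k : K ⟶ (Coh.push i).obj (Coh.structureModule Z)) [Mono k]
    (h : Subsingleton (K.presheaf.stalk (i (genericPoint Z)))) : IsZero K := by
  rw [IsZero.iff_id_eq_zero]
  refine Scheme.Modules.hom_ext _ _ fun V => ?_
  ext s
  change s = 0
  refine (mono_iff_app_injective k).mp inferInstance V ?_
  rw [map_zero]
  by_cases hη : i (genericPoint Z) ∈ V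
  · obtain ⟨W, hW, iW, iW', e⟩ := K.presheaf.germ_eq (i (genericPoint Z)) hη hη s 0
      (@Subsingleton.elim _ h _ _)
    rw [map_zero] at e
    have h1 := app_map k iW.le s
    rw [show (homOfLE iW.le) = iW from Subsingleton.elim _ _, e, map_zero] at h1
    let r : Γ(Z, i ⁻¹ᵁ V) := k.app V s
    have h2 : Z.presheaf.germ (i ⁻¹ᵁ V) (genericPoint Z) hη r = 0 := by
      rw [← TopCat.Presheaf.germ_res_apply Z.presheaf
        (homOfLE (show i ⁻¹ᵁ W ≤ i ⁻¹ᵁ V from fun z hz => iW.le hz)) (genericPoint Z) hW r]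
      refine (congrArg (Z.presheaf.germ _ _ hW) ?_).trans (map_zero _)
      exact h1.symm
    exact germ_injective_of_isIntegral Z (genericPoint Z) hη (h2.trans (map_zero _).symm)
  · refine section_ext (M := Coh.structureModule Z) (U := i ⁻¹ᵁ V) _ _ fun z hz => ?_
    exact absurd ((genericPoint_specializes z).mem_open (i ⁻¹ᵁ V).2 hz) hη

theorem isCoh_pushforward_structureModule [IsLocallyNoetherian X] :
    Coh.IsCoh ((Coh.push i).obj (Coh.structureModule Z)) := by
  refine isCoh_pushforward i (isCoh_iff.mpr ⟨InvBasic.isQuasicoherent_structureModule Z, fun U => ?_⟩)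
  exact inferInstanceAs (Module.Finite Γ(Z, U.1) Γ(Z, U.1))

/-- `O_{X,ξ} → (i_* O_Z)_ξ` at the generic point of `Z`. -/
noncomputable def genMap :
    X.presheaf.stalk (i (genericPoint Z)) →ₗ[X.presheaf.stalk (i (genericPoint Z))]
      ((Coh.push i).obj (Coh.structureModule Z)).presheaf.stalk (i (genericPoint Z)) :=
  LinearMap.toSpanSingleton _ _
    (((Coh.push i).obj (Coh.structureModule Z)).presheaf.germ ⊤ (i (genericPoint Z)) trivial
      (show Γ(Z, i ⁻¹ᵁ ⊤) from 1))

theorem genMap_germ (U : X.Opens) (hξ : i (genericPoint Z) ∈ U) (a : Γ(X, U)) :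
    genMap i (X.presheaf.germ U _ hξ a) =
      ((Coh.push i).obj (Coh.structureModule Z)).presheaf.germ U (i (genericPoint Z)) hξ
        (show Γ(Z, i ⁻¹ᵁ U) from i.app U a) := by
  let A := (Coh.push i).obj (Coh.structureModule Z)
  rw [genMap, LinearMap.toSpanSingleton_apply,
    ← TopCat.Presheaf.germ_res_apply A.presheaf (homOfLE (le_top : U ≤ ⊤)) _ hξ, ← germ_smul]
  congr 1
  change i.app U a * Z.presheaf.map (homOfLE _).op 1 = _
  rw [map_one, mul_one]

theorem genMap_surjective : Function.Surjective (genMap i) := by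
  intro m
  let A := (Coh.push i).obj (Coh.structureModule Z)
  obtain ⟨V, hV, t, rfl⟩ := A.presheaf.exists_germ_eq m
  obtain ⟨U, hU, hξU, hUV⟩ := exists_isAffineOpen_mem_and_subset hV
  obtain ⟨a, ha⟩ := i.app_surjective U hU
    (Z.presheaf.map (homOfLE (show i ⁻¹ᵁ U ≤ i ⁻¹ᵁ V from fun z hz => hUV hz)).op t)
  refine ⟨X.presheaf.germ U _ hξU a, ?_⟩
  rw [genMap_germ, ← TopCat.Presheaf.germ_res_apply A.presheaf (homOfLE hUV : U ⟶ V) _ hξU t]
  exact congrArg (A.presheaf.germ U _ hξU) ha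

theorem ker_genMap :
    LinearMap.ker (genMap i) = IsLocalRing.maximalIdeal (X.presheaf.stalk (i (genericPoint Z))) := by
  have hne : LinearMap.ker (genMap i) ≠ ⊤ := by
    intro h
    have h1 : genMap i (X.presheaf.germ ⊤ (i (genericPoint Z)) trivial 1) = 0 :=
      LinearMap.mem_ker.mp (h ▸ trivial)
    rw [genMap_germ] at h1
    obtain ⟨W, hW, iW, iW', e⟩ := ((Coh.push i).obj (Coh.structureModule Z)).presheaf.germ_eq
      (U := (⊤ : X.Opens)) (V := (⊤ : X.Opens)) (i (genericPoint Z)) trivial trivial _ 0 (h1.trans (map_zero _).symm)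
    rw [map_zero] at e
    have h2 : (1 : Γ(Z, i ⁻¹ᵁ W)) = 0 := by
      refine Eq.trans ?_ e
      change 1 = Z.presheaf.map _ (i.app ⊤ 1)
      rw [map_one, map_one]
    have := congrArg (Z.presheaf.germ (i ⁻¹ᵁ W) (genericPoint Z) hW) h2
    rw [map_one, map_zero] at this
    exact one_ne_zero this
  refine le_antisymm (IsLocalRing.le_maximalIdeal hne) fun r hr => ?_
  obtain ⟨V, hV, a, rfl⟩ := X.presheaf.exists_germ_eq r
  rw [LinearMap.mem_ker, genMap_germ]
  have h0 : i.app V a = 0 := by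
    rw [← basicOpen_eq_bot_iff, ← Scheme.preimage_basicOpen]
    refine Opens.ext (Set.eq_empty_iff_forall_notMem.mpr fun z hz => ?_)
    have hη : i (genericPoint Z) ∈ X.basicOpen a :=
      (genericPoint_specializes z).mem_open (i ⁻¹ᵁ X.basicOpen a).2 hz
    exact hr ((X.mem_basicOpen a _ hV).mp hη)
  rw [h0]
  exact map_zero _

omit i in
/-- A nonzero coherent module has an associated point. -/
theorem exists_associated [IsLocallyNoetherian X] {C : X.Modules} (hC : Coh.IsCoh C)
    (hne : ¬ IsZero C) :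
    ∃ (ξ : X) (v : C.presheaf.stalk ξ), v ≠ 0 ∧
      ∀ r ∈ IsLocalRing.maximalIdeal (X.presheaf.stalk ξ), r • v = 0 := by
  have := hC.1
  have : ∃ y : X, ¬ Subsingleton (C.presheaf.stalk y) := by
    by_contra hc
    push Not at hc
    exact hne (isZero_of_subsingleton_stalk hc)
  obtain ⟨y, hy⟩ := this
  obtain ⟨U, hU, hyU, -⟩ := exists_isAffineOpen_mem_and_subset (U := ⊤) (Opens.mem_top y)
  have := IsLocallyNoetherian.component_noetherian (X := X) ⟨U, hU⟩
  have : Nontrivial Γ(C, U) := by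
    rw [← not_subsingleton_iff_nontrivial]
    intro h
    refine hy ((subsingleton_stalk_iff hU y hyU).mpr fun s => ⟨1, ?_, Subsingleton.elim _ _⟩)
    rw [X.mem_basicOpen 1 y hyU, map_one]
    exact isUnit_one
  obtain ⟨p, hp⟩ := associatedPrimes.nonempty Γ(X, U) Γ(C, U)
  obtain ⟨hpp, s, hs⟩ := isAssociatedPrime_iff.mp hp
  let q : PrimeSpectrum Γ(X, U) := ⟨p, hpp⟩
  let ξ := hU.fromSpec q
  have hξU : ξ ∈ U := hU.range_fromSpec.le ⟨q, rfl⟩
  have hq : hU.primeIdealOf ⟨ξ, hξU⟩ = q :=
    hU.fromSpec.isOpenEmbedding.injective (hU.fromSpec_primeIdealOf ⟨ξ, hξU⟩)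
  have hmem : ∀ r : Γ(X, U), r ∈ p ↔ r • s = 0 := fun r => by
    rw [hs, Submodule.mem_colon_singleton, Submodule.mem_bot]
  refine ⟨ξ, C.presheaf.germ U ξ hξU s, fun h => ?_, fun r hr => ?_⟩
  · obtain ⟨f, hf, hfs⟩ := (germ_eq_zero_iff hU ξ hξU s).mp h
    rw [mem_basicOpen_iff_notMem_primeIdealOf hU hξU, hq] at hf
    exact hf ((hmem f).mpr hfs)
  · let : Algebra Γ(X, U) (X.presheaf.stalk ξ) := (X.presheaf.germ U ξ hξU).hom.toAlgebra
    have hloc : IsLocalization.AtPrime (X.presheaf.stalk ξ) (hU.primeIdealOf ⟨ξ, hξU⟩).asIdeal :=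
      hU.isLocalization_stalk ⟨ξ, hξU⟩
    obtain ⟨⟨a, v⟩, hav⟩ := IsLocalization.surj (hU.primeIdealOf ⟨ξ, hξU⟩).asIdeal.primeCompl r
    have ha : a ∈ p := by
      by_contra hc
      have hu := IsLocalization.map_units (X.presheaf.stalk ξ)
        (⟨a, by rw [hq]; exact hc⟩ : (hU.primeIdealOf ⟨ξ, hξU⟩).asIdeal.primeCompl)
      rw [← hav] at hu
      exact hr (isUnit_of_mul_isUnit_left hu)
    have h1 : algebraMap Γ(X, U) (X.presheaf.stalk ξ) a • C.presheaf.germ U ξ hξU s = 0 :=
      (germ_smul U ξ hξU a s).symm.trans (by rw [(hmem a).mp ha, map_zero])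
    rw [← hav, mul_comm, mul_smul] at h1
    exact (IsLocalization.map_units (X.presheaf.stalk ξ) v).smul_eq_zero.mp h1

omit i in
theorem stalk_killed_of_killedByIdeal (ξ : X) {C : Set X} (hC : IsClosed C) (hξ : closure {ξ} = C)
    (G : X.Modules) [G.IsQuasicoherent]
    (h : ClSub.KilledByIdeal (Scheme.IdealSheafData.vanishingIdeal ⟨C, hC⟩) G)
    (r : X.presheaf.stalk ξ) (hr : r ∈ IsLocalRing.maximalIdeal (X.presheaf.stalk ξ))
    (m : G.presheaf.stalk ξ) : r • m = 0 := by
  obtain ⟨V, hV, a, rfl⟩ := X.presheaf.exists_germ_eq r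
  obtain ⟨U, hU, hξU, hUV⟩ := exists_isAffineOpen_mem_and_subset hV
  obtain ⟨f, s, hf, hfs⟩ := exists_smul_eq_germ hU ξ hξU m
  refine ((X.mem_basicOpen f ξ hξU).mp hf).smul_eq_zero.mp ?_
  rw [smul_comm, hfs, ← TopCat.Presheaf.germ_res_apply X.presheaf (homOfLE hUV : U ⟶ V) ξ hξU a,
    ← germ_smul, h ⟨U, hU⟩ _ ?_ s, map_zero]
  rw [Scheme.IdealSheafData.vanishingIdeal_ideal, PrimeSpectrum.mem_vanishingIdeal]
  intro y hy
  by_contra hc
  have h1 : hU.fromSpec y ∈ X.basicOpen (X.presheaf.map (homOfLE hUV).op a) := by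
    rw [← hU.fromSpec_image_basicOpen]
    exact ⟨y, hc, rfl⟩
  have h2 : ξ ⤳ hU.fromSpec y := specializes_iff_mem_closure.mpr (hξ ▸ hy)
  have h3 := (X.basicOpen_res (U := V) a (homOfLE hUV).op).le (h2.mem_open (X.basicOpen _).2 h1)
  exact hr ((X.mem_basicOpen a ξ hV).mp h3.2)

end Groth.Agent.CohFinite
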