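import Mathlib.Topology.NoetherianSpace
import Mathlib.RingTheory.Ideal.Quotient.Basic
import Groth.Agent.CohFinite.Generic
import Groth.Agent.QCohLib.CohLocal

/-!
# Dévissage of coherent modules

* `exists_step`: a nonzero coherent module contains a coherent submodule `K` which is an extension
  of a module `i_* I` (`I` a nonzero ideal on an integral closed subscheme) by a module with smaller
  support;
* `devissage_ext`: a property closed under extensions holding for all such `i_* I` holds for all
  coherent modules.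
-/

universe u

open CategoryTheory CategoryTheory.Limits AlgebraicGeometry TopologicalSpace Opposite

set_option backward.isDefEq.respectTransparency false

namespace Groth.Agent.CohFinite

open Groth.Agent.QCohLib

variable {X : Scheme.{u}}

theorem shortExact_kernel {M N : X.Modules} (f : M ⟶ N) :
    (ShortComplex.mk (kernel.ι f) (Abelian.factorThruImage f)
      (by rw [← cancel_mono (Abelian.image.ι f), Category.assoc, Abelian.image.fac, kernel.condition,
        zero_comp])).ShortExact :=
  { exact := ShortComplex.exact_of_f_is_kernel _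
      (isKernelOfComp (Abelian.image.ι f) f (kernelIsKernel f) _ (Abelian.image.fac f)) }

theorem shortExact_cokernel {M N : X.Modules} (f : M ⟶ N) [Mono f] :
    (ShortComplex.mk f (cokernel.π f) (cokernel.condition f)).ShortExact :=
  { exact := ShortComplex.exact_cokernel f }

theorem support_subset_of_mono {M N : X.Modules} (f : M ⟶ N) [Mono f] :
    CohB1.support M ⊆ CohB1.support N := fun x hx h => by
  exact hx ((mono_iff_stalk_injective f).mp inferInstance x).subsingleton

theorem support_subset_of_epi {M N : X.Modules} (f : M ⟶ N) [Epi f] :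
    CohB1.support N ⊆ CohB1.support M := fun x hx h => by
  exact hx ((epi_iff_stalk_surjective f).mp inferInstance x).subsingleton

theorem support_eq_of_iso {M N : X.Modules} (e : M ≅ N) : CohB1.support M = CohB1.support N :=
  Set.Subset.antisymm (support_subset_of_mono e.hom) (support_subset_of_mono e.inv)

theorem notMem_support_kernel {M N : X.Modules} (f : M ⟶ N) (x : X)
    (h : Function.Injective (stalkHom f x)) : x ∉ CohB1.support (kernel f) := by
  refine not_not.mpr ⟨fun a b => ?_⟩
  apply (mono_iff_stalk_injective (kernel.ι f)).mp inferInstance x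
  apply h
  rw [← stalkHom_comp, ← stalkHom_comp, kernel.condition, stalkHom_zero, stalkHom_zero]

theorem notMem_support_cokernel {M N : X.Modules} (f : M ⟶ N) (x : X)
    (h : Function.Surjective (stalkHom f x)) : x ∉ CohB1.support (cokernel f) := by
  refine not_not.mpr ⟨fun a b => ?_⟩
  obtain ⟨a, rfl⟩ := (epi_iff_stalk_surjective (cokernel.π f)).mp inferInstance x a
  obtain ⟨b, rfl⟩ := (epi_iff_stalk_surjective (cokernel.π f)).mp inferInstance x b
  rw [(stalk_cokernel_exact f x a).mpr (h a), (stalk_cokernel_exact f x b).mpr (h b)]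

/-- Linear injection of `(i_* O_Z)_ξ` attached to an element killed by the maximal ideal. -/
theorem exists_genHom {Z : Scheme.{u}} [IsIntegral Z] (i : Z ⟶ X) [IsClosedImmersion i]
    {C : X.Modules} (v : C.presheaf.stalk (i (genericPoint Z))) (hv : v ≠ 0)
    (hk : ∀ r ∈ IsLocalRing.maximalIdeal (X.presheaf.stalk (i (genericPoint Z))), r • v = 0) :
    ∃ φ : ((Coh.push i).obj (Coh.structureModule Z)).presheaf.stalk (i (genericPoint Z))
      →ₗ[X.presheaf.stalk (i (genericPoint Z))] C.presheaf.stalk (i (genericPoint Z)),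
      Function.Injective φ := by
  let t := LinearMap.toSpanSingleton (X.presheaf.stalk (i (genericPoint Z)))
    (C.presheaf.stalk (i (genericPoint Z))) v
  have hker : LinearMap.ker (genMap i) = LinearMap.ker t := by
    rw [ker_genMap]
    refine le_antisymm (fun r hr => hk r hr) (IsLocalRing.le_maximalIdeal fun h => hv ?_)
    have : (1 : X.presheaf.stalk (i (genericPoint Z))) ∈ LinearMap.ker t := h ▸ trivial
    exact (one_smul _ v).symm.trans this
  refine ⟨(Submodule.liftQ _ t hker.le).comp
    ((genMap i).quotKerEquivOfSurjective (genMap_surjective i)).symm.toLinearMap, ?_⟩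
  rw [LinearMap.coe_comp]
  exact (LinearMap.ker_eq_bot.mp (Submodule.ker_liftQ_eq_bot _ t hker.le hker.ge)).comp
    (LinearEquiv.injective _)

/-- A nonzero coherent module contains an extension of `i_* I` by a module with smaller support. -/
theorem exists_step [IsLocallyNoetherian X] {C : X.Modules} (hC : Coh.IsCoh C) (hne : ¬ IsZero C) :
    ∃ (Z : Scheme.{u}) (i : Z ⟶ X) (_ : IsClosedImmersion i) (_ : IsIntegral Z) (I : Z.Modules)
      (ι : I ⟶ Coh.structureModule Z) (K : X.Modules) (k : K ⟶ C) (S : ShortComplex X.Modules),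
      Mono ι ∧ Coh.IsQCoh I ∧ ¬ IsZero I ∧ Coh.IsCoh K ∧ Mono k ∧ ¬ IsZero K ∧ S.ShortExact ∧
      Coh.IsCoh S.X₁ ∧ S.X₂ = K ∧ Nonempty (S.X₃ ≅ (Coh.push i).obj I) ∧
      Set.range i ⊆ CohB1.support C ∧ CohB1.support S.X₁ ⊆ CohB1.support C ∧
      CohB1.support S.X₁ ≠ CohB1.support C := by
  obtain ⟨ξ, v, hv, hk⟩ := exists_associated hC hne
  obtain ⟨Z, i, hi, hZ, hr⟩ := exists_integral_subscheme ξ
  obtain rfl := eq_image_genericPoint i hr.symm
  obtain ⟨φ, hφ⟩ := exists_genHom i v hv hk
  have hA := isCoh_pushforward_structureModule i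
  obtain ⟨K, p, q, hK, hpq, hp, hq⟩ := exists_roof hA hC _ φ
  have := hA.1
  have := hC.1
  have := hK.1
  have hqi : Function.Injective (stalkHom q (i (genericPoint Z))) := fun a b h =>
    hp.1 (hφ (by rw [← hq, ← hq, h]))
  have hKne : ¬ Subsingleton (K.presheaf.stalk (i (genericPoint Z))) := by
    intro h
    have h1 : genMap i 1 = 0 := by
      obtain ⟨a, ha⟩ := hp.2 (genMap i 1)
      rw [← ha, Subsingleton.elim a 0, map_zero]
    have h2 : (1 : X.presheaf.stalk (i (genericPoint Z))) ∈ LinearMap.ker (genMap i) := h1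
    rw [ker_genMap] at h2
    exact h2 isUnit_one
  have hKz : ¬ IsZero K := fun h => hKne (subsingleton_stalk_of_isZero h _)
  have hmq : Mono q := by
    refine Preadditive.mono_of_kernel_zero ?_
    have : Mono (kernel.ι q ≫ p) := ⟨fun a b h => by
      rw [← cancel_mono (kernel.ι q), ← cancel_mono (biprod.lift p q)]
      refine biprod.hom_ext _ _ ?_ ?_ <;> simp only [Category.assoc, biprod.lift_fst, biprod.lift_snd]
      · exact h
      · rw [kernel.condition, comp_zero, comp_zero]⟩
    exact (isZero_of_subsingleton_stalk_generic i (kernel.ι q ≫ p)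
      (not_not.mp (notMem_support_kernel q _ hqi))).eq_of_src _ _
  have := isQuasicoherent_image p
  have := InvBasic.isQuasicoherent_structureModule Z
  obtain ⟨I, ι, e, hI, hι, -⟩ :=
    exists_mono_of_mono_pushforward i (Coh.structureModule Z) (Abelian.image p) (Abelian.image.ι p)
  have hIne : ¬ IsZero I := fun h => hKne ⟨fun a b => by
    have hz : IsZero (Abelian.image p) := ((Scheme.Modules.pushforward i).map_isZero h).of_iso e
    have h0 : p = 0 := by rw [← Abelian.image.fac p, hz.eq_of_tgt (Abelian.factorThruImage p) 0, zero_comp]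
    apply hp.1
    rw [h0, stalkHom_zero, stalkHom_zero]⟩
  refine ⟨Z, i, hi, hZ, I, ι, K, q, ShortComplex.mk (kernel.ι p) (Abelian.factorThruImage p) _,
    hι, hI, hIne, hK, hmq, hKz, shortExact_kernel p, isCoh_kernel p hK hA.1, rfl, ⟨e⟩, ?_, ?_, ?_⟩
  · rw [← closure_genericPoint i]
    refine closure_minimal (Set.singleton_subset_iff.mpr ?_) (isClosed_support hC.2)
    exact fun h => hv (@Subsingleton.elim _ h _ _)
  · exact (support_subset_of_mono (kernel.ι p)).trans (support_subset_of_mono q)
  · intro h
    exact notMem_support_kernel p (i (genericPoint Z)) hp.1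
      (h.symm ▸ fun hs => hv (@Subsingleton.elim _ hs _ _))

theorem isCoh_push_ideal {Z : Scheme.{u}} [IsLocallyNoetherian X] (i : Z ⟶ X) [IsClosedImmersion i]
    {I : Z.Modules} (ι : I ⟶ Coh.structureModule Z) [Mono ι] (hI : Coh.IsQCoh I) :
    Coh.IsCoh ((Coh.push i).obj I) := by
  have := LocallyOfFiniteType.isLocallyNoetherian i
  refine isCoh_pushforward i (isCoh_of_mono ι ?_ hI)
  refine isCoh_iff.mpr ⟨InvBasic.isQuasicoherent_structureModule Z, fun U => ?_⟩
  exact inferInstanceAs (Module.Finite Γ(Z, U.1) Γ(Z, U.1))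

/-- Dévissage for a property closed under extensions. -/
theorem devissage_ext [IsNoetherian X] (P : X.Modules → Prop)
    (hiso : ∀ M N : X.Modules, Nonempty (M ≅ N) → P M → P N)
    (hzero : ∀ M : X.Modules, IsZero M → P M) {X' : Set X}
    (hext : ∀ S : ShortComplex X.Modules, S.ShortExact → Coh.IsCoh S.X₁ → Coh.IsCoh S.X₂ →
      Coh.IsCoh S.X₃ → CohB1.support S.X₂ ⊆ X' → P S.X₁ → P S.X₃ → P S.X₂)
    (hgen : ∀ (Z : Scheme.{u}) (i : Z ⟶ X) [IsClosedImmersion i] [IsIntegral Z], Set.range i ⊆ X' →
      ∀ (I : Z.Modules) (ι : I ⟶ Coh.structureModule Z), Mono ι → Coh.IsQCoh I → ¬ IsZero I →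
        P ((Coh.push i).obj I))
    (M : X.Modules) (hM : Coh.IsCoh M) (hs : CohB1.support M ⊆ X') : P M := by
  suffices h : ∀ (Y : Closeds X), ∀ (M : X.Modules), Coh.IsCoh M → CohB1.support M = Y →
      (Y : Set X) ⊆ X' → P M from h ⟨_, isClosed_support hM.2⟩ M hM rfl hs
  intro Y
  induction Y using WellFoundedLT.induction with
  | _ Y IH =>
    intro M hM hMY hY
    by_contra hP
    let S := {N : Subobject M // (N : X.Modules).IsQuasicoherent ∧ P (N : X.Modules)}
    have hnext : ∀ N : S, ∃ N' : S, N.1 < N'.1 := by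
      intro ⟨N, hNq, hNP⟩
      have hNc : Coh.IsCoh (N : X.Modules) := isCoh_of_mono N.arrow hM hNq
      have hMq := hM.1
      have hC : Coh.IsCoh (cokernel N.arrow) :=
        isCoh_cokernel N.arrow hNq hM
      by_cases hz : IsZero (cokernel N.arrow)
      · have : Epi N.arrow := Preadditive.epi_of_cokernel_zero (hz.eq_of_tgt _ _)
        have : IsIso N.arrow := isIso_of_mono_of_epi _
        exact absurd (hiso _ _ ⟨asIso N.arrow⟩ hNP) hP
      obtain ⟨Z, i, _, _, I, ι, K, k, T, hι, hI, hI0, hK, hk, hK0, hT, hT1, rfl, ⟨e⟩, hr, hs1, hs2⟩ :=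
        exists_step hC hz
      have hCM : CohB1.support (cokernel N.arrow) ⊆ CohB1.support M :=
        support_subset_of_epi (cokernel.π N.arrow)
      have hPI : P T.X₃ := hiso _ _ ⟨e.symm⟩ (hgen Z i ((hr.trans hCM).trans (hMY.le.trans hY)) I ι hι hI hI0)
      have hlt : (⟨_, isClosed_support hT1.2⟩ : Closeds X) < Y := by
        refine lt_of_le_of_ne ((hs1.trans hCM).trans hMY.le) fun h => hs2 ?_
        have h' : CohB1.support T.X₁ = (Y : Set X) := congrArg (fun C : Closeds X => (C : Set X)) h
        exact hs1.antisymm (hCM.trans (hMY.le.trans h'.ge))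
      have hT3 : Coh.IsCoh T.X₃ := isCoh_of_iso e.symm (isCoh_push_ideal i ι hI)
      have hPK : P T.X₂ := hext T hT hT1 hK hT3
        (((support_subset_of_mono k).trans hCM).trans (hMY.le.trans hY))
        (IH _ hlt _ hT1 rfl ((hs1.trans hCM).trans (hMY.le.trans hY))) hPI
      have := hC.1
      let N' := pullback (cokernel.π N.arrow) k
      have hN' : Coh.IsCoh N' := isCoh_pullback_limit (cokernel.π N.arrow) k hM hK
      have : Mono (pullback.fst (cokernel.π N.arrow) k) := inferInstance
      let a : (N : X.Modules) ⟶ N' :=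
        pullback.lift N.arrow 0 (by rw [cokernel.condition, zero_comp])
      have : Mono a := mono_of_mono_fac (pullback.lift_fst N.arrow 0 _)
      let T' := ShortComplex.mk a (pullback.snd (cokernel.π N.arrow) k) (pullback.lift_snd _ _ _)
      have hT' : T'.ShortExact :=
        { exact := by
            refine ShortComplex.exact_of_f_is_kernel _ (KernelFork.IsLimit.ofι' _ _ fun g hg => ?_)
            have h1 : (g ≫ pullback.fst (cokernel.π N.arrow) k) ≫ cokernel.π N.arrow = 0 := by
              rw [Category.assoc, pullback.condition, reassoc_of% hg, zero_comp]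
            refine ⟨Abelian.monoLift N.arrow _ h1, pullback.hom_ext ?_ ?_⟩
            · rw [Category.assoc, pullback.lift_fst, Abelian.monoLift_comp]
            · rw [Category.assoc, pullback.lift_snd, comp_zero]
              exact hg.symm }
      have hPN' : P N' := hext T' hT' hNc hN' hK
        ((support_subset_of_mono (pullback.fst (cokernel.π N.arrow) k)).trans (hMY.le.trans hY))
        hNP hPK
      let e' := Subobject.underlyingIso (pullback.fst (cokernel.π N.arrow) k)
      refine ⟨⟨Subobject.mk (pullback.fst (cokernel.π N.arrow) k),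
        have := hN'.1; isQuasicoherent_of_iso e'.symm, hiso _ _ ⟨e'.symm⟩ hPN'⟩, ?_⟩
      refine lt_of_le_of_ne (Subobject.le_mk_of_comm a (pullback.lift_fst _ _ _)) fun h => hK0 ?_
      obtain ⟨b, hb⟩ : ∃ b : N' ⟶ (N : X.Modules), b ≫ N.arrow = pullback.fst (cokernel.π N.arrow) k :=
        ⟨e'.inv ≫ Subobject.ofLE _ _ h.ge, by
          rw [Category.assoc, Subobject.ofLE_arrow, Subobject.underlyingIso_arrow]⟩
      rw [IsZero.iff_id_eq_zero, ← cancel_epi (pullback.snd (cokernel.π N.arrow) k),
        ← cancel_mono k, Category.assoc, Category.assoc, Category.id_comp, zero_comp, comp_zero,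
        ← pullback.condition, ← hb, Category.assoc, cokernel.condition, comp_zero]
    have hbot : ((⊥ : Subobject M) : X.Modules).IsQuasicoherent ∧ P ((⊥ : Subobject M) : X.Modules) :=
      have hz : IsZero ((⊥ : Subobject M) : X.Modules) :=
        (isZero_zero _).of_iso Subobject.botCoeIsoZero
      ⟨isQuasicoherent_of_isZero hz, hzero _ hz⟩
    choose next hlt using hnext
    let F : ℕ → S := fun n => next^[n] ⟨⊥, hbot⟩
    have hmono : StrictMono fun n => (F n).1 := strictMono_nat_of_lt_succ fun n => by
      change (F n).1 < (next^[n + 1] ⟨⊥, hbot⟩).1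
      rw [Function.iterate_succ_apply']
      exact hlt _
    obtain ⟨n, hn⟩ := subobject_chain_stabilizes hM ⟨fun n => (F n).1, hmono.monotone⟩
      fun n => (F n).2.1
    exact (hmono (Nat.lt_succ_self n)).ne (hn (n + 1) (Nat.le_succ n)).symm

end Groth.Agent.CohFinite
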