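import Mathlib.Algebra.Module.Torsion.Basic
import Mathlib.LinearAlgebra.Dimension.Free
import Mathlib.LinearAlgebra.FreeModule.Finite.Matrix
import Mathlib.RingTheory.Length
import Mathlib.CategoryTheory.Preadditive.Biproducts
import Groth.Agent.CohFinite.Devissage

/-!
# Dévissage from generic test modules

* `exists_pow_roof`: a coherent `G` with generic stalk killed by the maximal ideal agrees, on a
  coherent submodule with the same generic stalk, with a submodule of `(i_* I)^r`;
* `devissage_generic`: the general dévissage statement;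
* `devissage_two_of_three`: the corollary for properties with the two-out-of-three rule.
-/

universe u

open CategoryTheory CategoryTheory.Limits AlgebraicGeometry TopologicalSpace Opposite

set_option backward.isDefEq.respectTransparency false

namespace Groth.Agent.CohFinite

open Groth.Agent.QCohLib

attribute [local instance] Abelian.hasFiniteBiproducts

variable {X : Scheme.{u}}

theorem stalkHom_sum {M N : X.Modules} {ι : Type*} (s : Finset ι) (f : ι → (M ⟶ N)) (x : X)
    (m : M.presheaf.stalk x) : stalkHom (∑ j ∈ s, f j) x m = ∑ j ∈ s, stalkHom (f j) x m := by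
  classical
  induction s using Finset.induction with
  | empty => simpa using stalkHom_zero x m
  | insert a s ha ih => rw [Finset.sum_insert ha, Finset.sum_insert ha, stalkHom_add, ih]

theorem biproduct_stalk_ext {r : ℕ} (M : Fin r → X.Modules) (x : X)
    (z w : (⨁ M).presheaf.stalk x)
    (h : ∀ j, stalkHom (biproduct.π M j) x z = stalkHom (biproduct.π M j) x w) : z = w := by
  rw [← stalkHom_id x z, ← stalkHom_id x w, ← biproduct.total, stalkHom_sum, stalkHom_sum]
  exact Finset.sum_congr rfl fun j _ => by rw [stalkHom_comp, stalkHom_comp, h j]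

theorem support_biproduct_subset {r : ℕ} (M : X.Modules) :
    CohB1.support (⨁ fun _ : Fin r => M) ⊆ CohB1.support M := fun x hx hM =>
  hx ⟨fun z w => biproduct_stalk_ext _ x z w fun _ => @Subsingleton.elim _ hM _ _⟩

/-- Splitting off the first summand. -/
noncomputable def biproductSuccIso (M : X.Modules) (n : ℕ) :
    (⨁ fun _ : Fin (n + 1) => M) ≅ M ⊞ ⨁ fun _ : Fin n => M where
  hom := biprod.lift (biproduct.π (fun _ : Fin (n + 1) => M) 0)
    (biproduct.lift fun j : Fin n => biproduct.π (fun _ : Fin (n + 1) => M) j.succ)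
  inv := biprod.desc (biproduct.ι (fun _ : Fin (n + 1) => M) 0)
    (biproduct.desc fun j : Fin n => biproduct.ι (fun _ : Fin (n + 1) => M) j.succ)
  hom_inv_id := by
    rw [biprod.lift_desc, biproduct.lift_desc, ← biproduct.total, Fin.sum_univ_succ]
  inv_hom_id := by
    refine biprod.hom_ext' _ _ (biprod.hom_ext _ _ ?_ (biproduct.hom_ext _ _ fun j => ?_))
      (biproduct.hom_ext' _ _ fun j => biprod.hom_ext _ _ ?_ (biproduct.hom_ext _ _ fun k => ?_))
    · simp
    · simp [biproduct.ι_π, (Fin.succ_ne_zero j).symm]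
    · simp [biproduct.ι_π, Fin.succ_ne_zero j]
    · by_cases h : j = k
      · subst h; simp
      · simp [biproduct.ι_π, h]

theorem isCoh_biproduct [IsLocallyNoetherian X] {M : X.Modules} (hM : Coh.IsCoh M) :
    ∀ r : ℕ, Coh.IsCoh (⨁ fun _ : Fin r => M)
  | 0 => isCoh_of_isZero (by
      rw [IsZero.iff_id_eq_zero]
      exact biproduct.hom_ext _ _ fun j => j.elim0)
  | n + 1 => isCoh_of_iso (biproductSuccIso M n).symm (isCoh_biprod hM (isCoh_biproduct hM n))

theorem finite_stalk [IsLocallyNoetherian X] {G : X.Modules} (hG : Coh.IsCoh G) (x : X) :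
    Module.Finite (X.presheaf.stalk x) (G.presheaf.stalk x) := by
  obtain ⟨U, hU, hxU, -⟩ := exists_isAffineOpen_mem_and_subset (U := ⊤) (Opens.mem_top x)
  have := hG.1
  obtain ⟨t, ht⟩ := (finite_sections G hG.2 hU).fg_top
  classical
  refine ⟨⟨t.image (fun s => G.presheaf.germ U x hxU s), top_le_iff.mp fun m _ => ?_⟩⟩
  obtain ⟨f, s, hf, hfs⟩ := exists_smul_eq_germ hU x hxU m
  obtain ⟨v, hv⟩ := (X.mem_basicOpen f x hxU).mp hf
  have hs : s ∈ Submodule.span Γ(X, U) (t : Set Γ(G, U)) := by rw [ht]; trivial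
  have h1 : G.presheaf.germ U x hxU s ∈ Submodule.span (X.presheaf.stalk x)
      ((t.image fun s => G.presheaf.germ U x hxU s : Finset _) : Set (G.presheaf.stalk x)) := by
    clear hfs
    induction hs using Submodule.span_induction with
    | mem y hy => exact Submodule.subset_span (Finset.mem_image_of_mem _ hy)
    | zero => rw [map_zero]; exact Submodule.zero_mem _
    | add y z _ _ hy hz => rw [map_add]; exact Submodule.add_mem _ hy hz
    | smul c y _ hy => rw [germ_smul]; exact Submodule.smul_mem _ _ hy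
  have h2 := Submodule.smul_mem _ (↑v⁻¹ : X.presheaf.stalk x) h1
  rwa [← hfs, ← hv, smul_smul, Units.inv_mul, one_smul] at h2

variable {Z : Scheme.{u}} [IsIntegral Z] (i : Z ⟶ X) [IsClosedImmersion i]

/-- The generic stalk of `i_* I` is the residue field. -/
theorem exists_residueField_equiv {I : Z.Modules} (ι : I ⟶ Coh.structureModule Z) [Mono ι]
    (hI : ¬ IsZero I) :
    Nonempty (IsLocalRing.ResidueField (X.presheaf.stalk (i (genericPoint Z)))
      ≃ₗ[X.presheaf.stalk (i (genericPoint Z))]
        ((Coh.push i).obj I).presheaf.stalk (i (genericPoint Z))) := by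
  let k := (Coh.push i).map ι
  have hk : Mono k := by
    rw [mono_iff_app_injective]
    exact fun V => (mono_iff_app_injective ι).mp inferInstance _
  have hne : ¬ Subsingleton (((Coh.push i).obj I).presheaf.stalk (i (genericPoint Z))) := fun h =>
    hI (by
      have h1 := isZero_of_subsingleton_stalk_generic i k h
      have : Mono ((Scheme.Modules.pushforward i).map (0 : I ⟶ I)) := ⟨fun a b _ => h1.eq_of_tgt a b⟩
      have := mono_of_mono_pushforward i (0 : I ⟶ I)
      rw [IsZero.iff_id_eq_zero, ← cancel_mono (0 : I ⟶ I), comp_zero, comp_zero])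
  obtain ⟨m₀, hm₀⟩ : ∃ m : ((Coh.push i).obj I).presheaf.stalk (i (genericPoint Z)), m ≠ 0 := by
    by_contra hc
    push Not at hc
    exact hne ⟨fun a b => (hc a).trans (hc b).symm⟩
  let ψ := stalkLinearMap k (i (genericPoint Z))
  have hψ : Function.Injective ψ := (mono_iff_stalk_injective k).mp hk _
  let t := LinearMap.toSpanSingleton (X.presheaf.stalk (i (genericPoint Z)))
    (((Coh.push i).obj I).presheaf.stalk (i (genericPoint Z))) m₀
  obtain ⟨c, hc⟩ := genMap_surjective i (ψ m₀)
  have hcu : IsUnit c := by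
    by_contra h
    have h1 : c ∈ LinearMap.ker (genMap i) := by rw [ker_genMap]; exact h
    exact hm₀ (hψ (hc.symm.trans ((LinearMap.mem_ker.mp h1).trans (map_zero ψ).symm)))
  obtain ⟨c, rfl⟩ := hcu
  have hψt : ∀ r : X.presheaf.stalk (i (genericPoint Z)), ψ (t r) = genMap i (r * c) := fun r => by
    rw [LinearMap.toSpanSingleton_apply, map_smul, ← hc, ← map_smul, smul_eq_mul]
  have hsurj : Function.Surjective t := fun m => by
    obtain ⟨r, hr⟩ := genMap_surjective i (ψ m)
    exact ⟨r * ↑c⁻¹, hψ (by rw [hψt, mul_assoc, Units.inv_mul, mul_one, hr])⟩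
  have hker : LinearMap.ker t = IsLocalRing.maximalIdeal (X.presheaf.stalk (i (genericPoint Z))) := by
    rw [← ker_genMap]
    ext r
    rw [LinearMap.mem_ker, LinearMap.mem_ker, ← map_eq_zero_iff ψ hψ, hψt, mul_comm, ← smul_eq_mul,
      map_smul, c.isUnit.smul_eq_zero]
  exact ⟨(Submodule.quotEquivOfEq _ _ hker.symm).trans (t.quotKerEquivOfSurjective hsurj)⟩

/-- A module killed by the maximal ideal is a power of the residue field. -/
theorem exists_pow_residueField_equiv [IsLocallyNoetherian X] {G : X.Modules} (hG : Coh.IsCoh G)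
    (x : X) (hne : ¬ Subsingleton (G.presheaf.stalk x))
    (hk : ∀ r ∈ IsLocalRing.maximalIdeal (X.presheaf.stalk x), ∀ m : G.presheaf.stalk x, r • m = 0) :
    ∃ r : ℕ, 1 ≤ r ∧ Nonempty (G.presheaf.stalk x ≃ₗ[X.presheaf.stalk x]
      (Fin r → IsLocalRing.ResidueField (X.presheaf.stalk x))) := by
  have ht : Module.IsTorsionBySet (X.presheaf.stalk x) (G.presheaf.stalk x)
      (IsLocalRing.maximalIdeal (X.presheaf.stalk x) : Set (X.presheaf.stalk x)) :=
    fun m a => hk a.1 a.2 m
  let : Module (IsLocalRing.ResidueField (X.presheaf.stalk x)) (G.presheaf.stalk x) := ht.module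
  have : IsScalarTower (X.presheaf.stalk x) (IsLocalRing.ResidueField (X.presheaf.stalk x))
      (G.presheaf.stalk x) := ht.isScalarTower
  have := finite_stalk hG x
  have : Module.Finite (IsLocalRing.ResidueField (X.presheaf.stalk x)) (G.presheaf.stalk x) :=
    Module.Finite.of_restrictScalars_finite (X.presheaf.stalk x) _ _
  refine ⟨Module.finrank (IsLocalRing.ResidueField (X.presheaf.stalk x)) (G.presheaf.stalk x), ?_, ?_⟩
  · have : Nontrivial (G.presheaf.stalk x) := not_subsingleton_iff_nontrivial.mp hne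
    exact Module.finrank_pos
  · exact ⟨((Module.finBasis (IsLocalRing.ResidueField (X.presheaf.stalk x))
      (G.presheaf.stalk x)).equivFun).restrictScalars (X.presheaf.stalk x)⟩

/-- A coherent module with generic stalk `κ^r` agrees with a submodule of `(i_* I)^r` on a coherent
submodule with the same generic stalk. -/
theorem exists_pow_roof [IsNoetherian X] {G : X.Modules} (hG : Coh.IsCoh G) {r : ℕ}
    (e : G.presheaf.stalk (i (genericPoint Z)) ≃ₗ[X.presheaf.stalk (i (genericPoint Z))]
      (Fin r → IsLocalRing.ResidueField (X.presheaf.stalk (i (genericPoint Z)))))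
    {I : Z.Modules} (ι : I ⟶ Coh.structureModule Z) [Mono ι] (hIq : Coh.IsQCoh I)
    (hI : ¬ IsZero I) :
    ∃ (K : X.Modules) (k : K ⟶ G) (q : K ⟶ ⨁ fun _ : Fin r => (Coh.push i).obj I),
      Coh.IsCoh K ∧ Mono k ∧ Mono q ∧ Function.Bijective (stalkHom k (i (genericPoint Z))) ∧
      Function.Bijective (stalkHom q (i (genericPoint Z))) := by
  classical
  let M := (Coh.push i).obj I
  have hM : Coh.IsCoh M := isCoh_push_ideal i ι hIq
  have hkm : Mono ((Coh.push i).map ι) := by
    rw [mono_iff_app_injective]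
    exact fun V => (mono_iff_app_injective ι).mp inferInstance _
  obtain ⟨ε⟩ := exists_residueField_equiv i ι hI
  let φ : Fin r → (G.presheaf.stalk (i (genericPoint Z)) →ₗ[X.presheaf.stalk (i (genericPoint Z))]
      M.presheaf.stalk (i (genericPoint Z))) :=
    fun j => ε.toLinearMap.comp ((LinearMap.proj j).comp e.toLinearMap)
  have hφ : ∀ (z : Fin r → M.presheaf.stalk (i (genericPoint Z))), ∃ g, ∀ j, φ j g = z j := fun z =>
    ⟨e.symm fun j => ε.symm (z j), fun j => by
      change ε ((e (e.symm fun j => ε.symm (z j))) j) = z j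
      rw [LinearEquiv.apply_symm_apply, LinearEquiv.apply_symm_apply]⟩
  have hφinj : ∀ g, (∀ j, φ j g = 0) → g = 0 := fun g hg => by
    apply e.injective
    rw [map_zero]
    funext j
    exact ε.injective ((hg j).trans (map_zero ε).symm)
  suffices h : ∀ s : Finset (Fin r), ∃ (K : X.Modules) (k : K ⟶ G) (q : Fin r → (K ⟶ M)),
      Coh.IsCoh K ∧ Mono k ∧ Function.Bijective (stalkHom k (i (genericPoint Z))) ∧
      ∀ j ∈ s, ∀ a, stalkHom (q j) (i (genericPoint Z)) a =
        φ j (stalkHom k (i (genericPoint Z)) a) by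
    obtain ⟨K, k, q, hK, hk, hkb, hq⟩ := h Finset.univ
    let Q : K ⟶ ⨁ fun _ : Fin r => M := biproduct.lift q
    have hQj : ∀ j a, stalkHom (biproduct.π (fun _ : Fin r => M) j) (i (genericPoint Z))
        (stalkHom Q (i (genericPoint Z)) a) = φ j (stalkHom k (i (genericPoint Z)) a) := fun j a => by
      rw [← stalkHom_comp, biproduct.lift_π]
      exact hq j (Finset.mem_univ j) a
    have hQ : Function.Bijective (stalkHom Q (i (genericPoint Z))) := by
      refine ⟨?_, fun z => ?_⟩
      · rw [injective_iff_map_eq_zero]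
        intro a ha
        apply hkb.1
        rw [map_zero]
        refine hφinj _ fun j => ?_
        rw [← hQj, ha, map_zero]
      · obtain ⟨g, hg⟩ := hφ fun j => stalkHom (biproduct.π (fun _ : Fin r => M) j) _ z
        obtain ⟨a, rfl⟩ := hkb.2 g
        exact ⟨a, biproduct_stalk_ext _ _ _ _ fun j => (hQj j a).trans (hg j)⟩
    have := (isCoh_biproduct hM r).1
    obtain ⟨K', ι', h1, h2, h3, h4⟩ := exists_sub_mono hK Q _ hQ.1
    refine ⟨K', ι' ≫ k, ι' ≫ Q, h2, mono_comp _ _, h4, ?_, ?_⟩
    · convert hkb.comp h3 using 1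
      funext a
      exact stalkHom_comp _ _ _ _
    · convert hQ.comp h3 using 1
      funext a
      exact stalkHom_comp _ _ _ _
  intro s
  induction s using Finset.induction with
  | empty =>
    exact ⟨G, 𝟙 G, fun _ => 0, hG, inferInstance,
      (isIso_iff_stalk_bijective (𝟙 G)).mp inferInstance _, fun j hj => absurd hj (Finset.notMem_empty j)⟩
  | insert b s hb ih =>
    obtain ⟨K, k, q, hK, hk, hkb, hq⟩ := ih
    obtain ⟨K', p, q', hK', hpq, hp, hq'⟩ :=
      exists_roof hK hM _ ((φ b).comp (stalkLinearMap k (i (genericPoint Z))))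
    have hmp : Mono p := by
      refine Preadditive.mono_of_kernel_zero ?_
      have : Mono ((kernel.ι p ≫ q') ≫ (Coh.push i).map ι) := ⟨fun a c h => by
        have h' : a ≫ kernel.ι p ≫ q' = c ≫ kernel.ι p ≫ q' := by
          rw [← cancel_mono ((Coh.push i).map ι)]
          simpa only [Category.assoc] using h
        rw [← cancel_mono (kernel.ι p), ← cancel_mono (biprod.lift p q')]
        refine biprod.hom_ext _ _ ?_ ?_ <;>
          simp only [Category.assoc, biprod.lift_fst, biprod.lift_snd]
        · rw [kernel.condition, comp_zero, comp_zero]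
        · exact h'⟩
      exact (isZero_of_subsingleton_stalk_generic i ((kernel.ι p ≫ q') ≫ (Coh.push i).map ι)
        (not_not.mp (notMem_support_kernel p _ hp.1))).eq_of_src _ _
    refine ⟨K', p ≫ k, Function.update (fun j => p ≫ q j) b q', hK', mono_comp _ _, ?_,
      fun j hj a => ?_⟩
    · convert hkb.comp hp using 1
      funext a
      exact stalkHom_comp _ _ _ _
    · rw [stalkHom_comp]
      rcases Finset.mem_insert.mp hj with rfl | hj
      · rw [Function.update_self]
        exact hq' a
      · rw [Function.update_of_ne (fun h => hb (by rwa [h] at hj)), stalkHom_comp]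
        exact hq j hj _

/-- General dévissage: a property closed under extensions holds for all coherent modules with
support in `X'` as soon as, for every integral closed subscheme inside, it holds for all `i_* I` or
there is a test module, with roots, all of whose generically full submodules contain a generically
full submodule with the property. -/
theorem devissage_generic [IsNoetherian X] (P : X.Modules → Prop)
    (hiso : ∀ M N : X.Modules, Nonempty (M ≅ N) → P M → P N)
    (hzero : ∀ M : X.Modules, IsZero M → P M) {X' : Set X}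
    (hext : ∀ S : ShortComplex X.Modules, S.ShortExact → Coh.IsCoh S.X₁ → Coh.IsCoh S.X₂ →
      Coh.IsCoh S.X₃ → CohB1.support S.X₂ ⊆ X' → P S.X₁ → P S.X₃ → P S.X₂)
    (hgen : ∀ (Z : Scheme.{u}) (i : Z ⟶ X) [IsClosedImmersion i] [IsIntegral Z], Set.range i ⊆ X' →
      (∀ N : X.Modules, Coh.IsCoh N → CohB1.support N ⊆ Set.range i →
        i (genericPoint Z) ∉ CohB1.support N → P N) →
      (∀ (I : Z.Modules) (ι : I ⟶ Coh.structureModule Z), Mono ι → Coh.IsQCoh I → ¬ IsZero I →
        P ((Coh.push i).obj I)) ∨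
      ∃ G : X.Modules, Coh.IsCoh G ∧
        ¬ Subsingleton (G.presheaf.stalk (i (genericPoint Z))) ∧
        (∀ a ∈ IsLocalRing.maximalIdeal (X.presheaf.stalk (i (genericPoint Z))),
          ∀ m : G.presheaf.stalk (i (genericPoint Z)), a • m = 0) ∧
        (∀ r : ℕ, 1 ≤ r → Nonempty (G.presheaf.stalk (i (genericPoint Z))
            ≃ₗ[X.presheaf.stalk (i (genericPoint Z))]
              (Fin r → IsLocalRing.ResidueField (X.presheaf.stalk (i (genericPoint Z))))) →
          ∀ F : X.Modules, Coh.IsCoh F → CohB1.support F ⊆ Set.range i →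
            P (⨁ fun _ : Fin r => F) → P F) ∧
        ∀ (K : X.Modules) (k : K ⟶ G), Coh.IsCoh K → Mono k →
          Function.Bijective (stalkHom k (i (genericPoint Z))) →
          ∃ (K' : X.Modules) (k' : K' ⟶ K), Coh.IsCoh K' ∧ Mono k' ∧
            Function.Bijective (stalkHom k' (i (genericPoint Z))) ∧ P K')
    (M : X.Modules) (hM : Coh.IsCoh M) (hs : CohB1.support M ⊆ X') : P M := by
  suffices h : ∀ (Y : Closeds X), (Y : Set X) ⊆ X' → ∀ M : X.Modules, Coh.IsCoh M →
      CohB1.support M ⊆ Y → P M from h ⟨_, isClosed_support hM.2⟩ hs M hM subset_rfl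
  intro Y
  induction Y using WellFoundedLT.induction with
  | _ Y IH =>
    intro hY M hM hMY
    refine devissage_ext P hiso hzero (X' := Y)
      (fun S hS h1 h2 h3 h4 => hext S hS h1 h2 h3 (h4.trans hY)) ?_ M hM hMY
    intro Z i _ _ hiY I ι hι hIq hI
    let R : Closeds X := ⟨Set.range i, i.isClosedEmbedding.isClosed_range⟩
    have hsupp : CohB1.support ((Coh.push i).obj I) ⊆ Set.range i := support_pushforward_subset i I
    rcases eq_or_lt_of_le (show R ≤ Y from hiY) with hRY | hRY
    swap
    · exact IH R hRY (hiY.trans hY) _ (isCoh_push_ideal i ι hIq) hsupp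
    have hsmall : ∀ N : X.Modules, Coh.IsCoh N → CohB1.support N ⊆ Set.range i →
        i (genericPoint Z) ∉ CohB1.support N → P N := by
      intro N hN hNs hNξ
      refine IH ⟨_, isClosed_support hN.2⟩ ?_ (hNs.trans (hiY.trans hY)) N hN subset_rfl
      refine lt_of_le_of_ne (hRY ▸ hNs) fun h => hNξ ?_
      have h' : CohB1.support N = (R : Set X) := by rw [hRY]; exact congrArg (fun C : Closeds X => (C : Set X)) h
      rw [h']
      exact ⟨genericPoint Z, rfl⟩
    rcases hgen Z i (hiY.trans hY) hsmall with h | ⟨G, hG, hne, hk, hroot, hcof⟩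
    · exact h I ι hι hIq hI
    obtain ⟨r, hr1, ⟨e⟩⟩ := exists_pow_residueField_equiv hG _ hne hk
    obtain ⟨K, k, q, hK, hkm, hqm, hkb, hqb⟩ := exists_pow_roof i hG e ι hIq hI
    obtain ⟨K', k', hK', hk'm, hk'b, hPK'⟩ := hcof K k hK hkm hkb
    have hB : Coh.IsCoh (⨁ fun _ : Fin r => (Coh.push i).obj I) :=
      isCoh_biproduct (isCoh_push_ideal i ι hIq) r
    have hBs : CohB1.support (⨁ fun _ : Fin r => (Coh.push i).obj I) ⊆ Set.range i :=
      (support_biproduct_subset _).trans hsupp
    refine hroot r hr1 ⟨e⟩ _ (isCoh_push_ideal i ι hIq) hsupp ?_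
    have hC := isCoh_cokernel (k' ≫ q) hK'.1 hB
    refine hext _ (shortExact_cokernel (k' ≫ q)) hK' hB hC (hBs.trans (hiY.trans hY)) hPK' ?_
    refine hsmall _ hC ((support_subset_of_epi (cokernel.π (k' ≫ q))).trans hBs)
      (notMem_support_cokernel _ _ fun z => ?_)
    obtain ⟨a, rfl⟩ := hqb.2 z
    obtain ⟨b, rfl⟩ := hk'b.2 a
    exact ⟨b, stalkHom_comp _ _ _ _⟩

/-- Dévissage for properties satisfying two-out-of-three in the form needed: closed under extensions
and kernels of epimorphisms. -/
theorem devissage_kernels [IsNoetherian X] (P : X.Modules → Prop)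
    (hiso : ∀ M N : X.Modules, Nonempty (M ≅ N) → P M → P N)
    (hzero : ∀ M : X.Modules, IsZero M → P M) {X' : Set X}
    (hext : ∀ S : ShortComplex X.Modules, S.ShortExact → Coh.IsCoh S.X₁ → Coh.IsCoh S.X₂ →
      Coh.IsCoh S.X₃ → CohB1.support S.X₂ ⊆ X' →
      (P S.X₁ → P S.X₃ → P S.X₂) ∧ (P S.X₂ → P S.X₃ → P S.X₁))
    (hgen : ∀ (Z : Scheme.{u}) (i : Z ⟶ X) [IsClosedImmersion i] [IsIntegral Z], Set.range i ⊆ X' →
      (∀ (I : Z.Modules) (ι : I ⟶ Coh.structureModule Z), Mono ι → Coh.IsQCoh I → ¬ IsZero I →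
        P ((Coh.push i).obj I)) ∨
      ∃ G : X.Modules, Coh.IsCoh G ∧ CohB1.support G ⊆ Set.range i ∧ P G ∧
        ¬ Subsingleton (G.presheaf.stalk (i (genericPoint Z))) ∧
        (∀ a ∈ IsLocalRing.maximalIdeal (X.presheaf.stalk (i (genericPoint Z))),
          ∀ m : G.presheaf.stalk (i (genericPoint Z)), a • m = 0) ∧
        (∀ r : ℕ, 1 ≤ r → Nonempty (G.presheaf.stalk (i (genericPoint Z))
            ≃ₗ[X.presheaf.stalk (i (genericPoint Z))]
              (Fin r → IsLocalRing.ResidueField (X.presheaf.stalk (i (genericPoint Z))))) →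
          ∀ F : X.Modules, Coh.IsCoh F → CohB1.support F ⊆ Set.range i →
            P (⨁ fun _ : Fin r => F) → P F))
    (M : X.Modules) (hM : Coh.IsCoh M) (hs : CohB1.support M ⊆ X') : P M := by
  refine devissage_generic P hiso hzero (fun S hS h1 h2 h3 h4 => (hext S hS h1 h2 h3 h4).1) ?_ M hM hs
  intro Z i _ _ hi hsmall
  rcases hgen Z i hi with h | ⟨G, hG, hGs, hPG, hne, hk, hroot⟩
  · exact Or.inl h
  refine Or.inr ⟨G, hG, hne, hk, hroot, fun K k hK hkm hkb => ⟨K, 𝟙 K, hK, inferInstance,
    (isIso_iff_stalk_bijective (𝟙 K)).mp inferInstance _, ?_⟩⟩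
  have hC := isCoh_cokernel k hK.1 hG
  exact (hext _ (shortExact_cokernel k) hK hG hC (hGs.trans hi)).2 hPG
    (hsmall _ hC ((support_subset_of_epi (cokernel.π k)).trans hGs) (notMem_support_cokernel _ _ hkb.2))

theorem root_one {P : X.Modules → Prop} (hiso : ∀ M N : X.Modules, Nonempty (M ≅ N) → P M → P N)
    (F : X.Modules) (h : P (⨁ fun _ : Fin 1 => F)) : P F :=
  hiso _ _ ⟨biproductUniqueIso fun _ : Fin 1 => F⟩ h

end Groth.Agent.CohFinite
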