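import Groth.Agent.CohFinite.HMod
import Groth.Agent.CechCmp.Scheme
import Mathlib.CategoryTheory.Preadditive.Biproducts

/-!
# Finiteness of cohomology of modules under short exact sequences, retracts
-/

set_option backward.isDefEq.respectTransparency false

universe u

open CategoryTheory Limits Opposite TopologicalSpace AlgebraicGeometry
open scoped Groth.Agent.CohVanish

namespace Groth.Agent.CohFinite

open Groth.Agent.CohVanish Groth.Agent.CechCmp

variable {X : Scheme.{u}} {A : Type u} [CommRing A] (φ : A →+* Coh.Γtop X)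

/-- A morphism of modules commutes with the action. -/
noncomputable def modHom {M N : X.Modules} (f : M ⟶ N) : RSh.Hom (modRSh φ M) (modRSh φ N) where
  hom := (toAbF X).map f
  comm r := abSh_hom_ext fun W m => LinearMap.map_smul (f.val.app W).hom (Coh.resTop X W (φ r)) m

/-- A short exact sequence of modules, with the action. -/
noncomputable def modSES (S : ShortComplex X.Modules) (hS : S.ShortExact) : RSES A (sp X) where
  X₁ := modRSh φ S.X₁
  X₂ := modRSh φ S.X₂
  X₃ := modRSh φ S.X₃
  f := modHom φ S.f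
  g := modHom φ S.g
  zero := (S.map (toAbF X)).zero
  shortExact := shortExact_toAb hS

/-- All cohomology groups are finite over the ring. -/
def AllFin (M : X.Modules) : Prop := ∀ p, Module.Finite A (HMod (modRSh φ M) ⊤ p)

variable {φ}

theorem allFin_of_retract {M N : X.Modules} (i : N ⟶ M) (r : M ⟶ N) (hir : i ≫ r = 𝟙 N)
    (h : AllFin φ M) : AllFin φ N := fun p => by
  have := h p
  refine Module.Finite.of_surjective (mapHMod (modHom φ r) ⊤ p)
    (mapHMod_surjective_of_section (modHom φ i) (modHom φ r) ?_ ⊤ p)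
  exact ((toAbF X).map_comp i r).symm.trans ((congrArg (toAbF X).map hir).trans ((toAbF X).map_id N))

theorem allFin_of_iso {M N : X.Modules} (e : M ≅ N) (h : AllFin φ M) : AllFin φ N :=
  allFin_of_retract e.inv e.hom e.inv_hom_id h

theorem allFin_mid [IsNoetherianRing A] {S : ShortComplex X.Modules} (hS : S.ShortExact)
    (h₁ : AllFin φ S.X₁) (h₃ : AllFin φ S.X₃) : AllFin φ S.X₂ :=
  (modSES φ S hS).finite_mid ⊤ h₁ h₃

theorem allFin_left [IsNoetherianRing A] {S : ShortComplex X.Modules} (hS : S.ShortExact)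
    (h₂ : AllFin φ S.X₂) (h₃ : AllFin φ S.X₃) : AllFin φ S.X₁ :=
  (modSES φ S hS).finite_left ⊤ h₂ h₃

theorem allFin_right [IsNoetherianRing A] {S : ShortComplex X.Modules} (hS : S.ShortExact)
    (h₁ : AllFin φ S.X₁) (h₂ : AllFin φ S.X₂) : AllFin φ S.X₃ :=
  (modSES φ S hS).finite_right ⊤ h₁ h₂

theorem allFin_of_isZero {M : X.Modules} (h : IsZero M) : AllFin φ M := fun p => by
  have : Subsingleton (HMod (modRSh φ M) ⊤ p) := subsingleton_of_forall_eq 0 fun x => by
    refine (eMap_id _ p (show EU (X := sp X) (Coh.toAb M) ⊤ p from x)).symm.trans ?_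
    rw [show 𝟙 (Coh.toAb M) = 0 from ((toAbF X).map_id M).symm.trans
      ((congrArg (toAbF X).map (h.eq_of_src (𝟙 M) 0)).trans ((toAbF X).map_zero M M))]
    rw [eMap_apply, Abelian.Ext.mk₀_zero, Abelian.Ext.comp_zero]
  exact Module.Finite.of_finite

/-- Cohomology agrees with the cohomology of the sheaf with action. -/
noncomputable def hhEquiv [X.Over (Spec (CommRingCat.of A))] (M : X.Modules) (p : ℕ) :
    Coh.HH X M p ≃ₗ[A] HMod (modRSh (Coh.toGlobal (X ↘ Spec (CommRingCat.of A))) M) ⊤ p :=
  AddEquiv.toLinearEquiv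
    (hEquiv (X := sp X) (Coh.toAb M) p)
    (fun a x => hEquiv_map (X := sp X) (Coh.smulAb M (Coh.toGlobal (X ↘ Spec (CommRingCat.of A)) a)) p x)

theorem finite_HH_of_allFin [X.Over (Spec (CommRingCat.of A))] {M : X.Modules}
    (h : AllFin (Coh.toGlobal (X ↘ Spec (CommRingCat.of A))) M) (p : ℕ) :
    Module.Finite A (Coh.HH X M p) :=
  have := h p
  Module.Finite.equiv (hhEquiv M p).symm

/-- The Čech description. -/
theorem nonempty_cech_equiv (F : RSh A (sp X)) {ι : Type u} [DecidableEq ι] (U : ι → X.Opens)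
    (hcov : ⨆ i, U i = ⊤) (hF : F.Acyc U) (p : ℕ) :
    Nonempty (HMod F ⊤ p ≃ₗ[A] (F.sys U).H p) := by
  obtain ⟨e, he⟩ := RSh.exists_cech_equiv hcov p F hF
  exact ⟨AddEquiv.toLinearEquiv (show HMod F ⊤ p ≃+ _ from e) fun a x => he a x⟩

end Groth.Agent.CohFinite
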