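import Mathlib.RingTheory.Length
import Groth.Agent.CohFinite.DevissageGen

/-!
# Auxiliary facts to apply dévissage
-/

universe u

open CategoryTheory CategoryTheory.Limits AlgebraicGeometry TopologicalSpace Opposite

set_option backward.isDefEq.respectTransparency false

namespace Groth.Agent.CohFinite

open Groth.Agent.QCohLib

attribute [local instance] Abelian.hasFiniteBiproducts

theorem pow_residueField_eq_one_of_length {R : Type u} [CommRing R] [IsLocalRing R] {M : Type u}
    [AddCommGroup M] [Module R M] {r : ℕ} (h : Module.length R M = 1)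
    (e : M ≃ₗ[R] (Fin r → IsLocalRing.ResidueField R)) : r = 1 := by
  have h1 : Module.length R (IsLocalRing.ResidueField R) = 1 := by
    have : IsSimpleModule R (R ⧸ IsLocalRing.maximalIdeal R) :=
      isSimpleModule_iff_isCoatom.mpr (IsLocalRing.maximalIdeal.isMaximal R).out
    exact Module.length_eq_one R (R ⧸ IsLocalRing.maximalIdeal R)
  rw [e.length_eq, Module.length_pi, h1, mul_one, ENat.card_eq_coe_natCard, Nat.card_fin] at h
  exact_mod_cast h

theorem pow_residueField_eq_one {R : Type u} [CommRing R] [IsLocalRing R] {M : Type u}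
    [AddCommGroup M] [Module R M] {r : ℕ} (e₁ : M ≃ₗ[R] IsLocalRing.ResidueField R)
    (e : M ≃ₗ[R] (Fin r → IsLocalRing.ResidueField R)) : r = 1 := by
  refine pow_residueField_eq_one_of_length ?_ e
  have : IsSimpleModule R (R ⧸ IsLocalRing.maximalIdeal R) :=
    isSimpleModule_iff_isCoatom.mpr (IsLocalRing.maximalIdeal.isMaximal R).out
  rw [e₁.length_eq]
  exact Module.length_eq_one R (R ⧸ IsLocalRing.maximalIdeal R)

theorem killed_of_residueField_equiv {R : Type u} [CommRing R] [IsLocalRing R] {M : Type u}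
    [AddCommGroup M] [Module R M] (e : M ≃ₗ[R] IsLocalRing.ResidueField R) :
    ¬ Subsingleton M ∧ ∀ a ∈ IsLocalRing.maximalIdeal R, ∀ m : M, a • m = 0 := by
  refine ⟨fun h => ?_, fun a ha m => e.injective ?_⟩
  · exact not_subsingleton (IsLocalRing.ResidueField R) e.symm.injective.subsingleton
  · rw [map_smul, map_zero, Algebra.smul_def]
    exact mul_eq_zero_of_left ((IsLocalRing.residue_eq_zero_iff a).mpr ha) _

variable {X : Scheme.{u}} {Z : Scheme.{u}} [IsIntegral Z] (i : Z ⟶ X) [IsClosedImmersion i]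

omit [IsClosedImmersion i] in
theorem not_subsingleton_stalk_pushforward [IsClosedImmersion i] {H : Z.Modules}
    (h : ¬ Subsingleton (H.presheaf.stalk (genericPoint Z))) :
    ¬ Subsingleton (((Coh.push i).obj H).presheaf.stalk (i (genericPoint Z))) := by
  intro hs
  refine h ⟨fun a b => sub_eq_zero.mp ?_⟩
  obtain ⟨W, hW, s, hsab⟩ := H.presheaf.exists_germ_eq (a - b)
  obtain ⟨V, rfl⟩ := exists_preimage_eq i W
  obtain ⟨V', hV', iV, iV', e⟩ := ((Coh.push i).obj H).presheaf.germ_eq (U := V) (V := V)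
    (i (genericPoint Z)) hW hW s 0 (@Subsingleton.elim _ hs _ _)
  rw [map_zero] at e
  rw [← hsab, ← TopCat.Presheaf.germ_res_apply H.presheaf
    (homOfLE (show i ⁻¹ᵁ V' ≤ i ⁻¹ᵁ V from fun z hz => iV.le hz)) (genericPoint Z) hV' s]
  refine (congrArg (H.presheaf.germ _ _ hV') ?_).trans (map_zero _)
  exact e

theorem stalk_killed_pushforward (H : Z.Modules) [H.IsQuasicoherent]
    (r : X.presheaf.stalk (i (genericPoint Z)))
    (hr : r ∈ IsLocalRing.maximalIdeal (X.presheaf.stalk (i (genericPoint Z))))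
    (m : ((Coh.push i).obj H).presheaf.stalk (i (genericPoint Z))) : r • m = 0 := by
  obtain ⟨V, hV, a, rfl⟩ := X.presheaf.exists_germ_eq r
  obtain ⟨U, hU, hξU, hUV⟩ := exists_isAffineOpen_mem_and_subset hV
  replace hUV : U ≤ V := hUV
  have : ((Coh.push i).obj H).IsQuasicoherent := isQuasicoherent_pushforward i
  obtain ⟨f, s, hf, hfs⟩ := exists_smul_eq_germ hU _ hξU m
  refine ((X.mem_basicOpen f _ hξU).mp hf).smul_eq_zero.mp ?_
  rw [smul_comm, hfs, ← TopCat.Presheaf.germ_res_apply X.presheaf (homOfLE hUV : U ⟶ V) _ hξU a,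
    ← germ_smul]
  suffices h1 : X.presheaf.map (homOfLE hUV).op a • s = 0 by rw [h1, map_zero]
  have h0 : i.app U (X.presheaf.map (homOfLE hUV).op a) = 0 := by
    rw [← basicOpen_eq_bot_iff, ← Scheme.preimage_basicOpen]
    refine Opens.ext (Set.eq_empty_iff_forall_notMem.mpr fun z hz => ?_)
    have hη : i (genericPoint Z) ∈ X.basicOpen (X.presheaf.map (homOfLE hUV).op a) :=
      (genericPoint_specializes z).mem_open (i ⁻¹ᵁ X.basicOpen _).2 hz
    exact hr ((X.mem_basicOpen a _ hV).mp ((X.basicOpen_res (U := V) a (homOfLE hUV).op).le hη).2)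
  change (show Γ(Z, i ⁻¹ᵁ U) from i.app U (X.presheaf.map (homOfLE hUV).op a)) •
    (show Γ(H, i ⁻¹ᵁ U) from s) = 0
  rw [show i.app U (X.presheaf.map (homOfLE hUV).op a) = 0 from h0, zero_smul]

/-- A zero module satisfies a property closed under kernels of epimorphisms and isomorphisms, as
soon as some coherent module does. -/
theorem zero_of_kernels {P : X.Modules → Prop}
    (hiso : ∀ M N : X.Modules, Nonempty (M ≅ N) → P M → P N) {G : X.Modules} (hG : Coh.IsCoh G)
    (h : ∀ S : ShortComplex X.Modules, S.ShortExact → Coh.IsCoh S.X₁ → Coh.IsCoh S.X₂ →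
      Coh.IsCoh S.X₃ → CohB1.support S.X₂ = CohB1.support G → P S.X₂ → P S.X₃ → P S.X₁)
    (hPG : P G) (M : X.Modules) (hM : IsZero M) : P M := by
  let S := ShortComplex.mk (0 : M ⟶ G) (𝟙 G) zero_comp
  have : Mono S.f := ⟨fun a b _ => hM.eq_of_tgt a b⟩
  have hS : S.ShortExact :=
    { exact := ShortComplex.exact_of_f_is_kernel _ (KernelFork.IsLimit.ofι' _ _ fun g hg =>
        ⟨0, by
          rw [Category.comp_id] at hg
          rw [hg, zero_comp]⟩) }
  exact h S hS (isCoh_of_isZero hM) hG hG rfl hPG hPG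

end Groth.Agent.CohFinite
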