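import Groth.Agent.CohFinite.ChowLocal
import Groth.Agent.CohFinite.HHFinite
import Groth.Agent.S4458

/-!
# Finiteness of the cohomology of coherent modules on a scheme proper over a Noetherian ring
-/

set_option backward.isDefEq.respectTransparency false
universe u
open CategoryTheory CategoryTheory.Limits AlgebraicGeometry TopologicalSpace Opposite

namespace Groth.Agent.CohFinite

open Groth.Agent.ProjCoh Groth.Agent.CechCmp

variable {A : Type u} [CommRing A]

theorem killed_pushforward_of_isReduced {X W : Scheme.{u}} (g : W ⟶ X) [IsReduced W] (C : Closeds X)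
    (hg : ∀ w, g w ∈ C) (L : W.Modules) :
    ClSub.KilledByIdeal (Scheme.IdealSheafData.vanishingIdeal C) ((Scheme.Modules.pushforward g).obj L) := by
  intro U a ha (m : Γ(L, g ⁻¹ᵁ U.1))
  have h0 : g.app U.1 a = 0 := by
    rw [← basicOpen_eq_bot_iff, ← Scheme.preimage_basicOpen]
    refine le_bot_iff.1 fun w hw => ?_
    have hwU : g w ∈ U.1 := X.basicOpen_le a hw
    obtain ⟨p, hp⟩ := U.2.range_fromSpec.ge hwU
    have hb : p ∈ U.2.fromSpec ⁻¹ᵁ X.basicOpen a := by
      change U.2.fromSpec p ∈ X.basicOpen a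
      rw [hp]; exact hw
    rw [U.2.fromSpec_preimage_basicOpen] at hb
    exact (hb ((PrimeSpectrum.mem_vanishingIdeal _ _).1 ha p (by
      change U.2.fromSpec p ∈ (C : Set X)
      rw [hp]; exact hg w))).elim
  change g.app U.1 a • m = (0 : Γ(L, g ⁻¹ᵁ U.1))
  rw [h0, zero_smul]

theorem mem_support_pushforward_of_isFreeGen {X W : Scheme.{u}} (g : W ⟶ X) {L : W.Modules}
    {O : W.Opens} {σ : Γ(L, O)} (hσ : IsFreeGen L σ) {y : X} (V : X.Opens) (hy : y ∈ V)
    (hV : g ⁻¹ᵁ V ≤ O) {w : W} (hw : g w = y) :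
    y ∈ CohB1.support ((Scheme.Modules.pushforward g).obj L) := by
  intro hs
  let P := (Scheme.Modules.pushforward g).obj L
  let s : Γ(P, V) := L.presheaf.map (homOfLE hV).op σ
  obtain ⟨V', hyV', i₁, i₂, e⟩ := P.presheaf.germ_eq y hy hy s 0 (hs.elim _ _)
  rw [map_zero] at e
  have h0 : L.presheaf.map (homOfLE ((g.preimage_mono i₁.le).trans hV)).op σ = 0 := by
    refine Eq.trans ?_ e
    change _ = L.presheaf.map (homOfLE (g.preimage_mono i₁.le)).op (L.presheaf.map (homOfLE hV).op σ)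
    rw [← ConcreteCategory.comp_apply, ← Functor.map_comp]
    rfl
  have h1 : (1 : Γ(W, g ⁻¹ᵁ V')) = 0 := (hσ _ ((g.preimage_mono i₁.le).trans hV)).1 (by
    change (1 : Γ(W, g ⁻¹ᵁ V')) • L.presheaf.map _ σ = (0 : Γ(W, g ⁻¹ᵁ V')) • L.presheaf.map _ σ
    rw [h0, smul_zero, smul_zero])
  have hwV : w ∈ g ⁻¹ᵁ V' := by change g w ∈ V'; rw [hw]; exact hyV'
  have := congrArg (W.presheaf.germ (g ⁻¹ᵁ V') w hwV) h1
  rw [map_one, map_zero] at this
  exact one_ne_zero this

theorem support_pushforward_subset_closed {X W : Scheme.{u}} (g : W ⟶ X) (C : Closeds X)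
    (hg : ∀ w, g w ∈ C) (L : W.Modules) :
    CohB1.support ((Scheme.Modules.pushforward g).obj L) ⊆ C := fun x hx => by
  by_contra hc
  refine hx (subsingleton_of_forall_eq 0 fun z => ?_)
  let P := (Scheme.Modules.pushforward g).obj L
  obtain ⟨V, hxV, s, rfl⟩ := P.presheaf.exists_germ_eq z
  let V' : X.Opens := V ⊓ ⟨(C : Set X)ᶜ, C.isClosed.isOpen_compl⟩
  have hxV' : x ∈ V' := ⟨hxV, hc⟩
  rw [← TopCat.Presheaf.germ_res_apply P.presheaf (homOfLE (inf_le_left : V' ≤ V)) x hxV' s]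
  have h0 : P.presheaf.map (homOfLE (inf_le_left : V' ≤ V)).op s = 0 := by
    refine TopCat.Sheaf.eq_of_locally_eq' ⟨L.presheaf, L.isSheaf⟩ (fun i : PEmpty.{u + 1} => i.elim)
      (g ⁻¹ᵁ V') (fun i => i.elim) (fun w hw => absurd (hg w) hw.2) _ _ fun i => i.elim
  exact (congrArg _ h0).trans (map_zero _)

theorem allFin_of_isProper [IsNoetherianRing A] {X : Scheme.{u}}
    (b : X ⟶ Spec (CommRingCat.of A)) [IsProper b] (M : X.Modules) (hM : Coh.IsCoh M) :
    AllFin (Coh.toGlobal b) M := by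
  have : CompactSpace X := QuasiCompact.compactSpace_of_compactSpace b
  have : IsLocallyNoetherian X := LocallyOfFiniteType.isLocallyNoetherian b
  have : IsNoetherian X := ⟨⟩
  let K' : ObjectProperty X.Modules := AllFin (Coh.toGlobal b)
  have : K'.IsClosedUnderIsomorphisms := ⟨fun e h => allFin_of_iso e h⟩
  refine S4458.result X K' (fun N h => allFin_of_isZero h)
    (fun S hS _ _ _ => ⟨fun h1 h2 => allFin_right hS h1 h2, fun h1 h3 => allFin_mid hS h1 h3,
      fun h2 h3 => allFin_left hS h2 h3⟩)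
    (fun N N' i r h _ _ hN => allFin_of_retract i r h hN) Set.univ isClosed_univ ?_ M hM (Set.subset_univ _)
  intro Z hZ hirr _ y hy
  have : Nonempty X := ⟨y⟩
  obtain ⟨Z', i, hi, hint, hr⟩ := exists_integral_subscheme y
  obtain rfl := eq_image_genericPoint i hr.symm
  obtain ⟨N, W, π, j, hj, hW, hcomp, ⟨w, hw⟩, V', l, hV', hle⟩ :=
    exists_projective_modification (i ≫ b)
  obtain ⟨T, d, hG, hfin⟩ := exists_test_twist b (π ≫ i) j (by rw [Category.assoc]; exact hcomp)
  have hmem : ∀ w, (π ≫ i) w ∈ Z := fun w => by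
    rw [← hy, ← hr]
    exact ⟨π w, rfl⟩
  refine ⟨_, hG, hfin, support_pushforward_subset_closed (π ≫ i) ⟨Z, hZ⟩ hmem _,
    killed_pushforward_of_isReduced (π ≫ i) ⟨Z, hZ⟩ hmem _, ?_⟩
  obtain ⟨V, hV, hVV'⟩ := i.isClosedEmbedding.isInducing.isOpen_iff.1 V'.isOpen
  refine mem_support_pushforward_of_isFreeGen (π ≫ i) (T.free d l) ⟨V, hV⟩ ?_ ?_
    (show (π ≫ i) w = i (genericPoint Z') by rw [← hw]; rfl)
  · change genericPoint Z' ∈ i ⁻¹' V
    rw [hVV']; exact hV'
  · intro x hx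
    exact hle (show π x ∈ (V' : Set Z') by rw [← hVV']; exact hx)

end Groth.Agent.CohFinite
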