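import Groth.Agent.CohFinite.Push

/-!
# Cohomology of a direct image with acyclic preimages of a basis, with the action

The comparison isomorphism can be chosen compatible with any given endomorphism.
-/

set_option backward.isDefEq.respectTransparency false
universe u
open CategoryTheory CategoryTheory.Limits AlgebraicGeometry TopologicalSpace Opposite Abelian
open scoped Groth.Agent.CohVanish

namespace Groth.Agent.CohFinite

open Groth.Agent.CechCmp Groth.Agent.CohVanish

section Top

variable {X Y : TopCat.{u}} (f : X ⟶ Y) {ι : Type*} (B : ι → Opens Y) (hB : Opens.IsBasis (Set.range B))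

include hB in
/-- The comparison commutes with all endomorphisms. -/
theorem exists_push_equiv_endo : ∀ (n : ℕ) (F : AbSh X),
    (∀ i m, Subsingleton (EU F ((Opens.map f).obj (B i)) (m + 1))) →
    ∃ e : EU F ((Opens.map f).obj ⊤) n ≃+ EU ((pushSh f).obj F) ⊤ n,
      ∀ (φ : F ⟶ F) x, e (eMap φ ((Opens.map f).obj ⊤) n x) = eMap ((pushSh f).map φ) ⊤ n (e x) := by
  intro n
  induction n with
  | zero =>
    intro F _
    refine ⟨(eu0 _ F).trans (eu0 (⊤ : Opens Y) ((pushSh f).obj F)).symm, fun φ x => ?_⟩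
    apply (eu0 (⊤ : Opens Y) ((pushSh f).obj F)).injective
    simp only [AddEquiv.trans_apply, eu0_eMap]
    erw [AddEquiv.apply_symm_apply, AddEquiv.apply_symm_apply]
    rfl
  | succ n ih =>
    intro F hF
    have h1 := injSES_shortExact F
    have h2 : ((injSES F).map (pushSh f)).ShortExact := by
      refine shortExact_map_of_epi _ h1 (epi_of_local_lifts _ fun U q x hx => ?_)
      obtain ⟨_, ⟨i, rfl⟩, hxi, hiU⟩ := Opens.isBasis_iff_nbhd.mp hB hx
      have : Subsingleton (EU (injSES F).X₁ ((Opens.map f).obj (B i)) 1) := hF i 0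
      exact ⟨B i, hiU, hxi, surjective_app_of_subsingleton h1 ((Opens.map f).obj (B i)) _⟩
    have hQ : ∀ i m, Subsingleton (EU (injSES F).X₃ ((Opens.map f).obj (B i)) (m + 1)) := fun i m => by
      have : Subsingleton (EU (injSES F).X₁ ((Opens.map f).obj (B i)) (m + 1 + 1)) := hF i (m + 1)
      exact (eDelta_injective h1 ((Opens.map f).obj (B i)) (m + 1)).subsingleton
    have hI : ∀ m, Subsingleton (EU ((injSES F).map (pushSh f)).X₂ (⊤ : Opens Y) (m + 1)) := fun m => by
      have := isFlasque_of_injective (injSES F).X₂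
      have : TopCat.Sheaf.IsFlasque ((injSES F).map (pushSh f)).X₂ :=
        TopCat.Sheaf.IsFlasque.pushforward_isFlasque (injSES F).X₂ f
      exact subsingleton_of_flasque _ _ _
    have := hI n
    obtain ⟨e₃, he₃, hker⟩ : ∃ e₃ : EU (injSES F).X₃ ((Opens.map f).obj ⊤) n ≃+
          EU ((pushSh f).obj (injSES F).X₃) (⊤ : Opens Y) n,
        (∀ (φ : (injSES F).X₃ ⟶ (injSES F).X₃) x,
          e₃ (eMap φ ((Opens.map f).obj ⊤) n x) = eMap ((pushSh f).map φ) ⊤ n (e₃ x)) ∧
        ∀ a, eDelta h1 ((Opens.map f).obj ⊤) n a = 0 ↔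
          ((eDelta h2 (⊤ : Opens Y) n).comp e₃.toAddMonoidHom) a = 0 := by
      rcases n with _ | n
      · refine ⟨(eu0 _ (injSES F).X₃).trans (eu0 (⊤ : Opens Y) ((pushSh f).obj (injSES F).X₃)).symm,
          fun φ x => ?_, fun a => ?_⟩
        · apply (eu0 (⊤ : Opens Y) ((pushSh f).obj (injSES F).X₃)).injective
          simp only [AddEquiv.trans_apply, eu0_eMap]
          erw [AddEquiv.apply_symm_apply, AddEquiv.apply_symm_apply]
          rfl
        · refine (eDelta_zero_eq_zero h1 _ a).trans (Iff.trans ?_ (eDelta_zero_eq_zero h2 _ _).symm)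
          simp only [AddEquiv.coe_toAddMonoidHom, AddEquiv.trans_apply]
          erw [AddEquiv.apply_symm_apply]
          exact Iff.rfl
      · obtain ⟨e₃, he₃⟩ := ih (injSES F).X₃ hQ
        refine ⟨e₃, he₃, fun a => ?_⟩
        have := hI n
        have : Subsingleton (EU (injSES F).X₂ ((Opens.map f).obj ⊤) (n + 1)) := subsingleton_of_injective _ _ _
        rw [(injective_iff_map_eq_zero' (eDelta h1 ((Opens.map f).obj ⊤) (n + 1))).1 (eDelta_injective h1 _ _)]
        change _ ↔ eDelta h2 (⊤ : Opens Y) (n + 1) (e₃ a) = 0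
        rw [(injective_iff_map_eq_zero' (eDelta h2 (⊤ : Opens Y) (n + 1))).1 (eDelta_injective h2 _ _)]
        exact e₃.map_eq_zero_iff.symm
    obtain ⟨e, he⟩ := exists_addEquiv_of_surjective (eDelta h1 ((Opens.map f).obj ⊤) n)
      ((eDelta h2 (⊤ : Opens Y) n).comp e₃.toAddMonoidHom) (eDelta_surjective h1 _ n)
      ((eDelta_surjective h2 _ n).comp e₃.surjective) hker
    refine ⟨e, fun φ x => ?_⟩
    obtain ⟨a, rfl⟩ := eDelta_surjective h1 ((Opens.map f).obj ⊤) n x
    have : Mono (injSES F).f := Injective.ι_mono F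
    let ψ : (injSES F).X₂ ⟶ (injSES F).X₂ :=
      Injective.factorThru (φ ≫ Injective.ι F) (Injective.ι F)
    have hψ : (injSES F).f ≫ ψ = φ ≫ (injSES F).f := Injective.comp_factorThru _ _
    let m : injSES F ⟶ injSES F :=
      { τ₁ := φ, τ₂ := ψ, τ₃ := cokernel.map _ _ φ ψ hψ
        comm₁₂ := hψ.symm
        comm₂₃ := (cokernel.π_desc _ _ _).symm }
    refine ((congrArg e (eDelta_naturality h1 h1 m _ n a)).trans ((he _).trans ?_))
    refine Eq.trans ?_ (congrArg (eMap ((pushSh f).map φ) (⊤ : Opens Y) (n + 1)) (he a)).symm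
    exact (congrArg (eDelta h2 (⊤ : Opens Y) n) (he₃ m.τ₃ a)).trans
      (eDelta_naturality h2 h2 ((pushSh f).mapShortComplex.map m) (⊤ : Opens Y) n (e₃ a)).symm

end Top

variable {X W : Scheme.{u}} (g : W ⟶ X) [IsAffineHom g] {A : Type u} [CommRing A] (φ : A →+* Coh.Γtop X)

/-- Cohomology of the direct image along an affine morphism, with the action. -/
theorem nonempty_pushforward_affine_equiv (L : W.Modules) [L.IsQuasicoherent] (p : ℕ) :
    Nonempty (HMod (modRSh φ ((Scheme.Modules.pushforward g).obj L)) ⊤ p ≃ₗ[A]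
      HMod (modRSh (pullAct g φ) L) ⊤ p) := by
  have hB : Opens.IsBasis (Set.range fun U : X.affineOpens => U.1) := by
    convert X.isBasis_affineOpens
    exact Subtype.range_coe
  obtain ⟨e, he⟩ := exists_push_equiv_endo g.base (fun U : X.affineOpens => U.1) hB p (Coh.toAb L)
    (fun U m => subsingleton_EU_of_isAffineOpen L (U.2.preimage g) m)
  refine ⟨(AddEquiv.toLinearEquiv (show HMod (modRSh (pullAct g φ) L) ⊤ p ≃+
      HMod (modRSh φ ((Scheme.Modules.pushforward g).obj L)) ⊤ p from e) fun a x => ?_).symm⟩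
  refine (he ((modRSh (pullAct g φ) L).act a) x).trans ?_
  refine congrArg (fun α => eMap α (⊤ : Opens (sp X)) p (e x)) ?_
  exact abSh_hom_ext fun V m => (push_smul g φ L V.unop a m).symm

end Groth.Agent.CohFinite
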