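import Groth.Agent.CohFinite.ProperFinite
import Groth.Agent.CohFinite.PushAffine
import Groth.Agent.CohFinite.DevissageAux

/-!
# Finiteness of the cohomology of coherent modules with proper support
-/

set_option backward.isDefEq.respectTransparency false
universe u
open CategoryTheory CategoryTheory.Limits AlgebraicGeometry TopologicalSpace Opposite

namespace Groth.Agent.CohFinite

open Groth.Agent.ProjCoh Groth.Agent.CechCmp

variable {A : Type u} [CommRing A]

theorem le_ker_of_isReduced {X Z : Scheme.{u}} (i : Z ⟶ X) [IsReduced Z] [QuasiCompact i] (C : Closeds X)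
    (hi : ∀ z, i z ∈ C) : Scheme.IdealSheafData.vanishingIdeal C ≤ i.ker := by
  intro U a ha
  rw [Scheme.Hom.ker_apply, RingHom.mem_ker, ← basicOpen_eq_bot_iff, ← Scheme.preimage_basicOpen]
  refine le_bot_iff.1 fun w hw => ?_
  obtain ⟨p, hp⟩ := U.2.range_fromSpec.ge (X.basicOpen_le a hw : i w ∈ U.1)
  have hb : p ∈ U.2.fromSpec ⁻¹ᵁ X.basicOpen a := by
    change U.2.fromSpec p ∈ X.basicOpen a
    rw [hp]; exact hw
  rw [U.2.fromSpec_preimage_basicOpen] at hb
  exact (hb ((PrimeSpectrum.mem_vanishingIdeal _ _).1 ha p (by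
    change U.2.fromSpec p ∈ (C : Set X)
    rw [hp]; exact hi w))).elim

theorem isProper_of_range_subset {X S Z : Scheme.{u}} (b : X ⟶ S) {C : Set X}
    (hC : ClSub.IsProperOver b C) (i : Z ⟶ X) [IsClosedImmersion i] [IsReduced Z]
    (hi : Set.range i ⊆ C) : IsProper (i ≫ b) := by
  obtain ⟨h, hp⟩ := hC
  let I := Scheme.IdealSheafData.vanishingIdeal ⟨C, h⟩
  have hker : I.subschemeι.ker ≤ i.ker := by
    rw [Scheme.IdealSheafData.ker_subschemeι]
    exact le_ker_of_isReduced i ⟨C, h⟩ fun z => hi ⟨z, rfl⟩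
  have : IsProper (I.subschemeι ≫ b) := hp
  let j := IsClosedImmersion.lift I.subschemeι i hker
  have hj : j ≫ I.subschemeι = i := IsClosedImmersion.lift_fac _ _ _
  have : IsClosedImmersion (j ≫ I.subschemeι) := by rw [hj]; infer_instance
  have : IsClosedImmersion j := IsClosedImmersion.of_comp j I.subschemeι
  rw [← hj, Category.assoc]
  infer_instance

theorem allFin_of_isProperOver [IsNoetherianRing A] {X : Scheme.{u}}
    (b : X ⟶ Spec (CommRingCat.of A)) [LocallyOfFiniteType b] [QuasiCompact b] {C : Set X}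
    (hC : ClSub.IsProperOver b C) (M : X.Modules) (hM : Coh.IsCoh M) (hs : CohB1.support M ⊆ C) :
    AllFin (Coh.toGlobal b) M := by
  have : CompactSpace X := QuasiCompact.compactSpace_of_compactSpace b
  have : IsLocallyNoetherian X := LocallyOfFiniteType.isLocallyNoetherian b
  have : IsNoetherian X := ⟨⟩
  let K' : ObjectProperty X.Modules := AllFin (Coh.toGlobal b)
  have : K'.IsClosedUnderIsomorphisms := ⟨fun e h => allFin_of_iso e h⟩
  refine S4458.result X K' (fun N h => allFin_of_isZero h)
    (fun S hS _ _ _ => ⟨fun h1 h2 => allFin_right hS h1 h2, fun h1 h3 => allFin_mid hS h1 h3,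
      fun h2 h3 => allFin_left hS h2 h3⟩)
    (fun N N' i r h _ _ hN => allFin_of_retract i r h hN) C hC.1 ?_ M hM hs
  intro Z hZ hirr hZC y hy
  have : Nonempty X := ⟨y⟩
  obtain ⟨Z', i, hi, hint, hr⟩ := exists_integral_subscheme y
  obtain rfl := eq_image_genericPoint i hr.symm
  have := isProper_of_range_subset b hC i (by rw [hr, hy]; exact hZC)
  obtain ⟨N, W, π, j, hj, hW, hcomp, ⟨w, hw⟩, V', l, hV', hle⟩ :=
    exists_projective_modification (i ≫ b)
  have : CompactSpace Z' := QuasiCompact.compactSpace_of_compactSpace (i ≫ b)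
  have : IsLocallyNoetherian Z' := LocallyOfFiniteType.isLocallyNoetherian i
  have : IsNoetherian Z' := ⟨⟩
  obtain ⟨T, d, hH, hHfin⟩ := exists_test_twist (i ≫ b) π j hcomp
  set H := (Scheme.Modules.pushforward π).obj (T.L d)
  have := hH.1
  have hmem : ∀ z, i z ∈ Z := fun z => by
    rw [← hy, ← hr]
    exact ⟨z, rfl⟩
  have hfin : AllFin (Coh.toGlobal b) ((Coh.push i).obj H) := fun p => by
    obtain ⟨e⟩ := nonempty_pushforward_affine_equiv i (Coh.toGlobal b) H p
    have h1 : pullAct i (Coh.toGlobal b) = Coh.toGlobal (i ≫ b) := RingHom.ext fun a =>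
      (ConcreteCategory.congr_hom (Scheme.Hom.comp_appTop i b) _).symm
    have := hHfin p
    rw [← h1] at this
    exact Module.Finite.equiv e.symm
  refine ⟨(Coh.push i).obj H, QCohLib.isCoh_pushforward i hH, hfin,
    support_pushforward_subset_closed i ⟨Z, hZ⟩ hmem _,
    killed_pushforward_of_isReduced i ⟨Z, hZ⟩ hmem _, not_subsingleton_stalk_pushforward i ?_⟩
  exact mem_support_pushforward_of_isFreeGen π (T.free d l) V' hV' hle hw

end Groth.Agent.CohFinite
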