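import Mathlib.AlgebraicGeometry.IdealSheaf.Subscheme
import Groth.Prelude.Def_ClSub2
import Groth.Agent.QCohLib.Pullback
import Groth.Agent.QCohLib.StalkRestrict

/-!
# Modules annihilated by the ideal of a closed immersion descend

For a closed immersion `i : Z ⟶ X`:
* `isIso_unit`: the unit `F ⟶ i_* i^* F` is an isomorphism for quasi-coherent `F` killed by `i.ker`;
* `isIso_counit`: the counit `i^* i_* N ⟶ N` is an isomorphism for quasi-coherent `N`;
* `exists_mono_of_mono_pushforward`: quasi-coherent submodules of `i_* N` are pushforwards of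
  submodules of `N`.
-/

universe u

open CategoryTheory CategoryTheory.Limits AlgebraicGeometry TopologicalSpace Opposite

set_option backward.isDefEq.respectTransparency false

namespace Groth.Agent.CohFinite

open Groth.Agent.QCohLib

section Bijective

variable {C : Type*} [Category C] {FC : C → C → Type*} {CC : C → Type*}
  [∀ X Y, FunLike (FC X Y) (CC X) (CC Y)] [ConcreteCategory C FC]

theorem bijective_comp_iso {A B D : C} (f : A ⟶ B) (g : B ⟶ D) [IsIso g] :
    Function.Bijective (f ≫ g) ↔ Function.Bijective f := by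
  rw [show ((f ≫ g : A ⟶ D) : CC A → CC D) = (g : CC B → CC D) ∘ (f : CC A → CC B) from
    funext fun x => ConcreteCategory.comp_apply f g x]
  exact Function.Bijective.of_comp_iff' (ConcreteCategory.bijective_of_isIso g) _

theorem bijective_iso_comp {A B D : C} (f : A ⟶ B) (g : B ⟶ D) [IsIso f] :
    Function.Bijective (f ≫ g) ↔ Function.Bijective g := by
  rw [show ((f ≫ g : A ⟶ D) : CC A → CC D) = (g : CC B → CC D) ∘ (f : CC A → CC B) from
    funext fun x => ConcreteCategory.comp_apply f g x]
  exact Function.Bijective.of_comp_iff _ (ConcreteCategory.bijective_of_isIso f)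

end Bijective

section Spec

variable {R S : CommRingCat.{u}} (φ : R ⟶ S)

theorem bijective_extendScalars_unit (hφ : Function.Surjective φ) (M : ModuleCat.{u} R)
    (hM : ∀ a : R, φ a = 0 → ∀ m : M, a • m = 0) :
    Function.Bijective ((ModuleCat.extendRestrictScalarsAdj φ.hom).unit.app M) := by
  algebraize [φ.hom]
  have hwd : ∀ (a b : R), φ a = φ b → ∀ m : M, a • m = b • m := fun a b h m => by
    rw [← sub_eq_zero, ← sub_smul]
    exact hM _ (by rw [map_sub, h, sub_self]) m
  have hsc : ∀ (r : R) (s : S), r • s = φ r * s := fun r s => Algebra.smul_def r s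
  let σ : S → R := Function.surjInv hφ
  have hσ : ∀ s, φ (σ s) = s := Function.surjInv_eq hφ
  let b : (S : Type u) →ₗ[R] M →ₗ[R] M :=
    { toFun := fun s =>
        { toFun := fun m => σ s • m
          map_add' := smul_add _
          map_smul' := fun r m => smul_comm _ _ _ }
      map_add' := fun s t => LinearMap.ext fun m => by
        change σ (s + t) • m = σ s • m + σ t • m
        rw [← add_smul]
        exact hwd _ _ (by rw [map_add, hσ, hσ, hσ]) m
      map_smul' := fun r s => LinearMap.ext fun m => by
        change σ (r • s) • m = r • σ s • m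
        rw [← mul_smul]
        exact hwd _ _ (by rw [map_mul, hσ, hσ, hsc]) m }
  let u : M → TensorProduct R S M := fun m => (1 : S) ⊗ₜ[R] m
  change Function.Bijective u
  refine Function.bijective_iff_has_inverse.mpr ⟨TensorProduct.lift b, fun m => ?_, fun x => ?_⟩
  · rw [TensorProduct.lift.tmul]
    change σ 1 • m = m
    exact (hwd _ 1 (by rw [hσ, map_one]) m).trans (one_smul R m)
  · induction x with
    | zero => simp [u]
    | tmul s m =>
      rw [TensorProduct.lift.tmul]
      change (1 : S) ⊗ₜ[R] (σ s • m) = _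
      rw [TensorProduct.tmul_smul, TensorProduct.smul_tmul', hsc, hσ, mul_one]
    | add x y hx hy =>
      simp only [u] at hx hy ⊢
      rw [map_add, TensorProduct.tmul_add, hx, hy]

theorem isIso_unit_Spec (hφ : Function.Surjective φ) (P : (Spec R).Modules) [P.IsQuasicoherent]
    (hP : ∀ a : R, φ a = 0 → ∀ m : ΓR P, a • m = 0) :
    IsIso ((Scheme.Modules.pullbackPushforwardAdjunction (Spec.map φ)).unit.app P) := by
  let adj := Scheme.Modules.pullbackPushforwardAdjunction (Spec.map φ)
  let M : ModuleCat.{u} R := ΓR P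
  suffices h : IsIso (adj.unit.app ((tilde.functor R).obj M)) by
    have hn := adj.unit.naturality (counitIso P).hom
    have h2 : adj.unit.app P = inv (counitIso P).hom ≫ adj.unit.app ((tilde.functor R).obj M) ≫
        (Scheme.Modules.pullback (Spec.map φ) ⋙ Scheme.Modules.pushforward (Spec.map φ)).map
          (counitIso P).hom := by
      rw [IsIso.eq_inv_comp]
      exact hn
    rw [h2]
    infer_instance
  have : ((tilde.functor R).obj M).IsQuasicoherent := inferInstanceAs (tilde M).IsQuasicoherent
  have := isQuasicoherent_pullback (Spec.map φ) ((tilde.functor R).obj M)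
  have : ((Scheme.Modules.pullback (Spec.map φ) ⋙ Scheme.Modules.pushforward (Spec.map φ)).obj
      ((tilde.functor R).obj M)).IsQuasicoherent :=
    isQuasicoherent_pushforward (Spec.map φ)
  have : ((𝟭 (Spec R).Modules).obj ((tilde.functor R).obj M)).IsQuasicoherent :=
    inferInstanceAs (tilde M).IsQuasicoherent
  rw [isIso_iff_Γ_bijective]
  have hu := Adjunction.unit_leftAdjointUniq_hom_app
    ((ModuleCat.extendRestrictScalarsAdj φ.hom).comp (tilde.adjunction (R := S)))
    ((tilde.adjunction.comp adj).ofNatIsoRight (pushforwardΓIso φ)) M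
  have h2 : Function.Bijective
      (((tilde.adjunction.comp adj).ofNatIsoRight (pushforwardΓIso φ)).unit.app M) := by
    have h1 : Function.Bijective
        (((ModuleCat.extendRestrictScalarsAdj φ.hom).comp (tilde.adjunction (R := S))).unit.app M) := by
      rw [Adjunction.comp_unit_app]
      exact (bijective_comp_iso _ ((ModuleCat.restrictScalars φ.hom).map
        ((tilde.adjunction (R := S)).unit.app _))).mpr (bijective_extendScalars_unit φ hφ M hP)
    rw [← hu]
    exact (bijective_comp_iso _ _).mpr h1
  have h3 : ((tilde.adjunction.comp adj).ofNatIsoRight (pushforwardΓIso φ)).unit.app M =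
      tilde.adjunction.unit.app M ≫
        (moduleSpecΓFunctor (R := R)).map (adj.unit.app ((tilde.functor R).obj M)) ≫
          (pushforwardΓIso φ).hom.app _ := by
    simp [Adjunction.ofNatIsoRight]
  rw [h3] at h2
  exact (bijective_comp_iso _ ((pushforwardΓIso φ).hom.app _)).mp
    ((bijective_iso_comp (tilde.adjunction.unit.app M) _).mp h2)

end Spec

section Local

variable {Z X U W : Scheme.{u}} (i : Z ⟶ X) (j : U ⟶ X) (j' : W ⟶ Z) (i' : W ⟶ U)
  [IsOpenImmersion j] [IsOpenImmersion j']

/-- The two ways of pushing forward along a commutative square. -/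
noncomputable def pushforwardSquareIso (h : i' ≫ j = j' ≫ i) :
    Scheme.Modules.pushforward i' ⋙ Scheme.Modules.pushforward j ≅
      Scheme.Modules.pushforward j' ⋙ Scheme.Modules.pushforward i :=
  Scheme.Modules.pushforwardComp i' j ≪≫ Scheme.Modules.pushforwardCongr h ≪≫
    (Scheme.Modules.pushforwardComp j' i).symm

theorem unit_app_bijective_of_restrict (h : i' ≫ j = j' ≫ i) (V : X.Opens)
    (hVj : V ≤ j.opensRange) (hVj' : i ⁻¹ᵁ V ≤ j'.opensRange) (F : X.Modules)
    (hb : Function.Bijective
      (((Scheme.Modules.pullbackPushforwardAdjunction i').unit.app (F.restrict j)).app (j ⁻¹ᵁ V))) :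
    Function.Bijective (((Scheme.Modules.pullbackPushforwardAdjunction i).unit.app F).app V) := by
  let B1 := (Scheme.Modules.pullbackPushforwardAdjunction i).comp (Scheme.Modules.restrictAdjunction j')
  let B2 := ((Scheme.Modules.restrictAdjunction j).comp
    (Scheme.Modules.pullbackPushforwardAdjunction i')).ofNatIsoRight (pushforwardSquareIso i j j' i' h)
  have hu := congrArg (fun q => ⇑(ConcreteCategory.hom (Scheme.Modules.Hom.app q V)))
    (Adjunction.unit_leftAdjointUniq_hom_app B1 B2 F)
  have hres : ∀ {T : Scheme.{u}} (M : T.Modules) {a b : T.Opens} (hab : a = b) (f : b ⟶ a),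
      Function.Bijective (M.presheaf.map f.op) := fun M a b hab f => by
    subst hab
    rw [show f = 𝟙 a from rfl, op_id, CategoryTheory.Functor.map_id]
    exact Function.bijective_id
  have hR : Function.Bijective ((B2.unit.app F).app V) := by
    have hj : j ''ᵁ j ⁻¹ᵁ V = V := by
      rw [Scheme.Hom.image_preimage_eq_opensRange_inf, inf_eq_right.mpr hVj]
    have h1 : ((((Scheme.Modules.restrictAdjunction j).comp
        (Scheme.Modules.pullbackPushforwardAdjunction i')).unit.app F).app V :
          _ → _) =
        (((Scheme.Modules.pullbackPushforwardAdjunction i').unit.app (F.restrict j)).app (j ⁻¹ᵁ V)) ∘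
          (F.presheaf.map (homOfLE (j.image_preimage_le V)).op) := rfl
    have h2 : B2.unit.app F = ((Scheme.Modules.restrictAdjunction j).comp
        (Scheme.Modules.pullbackPushforwardAdjunction i')).unit.app F ≫
          (pushforwardSquareIso i j j' i' h).hom.app _ := by
      simp [B2, Adjunction.ofNatIsoRight]
    rw [h2, Scheme.Modules.Hom.comp_app]
    refine (bijective_comp_iso _ _).mpr ?_
    rw [h1]
    exact hb.comp (hres F hj.symm _)
  have hL : Function.Bijective ((B1.unit.app F).app V) := by
    have : ((B1.unit.app F ≫ (Scheme.Modules.pushforward j' ⋙ Scheme.Modules.pushforward i).map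
      ((B1.leftAdjointUniq B2).hom.app F)).app V : _ → _) = (B2.unit.app F).app V := hu
    rw [← this, Scheme.Modules.Hom.comp_app] at hR
    exact (bijective_comp_iso _ _).mp hR
  have hj' : j' ''ᵁ j' ⁻¹ᵁ (i ⁻¹ᵁ V) = i ⁻¹ᵁ V := by
    rw [Scheme.Hom.image_preimage_eq_opensRange_inf, inf_eq_right.mpr hVj']
  have h3 : ((B1.unit.app F).app V : _ → _) =
      (((Scheme.Modules.pullback i).obj F).presheaf.map (homOfLE (j'.image_preimage_le _)).op) ∘
        (((Scheme.Modules.pullbackPushforwardAdjunction i).unit.app F).app V) := rfl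
  rw [h3] at hL
  exact (Function.Bijective.of_comp_iff' (hres _ hj'.symm _) _).mp hL

end Local

variable {Z X : Scheme.{u}} (i : Z ⟶ X) [IsClosedImmersion i]

theorem isIso_unit (F : X.Modules) [F.IsQuasicoherent] (hF : ClSub.KilledByIdeal i.ker F) :
    IsIso ((Scheme.Modules.pullbackPushforwardAdjunction i).unit.app F) := by
  have := isQuasicoherent_pullback i F
  have : ((Scheme.Modules.pullback i ⋙ Scheme.Modules.pushforward i).obj F).IsQuasicoherent :=
    isQuasicoherent_pushforward i
  have : ((𝟭 X.Modules).obj F).IsQuasicoherent := ‹F.IsQuasicoherent›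
  refine isIso_of_cover_bijective (fun U : X.affineOpens => U.1) (fun U => U.2) exists_affine_mem
    _ fun U => ?_
  have hU : IsAffineOpen U.1 := U.2
  let φ : Γ(X, U.1) ⟶ Γ(Z, i ⁻¹ᵁ U.1) := i.app U.1
  have hsq : Spec.map φ ≫ hU.fromSpec = (hU.preimage i).fromSpec ≫ i := by
    rw [← hU.SpecMap_appLE_fromSpec i (hU.preimage i) le_rfl]
    simp [φ, Scheme.Hom.appLE]
  refine unit_app_bijective_of_restrict i hU.fromSpec (hU.preimage i).fromSpec (Spec.map φ) hsq U.1
    hU.opensRange_fromSpec.ge (hU.preimage i).opensRange_fromSpec.ge F ?_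
  have : IsIso ((Scheme.Modules.pullbackPushforwardAdjunction (Spec.map φ)).unit.app
      (F.restrict hU.fromSpec)) := by
    refine isIso_unit_Spec φ (i.app_surjective U.1 hU) _ fun a ha m => ?_
    apply (onSpecΓ F hU).injective
    rw [LinearEquiv.map_smul, map_zero]
    refine hF U a ?_ _
    rw [Scheme.Hom.ker_apply]
    exact ha
  exact ConcreteCategory.bijective_of_isIso _

omit [IsClosedImmersion i] in
theorem killedByIdeal_pushforward [QuasiCompact i] (N : Z.Modules) :
    ClSub.KilledByIdeal i.ker ((Scheme.Modules.pushforward i).obj N) := by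
  intro U a ha m
  rw [Scheme.Hom.ker_apply] at ha
  change (show Γ(Z, i ⁻¹ᵁ U.1) from i.app U.1 a) • (show Γ(N, i ⁻¹ᵁ U.1) from m) = 0
  rw [show i.app U.1 a = 0 from ha, zero_smul]

theorem exists_preimage_eq (W : Z.Opens) : ∃ V : X.Opens, i ⁻¹ᵁ V = W := by
  obtain ⟨V, hV, hVW⟩ := i.isClosedEmbedding.isInducing.isOpen_iff.mp W.2
  exact ⟨⟨V, hV⟩, Opens.ext hVW⟩

theorem isIso_of_isIso_pushforward {M N : Z.Modules} (f : M ⟶ N)
    [IsIso ((Scheme.Modules.pushforward i).map f)] : IsIso f := by
  rw [Scheme.Modules.Hom.isIso_iff_isIso_app]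
  intro W
  obtain ⟨V, rfl⟩ := exists_preimage_eq i W
  exact inferInstanceAs (IsIso (((Scheme.Modules.pushforward i).map f).app V))

theorem mono_of_mono_pushforward {M N : Z.Modules} (f : M ⟶ N)
    [Mono ((Scheme.Modules.pushforward i).map f)] : Mono f := by
  rw [mono_iff_app_injective]
  intro W
  obtain ⟨V, rfl⟩ := exists_preimage_eq i W
  exact (mono_iff_app_injective ((Scheme.Modules.pushforward i).map f)).mp inferInstance V

theorem isIso_counit (N : Z.Modules) [N.IsQuasicoherent] :
    IsIso ((Scheme.Modules.pullbackPushforwardAdjunction i).counit.app N) := by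
  let adj := Scheme.Modules.pullbackPushforwardAdjunction i
  have : ((Scheme.Modules.pushforward i).obj N).IsQuasicoherent := isQuasicoherent_pushforward i
  have h1 := isIso_unit i _ (killedByIdeal_pushforward i N)
  have h2 := adj.right_triangle_components N
  have : IsIso (adj.unit.app ((Scheme.Modules.pushforward i).obj N) ≫
      (Scheme.Modules.pushforward i).map (adj.counit.app N)) := by
    rw [h2]; infer_instance
  have : IsIso ((Scheme.Modules.pushforward i).map (adj.counit.app N)) :=
    IsIso.of_isIso_comp_left (adj.unit.app _) _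
  exact isIso_of_isIso_pushforward i _

omit [IsClosedImmersion i] in
theorem killedByIdeal_of_mono {I : X.IdealSheafData} {F G : X.Modules} (f : F ⟶ G) [Mono f]
    (h : ClSub.KilledByIdeal I G) : ClSub.KilledByIdeal I F := by
  intro U a ha m
  apply (mono_iff_app_injective f).mp inferInstance U.1
  rw [map_zero, Scheme.Modules.Hom.app_smul]
  exact h U a ha _

omit [IsClosedImmersion i] in
theorem killedByIdeal_of_epi {I : X.IdealSheafData} {F G : X.Modules} [F.IsQuasicoherent]
    [G.IsQuasicoherent] (f : F ⟶ G) [Epi f] (h : ClSub.KilledByIdeal I F) :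
    ClSub.KilledByIdeal I G := by
  intro U a ha m
  obtain ⟨c, rfl⟩ := app_surjective_of_epi f U.2 m
  exact ((Scheme.Modules.Hom.app_smul f a c).symm.trans
    (congrArg (f.app U.1) (h U a ha c))).trans (map_zero _)

theorem exists_mono_of_mono_pushforward (N : Z.Modules) [N.IsQuasicoherent] (K : X.Modules)
    [K.IsQuasicoherent] (k : K ⟶ (Scheme.Modules.pushforward i).obj N) [Mono k] :
    ∃ (N' : Z.Modules) (ι : N' ⟶ N) (e : K ≅ (Scheme.Modules.pushforward i).obj N'),
      N'.IsQuasicoherent ∧ Mono ι ∧ e.hom ≫ (Scheme.Modules.pushforward i).map ι = k := by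
  let adj := Scheme.Modules.pullbackPushforwardAdjunction i
  have hK := killedByIdeal_of_mono k (killedByIdeal_pushforward i N)
  have := isIso_unit i K hK
  refine ⟨(Scheme.Modules.pullback i).obj K, (adj.homEquiv _ _).symm k, asIso (adj.unit.app K),
    isQuasicoherent_pullback i K, ?_, ?_⟩
  · have h : adj.unit.app K ≫ (Scheme.Modules.pushforward i).map ((adj.homEquiv _ _).symm k) = k :=
      (adj.homEquiv_unit _ _ _).symm.trans ((adj.homEquiv _ _).apply_symm_apply k)
    have : Mono ((Scheme.Modules.pushforward i).map ((adj.homEquiv _ _).symm k)) := by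
      rw [show (Scheme.Modules.pushforward i).map ((adj.homEquiv _ _).symm k) =
        inv (adj.unit.app K) ≫ k from by rw [IsIso.eq_inv_comp]; exact h]
      exact mono_comp _ _
    exact mono_of_mono_pushforward i _
  · change adj.unit.app K ≫ _ = k
    exact (adj.homEquiv_unit _ _ _).symm.trans ((adj.homEquiv _ _).apply_symm_apply k)

theorem isCoh_pullback_and_iso {F : X.Modules} (hF : Coh.IsCoh F)
    (hk : ClSub.KilledByIdeal i.ker F) :
    ∃ G : Z.Modules, Coh.IsCoh G ∧ Nonempty ((Scheme.Modules.pushforward i).obj G ≅ F) :=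
  have := hF.1
  have := isIso_unit i F hk
  ⟨(Scheme.Modules.pullback i).obj F, isCoh_pullback i F hF,
    ⟨(asIso ((Scheme.Modules.pullbackPushforwardAdjunction i).unit.app F)).symm⟩⟩

end Groth.Agent.CohFinite
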