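import Groth.Agent.CohFinite.HHFinite
import Groth.Agent.ProjCoh.TwSys

/-!
# Cohomology of a direct image with acyclic preimages
-/

set_option backward.isDefEq.respectTransparency false
universe u
open CategoryTheory AlgebraicGeometry TopologicalSpace Opposite
open scoped Groth.Agent.CohVanish

namespace Groth.Agent.CohFinite

open Groth.Agent.CechCmp Groth.Agent.CohVanish

variable {X W : Scheme.{u}} (g : W ⟶ X) {A : Type u} [CommRing A] (φ : A →+* Coh.Γtop X)

/-- The action pulled back. -/
noncomputable def pullAct : A →+* Coh.Γtop W := (g.appTop).hom.comp φ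

theorem meetOpen_preimage {ι : Type u} (U : ι → X.Opens) (s : Finset ι) :
    RSh.meetOpen (fun i => g ⁻¹ᵁ U i) s = g ⁻¹ᵁ RSh.meetOpen U s := by
  classical
  induction s using Finset.induction with
  | empty => simp [RSh.meetOpen]
  | insert i s hi ih =>
    rw [RSh.meetOpen, Finset.iInf_insert, RSh.meetOpen, Finset.iInf_insert, Scheme.Hom.preimage_inf]
    exact congrArg₂ (· ⊓ ·) rfl ih

variable (L : W.Modules)

theorem push_smul (V : X.Opens) (a : A) (x : Γ(L, g ⁻¹ᵁ V)) :
    ((modRSh φ ((Scheme.Modules.pushforward g).obj L)).act a).hom.app (op V) x =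
      ((modRSh (pullAct g φ) L).act a).hom.app (op (g ⁻¹ᵁ V)) x :=
  congrArg (fun r : Γ(W, g ⁻¹ᵁ V) => r • x)
    (ConcreteCategory.congr_hom (g.naturality (homOfLE (le_top (a := V))).op) (φ a))

/-- The Čech system of a direct image is that of the preimages. -/
noncomputable def pushSysHom {ι : Type u} (U : ι → X.Opens) :
    Sys.Hom ((modRSh φ ((Scheme.Modules.pushforward g).obj L)).sys U)
      ((modRSh (pullAct g φ) L).sys fun i => g ⁻¹ᵁ U i) where
  app s :=
    { toFun := fun x => (modRSh (pullAct g φ) L).res (meetOpen_preimage g U s).le x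
      map_add' := fun x y => map_add ((modRSh (pullAct g φ) L).res (meetOpen_preimage g U s).le) x y
      map_smul' := fun a x => (congrArg ((modRSh (pullAct g φ) L).res (meetOpen_preimage g U s).le)
        (push_smul g φ L (RSh.meetOpen U s) a x)).trans
        (LinearMap.map_smul ((modRSh (pullAct g φ) L).res (meetOpen_preimage g U s).le) a x) }
  nat {s t} h x _ :=
    ((modRSh (pullAct g φ) L).res_res (meetOpen_preimage g U t).le
      (g.preimage_mono (RSh.meetOpen_anti U h)) x).trans
    ((modRSh (pullAct g φ) L).res_res (RSh.meetOpen_anti (fun i => g ⁻¹ᵁ U i) h)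
      (meetOpen_preimage g U s).le x).symm

theorem pushSysHom_bijective {ι : Type u} (U : ι → X.Opens) (s : Finset ι) :
    Function.Bijective ((pushSysHom g φ L U).app s) := by
  have : IsIso (L.presheaf.map (homOfLE (meetOpen_preimage g U s).le).op) := by
    have : IsIso (homOfLE (meetOpen_preimage g U s).le) :=
      ⟨homOfLE (meetOpen_preimage g U s).ge, rfl, rfl⟩
    infer_instance
  exact ConcreteCategory.bijective_of_isIso (L.presheaf.map (homOfLE (meetOpen_preimage g U s).le).op)

/-- Cohomology of a direct image whose preimages of the intersections are acyclic. -/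
theorem nonempty_push_equiv [((Scheme.Modules.pushforward g).obj L).IsQuasicoherent]
    {ι : Type u} [DecidableEq ι] [Fintype ι] [Nonempty ι] (U : ι → X.Opens) (hcov : ⨆ i, U i = ⊤)
    (hU : ∀ s : Finset ι, s.Nonempty → IsAffineOpen (RSh.meetOpen U s))
    (hL : ∀ s : Finset ι, s.Nonempty → ∀ q,
      Subsingleton (EU (X := sp W) (Coh.toAb L) (g ⁻¹ᵁ RSh.meetOpen U s) (q + 1))) (p : ℕ) :
    Nonempty (HMod (modRSh φ ((Scheme.Modules.pushforward g).obj L)) ⊤ p ≃ₗ[A]
      HMod (modRSh (pullAct g φ) L) ⊤ p) := by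
  obtain ⟨e₁⟩ := nonempty_cech_equiv (modRSh φ ((Scheme.Modules.pushforward g).obj L)) U hcov
    (acyc_modRSh φ _ U hU) p
  have hcov' : ⨆ i, g ⁻¹ᵁ U i = ⊤ := by
    rw [← Scheme.Hom.preimage_iSup, hcov, Scheme.Hom.preimage_top]
  have hac : (modRSh (pullAct g φ) L).Acyc fun i => g ⁻¹ᵁ U i := by
    intro s hs q
    rw [meetOpen_preimage g U s]
    exact hL s hs q
  obtain ⟨e₂⟩ := nonempty_cech_equiv (modRSh (pullAct g φ) L) (fun i => g ⁻¹ᵁ U i) hcov' hac p
  exact ⟨(e₁.trans (LinearEquiv.ofBijective ((pushSysHom g φ L U).mapH p)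
    (ProjCoh.bijective_mapH _ (fun s _ => pushSysHom_bijective g φ L U s) p))).trans e₂.symm⟩

end Groth.Agent.CohFinite
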