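import Groth.Agent.CohFinite.RelVanishingDefs
import Groth.Agent.QCohLib.Basic

/-!
# Restriction of twist families to open subschemes
-/

set_option backward.isDefEq.respectTransparency false
universe u
open CategoryTheory AlgebraicGeometry TopologicalSpace Opposite

namespace Groth.Agent.CohFinite

open Groth.Agent.ProjCoh Groth.Agent.CechCmp

theorem presheaf_map_map {X : Scheme.{u}} (L : X.Modules) {U V V' : X.Opens} (a : V ≤ U) (b : V' ≤ V)
    (x : Γ(L, U)) : L.presheaf.map (homOfLE b).op (L.presheaf.map (homOfLE a).op x) =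
      L.presheaf.map (homOfLE (b.trans a)).op x := by
  rw [← ConcreteCategory.comp_apply, ← Functor.map_comp]
  rfl

theorem sheaf_map_map {X : Scheme.{u}} {U V V' : X.Opens} (a : V ≤ U) (b : V' ≤ V) (x : Γ(X, U)) :
    X.presheaf.map (homOfLE b).op (X.presheaf.map (homOfLE a).op x) =
      X.presheaf.map (homOfLE (b.trans a)).op x := by
  rw [← ConcreteCategory.comp_apply, ← Functor.map_comp]
  rfl

theorem restrict_smul_def {X Y : Scheme.{u}} (f : X ⟶ Y) [IsOpenImmersion f] (L : Y.Modules)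
    (V : X.Opens) (r : Γ(X, V)) (x : Γ(L.restrict f, V)) :
    @Eq Γ(L, f ''ᵁ V) (r • x : Γ(L.restrict f, V))
      ((f.appIso V).inv r • (show Γ(L, f ''ᵁ V) from x)) :=
  ConcreteCategory.congr_hom (Scheme.Modules.smul_restrictAppIso_hom f L V r) x

variable {n : ℕ} {A : Type u} [CommRing A] {W : Scheme.{u}}
  {j : W ⟶ Proj (CohB1.polyGrading n A)}

variable (T : TwistFamily j) (U : W.Opens)

/-- The restricted generator. -/
noncomputable def resSigma (d : ℤ) (l : Ix.{u} n) :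
    Γ((T.L d).restrict U.ι, (U.ι ≫ j) ⁻¹ᵁ chartMeet A {l}) :=
  (T.L d).presheaf.map (homOfLE (U.ι.image_preimage_le (j ⁻¹ᵁ chartMeet A {l}))).op (T.σ d l)

theorem isFreeGen_resSigma (d : ℤ) (l : Ix.{u} n) :
    IsFreeGen ((T.L d).restrict U.ι) (resSigma T U d l) := by
  intro V hV
  have hle : U.ι ''ᵁ V ≤ j ⁻¹ᵁ chartMeet A {l} :=
    (U.ι.image_mono hV).trans (U.ι.image_preimage_le (j ⁻¹ᵁ chartMeet A {l}))
  have hb := (T.free d l (U.ι ''ᵁ V) hle).comp
    (ConcreteCategory.bijective_of_isIso (U.ι.appIso V).inv)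
  have e : ∀ r : Γ((U : Scheme.{u}), V),
      @Eq Γ(T.L d, U.ι ''ᵁ V)
        ((U.ι.appIso V).inv r • (T.L d).presheaf.map (homOfLE hle).op (T.σ d l))
        (r • ((T.L d).restrict U.ι).presheaf.map (homOfLE hV).op (resSigma T U d l) :
          Γ((T.L d).restrict U.ι, V)) := by
    intro r
    refine Eq.trans ?_ (restrict_smul_def U.ι (T.L d) V r
      (((T.L d).restrict U.ι).presheaf.map (homOfLE hV).op (resSigma T U d l))).symm
    refine congrArg (fun z => (U.ι.appIso V).inv r • z) ?_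
    exact (presheaf_map_map (T.L d) (U.ι.image_preimage_le (j ⁻¹ᵁ chartMeet A {l})) (U.ι.image_mono hV) (T.σ d l)).symm
  exact (funext e : _ = _) ▸ hb

theorem image_preimage_mono {s r : Finset (Ix.{u} n)} (h : r ⊆ s) :
    U.ι ''ᵁ (U.ι ⁻¹ᵁ (j ⁻¹ᵁ chartMeet A s)) ≤ U.ι ''ᵁ (U.ι ⁻¹ᵁ (j ⁻¹ᵁ chartMeet A r)) :=
  U.ι.image_mono (U.ι.preimage_mono (j.preimage_mono (RSh.meetOpen_anti (chartU A) h)))

theorem resChart_resSigma (d : ℤ) {s : Finset (Ix.{u} n)} {l : Ix.{u} n} (hl : {l} ⊆ s) :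
    @Eq Γ(T.L d, U.ι ''ᵁ (U.ι ⁻¹ᵁ (j ⁻¹ᵁ chartMeet A s)))
      (resChart (U.ι ≫ j) ((T.L d).restrict U.ι) (r := {l}) hl (resSigma T U d l))
      ((T.L d).presheaf.map (homOfLE (U.ι.image_preimage_le (j ⁻¹ᵁ chartMeet A s))).op
        (resChart j (T.L d) (r := {l}) hl (T.σ d l))) :=
  (presheaf_map_map (T.L d) (U.ι.image_preimage_le (j ⁻¹ᵁ chartMeet A {l}))
    (image_preimage_mono U hl) (T.σ d l)).trans
    (presheaf_map_map (T.L d) (j.preimage_mono (RSh.meetOpen_anti (chartU A) hl))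
      (U.ι.image_preimage_le (j ⁻¹ᵁ chartMeet A s)) (T.σ d l)).symm

/-- Restriction of a twist family to an open subscheme. -/
noncomputable def TwistFamily.restrictOpen : TwistFamily (U.ι ≫ j) where
  L d := (T.L d).restrict U.ι
  qcoh d := have := T.qcoh d; inferInstance
  σ := resSigma T U
  free := isFreeGen_resSigma T U
  trans d s i l hi hl := by
    refine (restrict_smul_def U.ι (T.L d) (U.ι ⁻¹ᵁ (j ⁻¹ᵁ chartMeet A s)) _ _).trans ?_
    refine Eq.trans ?_ (((resChart_resSigma T U d hi).trans (congrArg _ (T.trans d s i l hi hl).symm)).symm)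
    refine (congrArg₂ (fun a b => a • b) ?_ (resChart_resSigma T U d hl)).trans
      (Scheme.Modules.map_smul _ _ _ _).symm
    exact ConcreteCategory.congr_hom (U.ι.app_appIso_inv (j ⁻¹ᵁ chartMeet A s)) _

end Groth.Agent.CohFinite
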