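import Mathlib.AlgebraicGeometry.Morphisms.Separated
import Mathlib.AlgebraicGeometry.Morphisms.ClosedImmersion
import Mathlib.AlgebraicGeometry.Morphisms.Affine

/-!
# Sections over `T ⊓ g⁻¹V` for a morphism to a separated scheme
-/

universe u
open CategoryTheory CategoryTheory.Limits AlgebraicGeometry TopologicalSpace Opposite

namespace Groth.Agent.CohFinite

variable {W X : Scheme.{u}} {A : CommRingCat.{u}} (b : X ⟶ Spec A) [IsSeparated b] (g : W ⟶ X)

include b in
theorem isAffineOpen_inf_preimage {T : W.Opens} (hT : IsAffineOpen T) {V : X.Opens} (hV : IsAffineOpen V) :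
    IsAffineOpen (T ⊓ g ⁻¹ᵁ V) := by
  have : IsAffine T := hT
  have : IsAffineHom ((T.ι ≫ g) ≫ b) := inferInstance
  have : IsAffineHom (T.ι ≫ g) := IsAffineHom.of_comp (T.ι ≫ g) b
  have h := (hV.preimage (T.ι ≫ g)).image_of_isOpenImmersion T.ι
  rwa [Scheme.Hom.comp_preimage, T.ι.image_preimage_eq_opensRange_inf, Scheme.Opens.opensRange_ι] at h

include b in
theorem closure_range_union_eq_top {T : W.Opens} (hT : IsAffineOpen T) {V : X.Opens}
    (hV : IsAffineOpen V) :
    Subring.closure (Set.range (W.presheaf.map (homOfLE (inf_le_left : T ⊓ g ⁻¹ᵁ V ≤ T)).op).hom ∪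
      Set.range (g.appLE V (T ⊓ g ⁻¹ᵁ V) inf_le_right).hom) = ⊤ := by
  set Q := T ⊓ g ⁻¹ᵁ V
  have hQ : IsAffineOpen Q := isAffineOpen_inf_preimage b g hT hV
  set S := Subring.closure (Set.range (W.presheaf.map (homOfLE (inf_le_left : Q ≤ T)).op).hom ∪
    Set.range (g.appLE V Q inf_le_right).hom)
  let α : Γ(W, T) ⟶ CommRingCat.of S := CommRingCat.ofHom
    ((W.presheaf.map (homOfLE (inf_le_left : Q ≤ T)).op).hom.codRestrict S
      fun x => Subring.subset_closure (Or.inl ⟨x, rfl⟩))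
  let β : Γ(X, V) ⟶ CommRingCat.of S := CommRingCat.ofHom
    ((g.appLE V Q inf_le_right).hom.codRestrict S fun x => Subring.subset_closure (Or.inr ⟨x, rfl⟩))
  let γ : CommRingCat.of S ⟶ Γ(W, Q) := CommRingCat.ofHom S.subtype
  let h₁ : Spec (CommRingCat.of S) ⟶ W := Spec.map α ≫ hT.fromSpec
  let h₂ : Spec (CommRingCat.of S) ⟶ X := Spec.map β ≫ hV.fromSpec
  have e₁ : Spec.map γ ≫ h₁ = hQ.fromSpec := by
    simp only [h₁, ← Category.assoc, ← Spec.map_comp]
    exact hT.map_fromSpec hQ _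
  have e₂ : Spec.map γ ≫ h₂ = hQ.fromSpec ≫ g := by
    simp only [h₂, ← Category.assoc, ← Spec.map_comp]
    exact hV.SpecMap_appLE_fromSpec g hQ inf_le_right
  have w : h₁ ≫ g ≫ b = h₂ ≫ b := by
    obtain ⟨u, hu⟩ := Spec.map_surjective (h₁ ≫ g ≫ b)
    obtain ⟨v, hv⟩ := Spec.map_surjective (h₂ ≫ b)
    rw [← hu, ← hv]
    congr 1
    have e : Spec.map (u ≫ γ) = Spec.map (v ≫ γ) := by
      rw [Spec.map_comp, Spec.map_comp, hu, hv, reassoc_of% e₁, reassoc_of% e₂]
    ext x
    exact congrArg (fun f : A ⟶ Γ(W, Q) => f x) (Spec.map_injective e)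
  let G : W ⟶ pullback (g ≫ b) b := pullback.lift (𝟙 W) g (Category.id_comp _)
  have hG : IsClosedImmersion G := by
    have : IsClosedImmersion (G ≫ pullback.fst (g ≫ b) b) := by
      simp only [G, pullback.lift_fst]; infer_instance
    exact IsClosedImmersion.of_comp G (pullback.fst (g ≫ b) b)
  let O : (pullback (g ≫ b) b).Opens := pullback.fst (g ≫ b) b ⁻¹ᵁ T ⊓ pullback.snd (g ≫ b) b ⁻¹ᵁ V
  have hGO : G ⁻¹ᵁ O = Q := by
    simp only [O, G, Scheme.Hom.preimage_inf, ← Scheme.Hom.comp_preimage, pullback.lift_fst,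
      pullback.lift_snd]
    rfl
  let h : Spec (CommRingCat.of S) ⟶ pullback (g ≫ b) b := pullback.lift h₁ h₂ w
  have hrange : Set.range h ⊆ Set.range O.ι := by
    rw [Scheme.Opens.range_ι]
    rintro _ ⟨z, rfl⟩
    have h1 : (h ≫ pullback.fst _ _) z ∈ T := by
      simp only [h, pullback.lift_fst, h₁, Scheme.Hom.comp_apply]
      exact hT.range_fromSpec.subset (Set.mem_range_self (Spec.map α z))
    have h2 : (h ≫ pullback.snd _ _) z ∈ V := by
      simp only [h, pullback.lift_snd, h₂, Scheme.Hom.comp_apply]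
      exact hV.range_fromSpec.subset (Set.mem_range_self (Spec.map β z))
    exact ⟨h1, h2⟩
  let h' := IsOpenImmersion.lift O.ι h hrange
  have key : IsClosedImmersion (Spec.map γ ≫ h') := by
    have e : Spec.map γ ≫ h' = (hQ.isoSpec.inv ≫ W.homOfLE hGO.ge) ≫ (G ∣_ O) := by
      rw [← cancel_mono O.ι, Category.assoc, IsOpenImmersion.lift_fac, Category.assoc,
        morphismRestrict_ι]
      apply pullback.hom_ext
      · simp only [h, G, Category.assoc, pullback.lift_fst, Category.comp_id, Scheme.homOfLE_ι, e₁]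
        rfl
      · simp only [h, G, Category.assoc, pullback.lift_snd, e₂]
        rw [Scheme.homOfLE_ι_assoc]
        rfl
    have : IsClosedImmersion (G ∣_ O) := IsZariskiLocalAtTarget.restrict hG O
    have : IsIso (W.homOfLE hGO.ge) := by
      refine ⟨W.homOfLE hGO.le, ?_, ?_⟩ <;> simp
    rw [e]
    infer_instance
  have : IsClosedImmersion (Spec.map γ) := IsClosedImmersion.of_comp (Spec.map γ) h'
  obtain ⟨-, hsurj⟩ := IsClosedImmersion.isAffine_surjective_of_isAffine (f := Spec.map γ)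
  refine eq_top_iff.2 fun x _ => ?_
  obtain ⟨y, hy⟩ : ∃ y, γ y = x := by
    have := (Scheme.ΓSpecIso_naturality γ)
    obtain ⟨z, hz⟩ := hsurj ((Scheme.ΓSpecIso (Γ(W, Q))).inv x)
    refine ⟨(Scheme.ΓSpecIso (CommRingCat.of S)).hom z, ?_⟩
    have h3 := ConcreteCategory.congr_hom this z
    simp only [ConcreteCategory.comp_apply] at h3
    rw [← h3, hz, ← ConcreteCategory.comp_apply, Iso.inv_hom_id]
    rfl
  exact hy ▸ y.2

end Groth.Agent.CohFinite
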