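import Groth.Agent.CohFinite.RelVanishing
import Groth.Agent.CohFinite.RestrictFamily
import Groth.Agent.CohFinite.SepGen
import Groth.Agent.CohFinite.HHFinite

/-!
# Vanishing and finiteness over the affine opens of the base
-/

set_option backward.isDefEq.respectTransparency false
universe u
open CategoryTheory AlgebraicGeometry TopologicalSpace Opposite
open scoped Groth.Agent.CohVanish

namespace Groth.Agent.CohFinite

open Groth.Agent.ProjCoh Groth.Agent.CechCmp Groth.Agent.CohVanish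

variable {n : ℕ} {A : Type u} [CommRing A] [IsNoetherianRing A] {X W : Scheme.{u}}
  (b : X ⟶ Spec (CommRingCat.of A)) [IsSeparated b] [LocallyOfFiniteType b]
  (g : W ⟶ X) (j : W ⟶ Proj (CohB1.polyGrading n A)) [IsClosedImmersion j]
  (hg : g ≫ b = j ≫ tS n A) (T : TwistFamily j)

include hg in
theorem affine_base {V : X.Opens} (hV : IsAffineOpen V) :
    (∀ d, Module.Finite Γ(X, V) Γ((Scheme.Modules.pushforward g).obj (T.L d), V)) ∧
      ∃ d₀ : ℤ, ∀ d, d₀ ≤ d → ∀ q, Subsingleton (EU (X := sp W) (Coh.toAb (T.L d)) (g ⁻¹ᵁ V) (q + 1)) := by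
  have hN : IsNoetherianRing Γ(X, V) := by
    have := LocallyOfFiniteType.isLocallyNoetherian b
    exact IsLocallyNoetherian.component_noetherian ⟨V, hV⟩
  set U := g ⁻¹ᵁ V with hUdef
  let φ : A →+* Γ(X, V) :=
    ((Scheme.ΓSpecIso (CommRingCat.of A)).inv ≫ b.appLE ⊤ V le_top).hom
  let t : (U : Scheme.{u}) ⟶ Spec (CommRingCat.of Γ(X, V)) := (g ∣_ V) ≫ hV.isoSpec.hom
  have htV : t ≫ hV.fromSpec = U.ι ≫ g := by
    simp only [t, Category.assoc, IsAffineOpen.isoSpec_hom_fromSpec, morphismRestrict_ι]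
    rfl
  have hφ : Spec.map (CommRingCat.ofHom φ) = hV.fromSpec ≫ b := by
    have := (isAffineOpen_top (Spec (CommRingCat.of A))).SpecMap_appLE_fromSpec b hV le_top
    rw [← this]
    change Spec.map ((Scheme.ΓSpecIso (CommRingCat.of A)).inv ≫ b.appLE ⊤ V le_top) = _
    rw [Spec.map_comp, IsAffineOpen.fromSpec_top, Scheme.isoSpec_Spec_inv]
  have hcomm : t ≫ Spec.map (CommRingCat.ofHom φ) = (U.ι ≫ j) ≫ tS n A := by
    rw [hφ, reassoc_of% htV, hg, Category.assoc]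
  have haff : ∀ s : Finset (Ix.{u} n), s.Nonempty → IsAffineOpen ((U.ι ≫ j) ⁻¹ᵁ chartMeet A s) := by
    intro s hs
    rw [Scheme.Hom.comp_preimage, ← U.ι.isAffineOpen_iff_of_isOpenImmersion,
      U.ι.image_preimage_eq_opensRange_inf, Scheme.Opens.opensRange_ι, inf_comm]
    exact isAffineOpen_inf_preimage b g ((isAffineOpen_chartMeet s hs).preimage j) hV
  have hgen : ∀ l : Ix.{u} n, Subring.closure
      (Set.range (fun c : Γ(X, V) => (U : Scheme.{u}).presheaf.map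
          (homOfLE (le_top (a := (U.ι ≫ j) ⁻¹ᵁ chartMeet A {l}))).op (Coh.toGlobal t c)) ∪
        Set.range (pullReg (U.ι ≫ j) {l})) = ⊤ := by
    intro l
    set C := chartMeet A ({l} : Finset (Ix.{u} n))
    have hC : IsAffineOpen C := isAffineOpen_chartMeet _ (Finset.singleton_nonempty l)
    have hle : U.ι ''ᵁ ((U.ι ≫ j) ⁻¹ᵁ C) = j ⁻¹ᵁ C ⊓ g ⁻¹ᵁ V := by
      rw [Scheme.Hom.comp_preimage, U.ι.image_preimage_eq_opensRange_inf, Scheme.Opens.opensRange_ι,
        inf_comm]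
    have hle' : (U.ι ≫ j) ⁻¹ᵁ C ≤ U.ι ⁻¹ᵁ (j ⁻¹ᵁ C ⊓ g ⁻¹ᵁ V) := by
      rw [← hle, U.ι.preimage_image_eq]
    let f : Γ(W, j ⁻¹ᵁ C ⊓ g ⁻¹ᵁ V) ⟶ Γ((U : Scheme.{u}), (U.ι ≫ j) ⁻¹ᵁ C) :=
      U.ι.appLE _ _ hle'
    have hf : Function.Surjective f := by
      have : IsIso f := by
        have e := U.ι.appLE_appIso_inv hle'
        have : IsIso (f ≫ (U.ι.appIso ((U.ι ≫ j) ⁻¹ᵁ C)).inv) := by
          rw [e]
          have : IsIso (homOfLE ((U.ι.image_mono hle').trans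
              (U.ι.image_preimage_eq_opensRange_inf (j ⁻¹ᵁ C ⊓ g ⁻¹ᵁ V) ▸ inf_le_right))) :=
            ⟨homOfLE hle.ge, rfl, rfl⟩
          infer_instance
        exact IsIso.of_isIso_comp_right f (U.ι.appIso ((U.ι ≫ j) ⁻¹ᵁ C)).inv
      exact (ConcreteCategory.bijective_of_isIso f).2
    rw [eq_top_iff]
    intro x _
    obtain ⟨y, rfl⟩ := hf x
    have hy : y ∈ Subring.closure _ := (closure_range_union_eq_top b g (hC.preimage j) hV).ge (Subring.mem_top y)
    have := (Subring.mem_map (f := f.hom)).2 ⟨y, hy, rfl⟩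
    rw [RingHom.map_closure] at this
    refine Subring.closure_mono ?_ this
    rintro _ ⟨z, (⟨a, rfl⟩ | ⟨c, rfl⟩), rfl⟩
    · obtain ⟨a', rfl⟩ := j.app_surjective C hC a
      obtain ⟨r, rfl⟩ := (theta_bijective ({l} : Finset (Ix.{u} n)) (Finset.singleton_nonempty l)).2 a'
      refine Or.inr ⟨r, ?_⟩
      change ((j.app C) ≫ U.ι.app (j ⁻¹ᵁ C)) (theta A {l} r) =
        ((j.app C ≫ W.presheaf.map (homOfLE inf_le_left).op) ≫ f) (theta A {l} r)
      congr 1
      rw [Category.assoc, Scheme.Hom.map_appLE, U.ι.app_eq_appLE]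
      rfl
    · refine Or.inl ⟨c, ?_⟩
      change (((Scheme.ΓSpecIso (CommRingCat.of Γ(X, V))).inv ≫ t.appTop) ≫
          (U : Scheme.{u}).presheaf.map (homOfLE le_top).op) c =
        (g.appLE V (j ⁻¹ᵁ C ⊓ g ⁻¹ᵁ V) inf_le_right ≫ f) c
      congr 1
      rw [Category.assoc, Scheme.Hom.appLE_comp_appLE]
      have h1 : (Scheme.ΓSpecIso (CommRingCat.of Γ(X, V))).inv ≫
          t.appLE ⊤ ((U.ι ≫ j) ⁻¹ᵁ C) le_top =
          (U.ι ≫ g).appLE V ((U.ι ≫ j) ⁻¹ᵁ C) (hle'.trans (U.ι.preimage_mono inf_le_right)) := by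
        simp only [← htV, Scheme.Hom.comp_appLE, IsAffineOpen.fromSpec_app_self, Category.assoc,
          Scheme.Hom.map_appLE]
        rfl
      rw [← h1]
      rfl
  obtain ⟨hfin, d₀, hvan⟩ := exists_relative_vanishing φ t (U.ι ≫ j) hcomm haff hgen (T.restrictOpen U)
  refine ⟨fun d => ?_, d₀, fun d hd q => ?_⟩
  · let : (U : Scheme.{u}).Over (Spec (CommRingCat.of Γ(X, V))) := ⟨t⟩
    have hZ : Module.Finite Γ(X, V) (HMod (modRSh (Coh.toGlobal t) ((T.L d).restrict U.ι)) ⊤ 0) :=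
      @Module.Finite.equiv _ _ _ _ _ _ _ _ (hfin d)
        (hhEquiv (X := (U : Scheme.{u})) ((T.L d).restrict U.ι) 0)
    obtain ⟨G, hG⟩ := hZ.fg_top
    let ev : HMod (modRSh (Coh.toGlobal t) ((T.L d).restrict U.ι)) ⊤ 0 →+
        Γ((Scheme.Modules.pushforward g).obj (T.L d), V) :=
      ((T.L d).presheaf.map (eqToHom (show g ⁻¹ᵁ V = U.ι ''ᵁ ⊤ by
        rw [U.ι.image_top_eq_opensRange, Scheme.Opens.opensRange_ι])).op).hom.comp
        (eu0 (X := sp (U : Scheme.{u})) ⊤ (Coh.toAb ((T.L d).restrict U.ι))).toAddMonoidHom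
    have hev : Function.Surjective ev := by
      intro z
      obtain ⟨y, hy⟩ := (ConcreteCategory.bijective_of_isIso
        ((T.L d).presheaf.map (eqToHom (show g ⁻¹ᵁ V = U.ι ''ᵁ ⊤ by
          rw [U.ι.image_top_eq_opensRange, Scheme.Opens.opensRange_ι])).op)).2 z
      exact ⟨(eu0 (X := sp (U : Scheme.{u})) ⊤ (Coh.toAb ((T.L d).restrict U.ι))).symm y,
        (congrArg _ (AddEquiv.apply_symm_apply _ y)).trans hy⟩
    have hsmul : ∀ (c : Γ(X, V)) (x : HMod (modRSh (Coh.toGlobal t) ((T.L d).restrict U.ι)) ⊤ 0),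
        ev (c • x) = c • ev x := by
      intro c x
      change (T.L d).presheaf.map _ (eu0 (X := sp (U : Scheme.{u})) ⊤ _
          (eMap (Coh.smulAb ((T.L d).restrict U.ι) (Coh.toGlobal t c)) ⊤ 0 x)) = _
      rw [eu0_eMap]
      set z := eu0 (X := sp (U : Scheme.{u})) ⊤ (Coh.toAb ((T.L d).restrict U.ι)) x
      refine (congrArg _ (restrict_smul_def U.ι (T.L d) ⊤
        (Coh.resTop (U : Scheme.{u}) (op ⊤) (Coh.toGlobal t c)) z)).trans ?_
      refine (Scheme.Modules.map_smul (T.L d) _ _ _).trans ?_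
      refine congrArg (fun r : Γ(W, g ⁻¹ᵁ V) => (r • _ : Γ(T.L d, g ⁻¹ᵁ V))) ?_
      have hi : U.ι ''ᵁ ⊤ = g ⁻¹ᵁ V := by
        rw [U.ι.image_top_eq_opensRange, Scheme.Opens.opensRange_ι]
      have htop : (⊤ : (U : Scheme.{u}).Opens) ≤ U.ι ⁻¹ᵁ (g ⁻¹ᵁ V) := by
        rw [← hi, U.ι.preimage_image_eq]
      have h1 : (Scheme.ΓSpecIso (CommRingCat.of Γ(X, V))).inv ≫ t.appTop =
          (U.ι ≫ g).appLE V ⊤ htop := by
        simp only [← htV, Scheme.Hom.comp_appLE, IsAffineOpen.fromSpec_app_self, Category.assoc,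
          Scheme.Hom.map_appLE]
        rw [Scheme.Hom.appTop, t.app_eq_appLE]
        rfl
      change ((((Scheme.ΓSpecIso (CommRingCat.of Γ(X, V))).inv ≫ t.appTop) ≫
          (U : Scheme.{u}).presheaf.map (homOfLE le_top).op) ≫ (U.ι.appIso ⊤).inv ≫
          W.presheaf.map (eqToHom hi.symm).op) c = g.app V c
      congr 1
      rw [h1, Scheme.Hom.comp_appLE]
      simp only [Category.assoc]
      rw [Scheme.Hom.appLE_map_assoc, Scheme.Hom.appLE_appIso_inv_assoc, ← Functor.map_comp,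
        Subsingleton.elim (_ ≫ _ : op (g ⁻¹ᵁ V) ⟶ op (g ⁻¹ᵁ V)) (𝟙 _),
        CategoryTheory.Functor.map_id, Category.comp_id]
    classical
    refine ⟨⟨G.image ev, eq_top_iff.2 fun z _ => ?_⟩⟩
    obtain ⟨x, rfl⟩ := hev z
    have hx : x ∈ Submodule.span Γ(X, V) (G : Set _) := hG ▸ Submodule.mem_top
    refine Submodule.span_induction (p := fun w _ => ev w ∈ Submodule.span Γ(X, V) (↑(G.image ev) : Set _))
      ?_ ?_ ?_ ?_ hx
    · exact fun w hw => Submodule.subset_span (Finset.mem_coe.2 (Finset.mem_image_of_mem ev hw))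
    · rw [map_zero]; exact zero_mem _
    · intro u v _ _ hu hv; rw [map_add]; exact add_mem hu hv
    · intro c w _ hw; rw [hsmul]; exact Submodule.smul_mem _ c hw
  · obtain ⟨e⟩ := nonempty_EU_equiv_HH U.ι (T.L d) (q + 1)
    rw [Scheme.Opens.opensRange_ι] at e
    exact @Function.Injective.subsingleton _ _ _ e.injective (hvan d hd (q + 1) q.succ_pos)

end Groth.Agent.CohFinite
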