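import Groth.Agent.ProjCoh.Chart
import Groth.Agent.ProjCoh.LSys
import Groth.Agent.ProjCoh.Coherent
import Groth.Agent.ProjPoint.Basic

/-!
# Morphisms into a chart of projective space given by coordinates
-/

set_option backward.isDefEq.respectTransparency false
universe u
open CategoryTheory AlgebraicGeometry TopologicalSpace Opposite HomogeneousLocalization

namespace Groth.Agent.CohFinite

open Groth.Agent.ProjCoh

variable {n : ℕ} {A : Type u} [CommRing A] {S : Scheme.{u}}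

local notation "𝒜" => CohB1.polyGrading n A

/-- A morphism from an affine scheme into an affine open, given on functions. -/
theorem exists_hom_of_app {P : Scheme.{u}} [IsAffine S] {C : P.Opens} (hC : IsAffineOpen C)
    (a : Γ(P, C) ⟶ Γ(S, ⊤)) :
    ∃ (u : S ⟶ P) (hu : ⊤ ≤ u ⁻¹ᵁ C), u.appLE C ⊤ hu = a ∧ ∀ z, u.appLE C ⊤ hu z = a z := by
  suffices h : ∃ (u : S ⟶ P) (hu : ⊤ ≤ u ⁻¹ᵁ C), u.appLE C ⊤ hu = a from
    let ⟨u, hu, h⟩ := h; ⟨u, hu, h, fun z => by rw [h]⟩
  refine ⟨S.isoSpec.hom ≫ Spec.map a ≫ hC.fromSpec, fun x _ => ?_, ?_⟩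
  · exact hC.range_fromSpec.subset (Set.mem_range_self (Spec.map a (S.isoSpec.hom x)))
  · have hw : (⊤ : S.Opens) ≤ (S.isoSpec.hom ≫ Spec.map a) ⁻¹ᵁ (hC.fromSpec ⁻¹ᵁ C) := fun x _ =>
      hC.range_fromSpec.subset (Set.mem_range_self (Spec.map a (S.isoSpec.hom x)))
    have key : ∀ (w : S ⟶ Spec Γ(P, C)) (hw : (⊤ : S.Opens) ≤ w ⁻¹ᵁ (hC.fromSpec ⁻¹ᵁ C))
        (h : (⊤ : S.Opens) ≤ (w ≫ hC.fromSpec) ⁻¹ᵁ C),
        (w ≫ hC.fromSpec).appLE C ⊤ h = (Scheme.ΓSpecIso Γ(P, C)).inv ≫ w.appTop := by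
      intro w hw h
      rw [Scheme.Hom.comp_appLE, IsAffineOpen.fromSpec_app_self, Category.assoc,
        Scheme.Hom.map_appLE, Scheme.Hom.appTop, Scheme.Hom.app_eq_appLE]
      rfl
    have := key (S.isoSpec.hom ≫ Spec.map a) hw hw
    simp only [Category.assoc] at this
    rw [this]
    simp [Scheme.isoSpec, Scheme.toSpecΓ_appTop]

theorem rat_eq_psiR (l k : Ix.{u} n)
    (hk : (MvPolynomial.X k.down : MvPolynomial (Fin (n + 1)) A) ∈ 𝒜 (1 • ({l} : Finset (Ix.{u} n)).card)) :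
    psiR A {l} (Away.mk 𝒜 (xs_mem ({l} : Finset (Ix.{u} n))) 1 _ hk) =
      rat (Finset.mem_singleton_self l) 1 k := by
  refine Subtype.ext ?_
  change psi A _ _ = _
  rw [psi_mk, coe_rat, toL, MvPolynomial.coe_eval₂Hom, MvPolynomial.eval₂_X, lv,
    AddMonoidAlgebra.single_mul_single, one_mul]
  congr 1
  funext i
  rcases k with ⟨k⟩
  by_cases h : i = l
  · subst h; simp [es, ev, Pi.single_apply]; ring
  · simp [es, ev, Pi.single_apply, h]

theorem evalAway_fromZero {T : Type u} [CommRing T] (φ : A →+* T) (v : Fin (n + 1) → T) {d : ℕ}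
    {f : MvPolynomial (Fin (n + 1)) A} (hf : f ∈ 𝒜 d)
    (hg : IsUnit (MvPolynomial.eval₂Hom φ v f)) (r : A) :
    ProjPoint.evalAway φ v f hg (fromZeroRingHom 𝒜 _ (algebraMap A (𝒜 0) r)) = φ r := by
  have h0 := ProjPoint.evalAway_mk φ v hg hf 0 (MvPolynomial.C r)
    (by rw [zero_smul]; exact MvPolynomial.isHomogeneous_C _ r)
  rw [pow_zero, mul_one] at h0
  refine Eq.trans ?_ (h0.trans (MvPolynomial.eval₂_C φ v r))
  refine congrArg _ (HomogeneousLocalization.val_injective _ ?_)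
  rw [Away.val_mk]
  change (HomogeneousLocalization.mk _ : Away 𝒜 f).val = _
  rw [HomogeneousLocalization.val_mk]
  simp only [pow_zero]
  rfl

/-- The functions on a chart evaluated at coordinates. -/
theorem exists_chart_eval {T : Type u} [CommRing T] (φ : A →+* T) (v : Fin (n + 1) → T)
    (l : Ix.{u} n) (hl : v l.down = 1) :
    ∃ a : Γ(Proj 𝒜, chartMeet A {l}) →+* T,
      (∀ r : A, a (theta A {l} (algebraMap A (reg A {l}) r)) = φ r) ∧
      ∀ k : Ix.{u} n, a (theta A {l} (rat (Finset.mem_singleton_self l) 1 k)) = v k.down := by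
  have hxs : MvPolynomial.eval₂Hom φ v (xs (R := A) ({l} : Finset (Ix.{u} n))) = 1 := by
    simp [xs, hl]
  have hg : IsUnit (MvPolynomial.eval₂Hom φ v (xs (R := A) ({l} : Finset (Ix.{u} n)))) := by
    rw [hxs]; exact isUnit_one
  let eC := RingEquiv.ofBijective (theta A ({l} : Finset (Ix.{u} n)))
    (theta_bijective _ (Finset.singleton_nonempty l))
  let eR := RingEquiv.ofBijective (psiR A ({l} : Finset (Ix.{u} n))) (psiR_bijective _)
  refine ⟨(ProjPoint.evalAway φ v _ hg).comp (eR.symm.toRingHom.comp eC.symm.toRingHom),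
    fun r => ?_, fun k => ?_⟩
  · refine (congrArg (ProjPoint.evalAway φ v _ hg) ?_).trans (evalAway_fromZero φ v (xs_mem _) hg r)
    rw [show algebraMap A (reg A {l}) r =
      psiR A {l} (fromZeroRingHom 𝒜 _ (algebraMap A (𝒜 0) r)) from Subtype.ext (psi_algebraMap _ r).symm]
    exact (congrArg eR.symm (eC.symm_apply_apply _)).trans (eR.symm_apply_apply _)
  · have hk : (MvPolynomial.X k.down : MvPolynomial (Fin (n + 1)) A) ∈
        𝒜 (1 • ({l} : Finset (Ix.{u} n)).card) := by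
      simpa using ProjPoint.X_mem k.down
    have h0 := ProjPoint.evalAway_mk φ v hg (xs_mem _) 1 _ hk
    rw [hxs, one_pow, mul_one] at h0
    refine (congrArg (ProjPoint.evalAway φ v _ hg) ?_).trans (h0.trans (MvPolynomial.eval₂_X φ v k.down))
    rw [← rat_eq_psiR l k hk]
    exact (congrArg eR.symm (eC.symm_apply_apply _)).trans (eR.symm_apply_apply _)

/-- A morphism from an affine scheme into a chart with prescribed coordinates. -/
theorem exists_chart_point [IsAffine S] (φ : A →+* Γ(S, ⊤)) (v : Fin (n + 1) → Γ(S, ⊤))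
    (l : Ix.{u} n) (hl : v l.down = 1) :
    ∃ (u : S ⟶ Proj 𝒜) (hu : ⊤ ≤ u ⁻¹ᵁ chartMeet A {l}),
      (∀ r : A, Coh.toGlobal (u ≫ tS n A) r = φ r) ∧
      ∀ k : Ix.{u} n, u.appLE (chartMeet A {l}) ⊤ hu
        (theta A {l} (rat (Finset.mem_singleton_self l) 1 k)) = v k.down := by
  obtain ⟨a, ha₁, ha₂⟩ := exists_chart_eval φ v l hl
  obtain ⟨u, hu, happ, happ'⟩ := exists_hom_of_app
    (isAffineOpen_chartMeet ({l} : Finset (Ix.{u} n)) (Finset.singleton_nonempty l)) (CommRingCat.ofHom a)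
  refine ⟨u, hu, fun r => ?_, fun k => ?_⟩
  · have e : (Scheme.ΓSpecIso (CommRingCat.of A)).inv ≫ (u ≫ tS n A).appTop =
        ((Scheme.ΓSpecIso (CommRingCat.of A)).inv ≫ (tS n A).appTop ≫
          (Proj 𝒜).presheaf.map (homOfLE (le_top (a := chartMeet A {l}))).op) ≫
            u.appLE (chartMeet A {l}) ⊤ hu := by
      rw [Category.assoc, Category.assoc, Scheme.Hom.map_appLE, Scheme.Hom.comp_appTop]
      congr 2
      rw [Scheme.Hom.appTop, Scheme.Hom.app_eq_appLE]
      rfl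
    change ((Scheme.ΓSpecIso (CommRingCat.of A)).inv ≫ (u ≫ tS n A).appTop) r = φ r
    rw [e, ConcreteCategory.comp_apply, happ']
    rw [ConcreteCategory.comp_apply, ConcreteCategory.comp_apply]
    exact (congrArg a (theta_algebraMap _ r)).trans (ha₁ r)
  · exact (happ' _).trans (ha₂ k)

end Groth.Agent.CohFinite
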