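import Groth.Agent.ProjCoh.Chart

/-!
# Projective space is proper over the base ring
-/

universe u
open CategoryTheory AlgebraicGeometry

namespace Groth.Agent.CohFinite

variable {n : ℕ} {A : Type u} [CommRing A]

theorem polyGrading_zero_surjective :
    Function.Surjective (algebraMap A (CohB1.polyGrading n A 0)) := by
  rintro ⟨f, hf⟩
  have hf' : f.IsHomogeneous 0 := hf
  refine ⟨f.coeff 0, Subtype.ext ?_⟩
  change MvPolynomial.C (f.coeff 0) = f
  exact (MvPolynomial.totalDegree_eq_zero_iff_eq_C.mp (Nat.le_zero.mp hf'.totalDegree_le)).symm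

theorem isProper_tS : IsProper (ProjCoh.tS n A) := by
  have : IsScalarTower A (CohB1.polyGrading n A 0) (MvPolynomial (Fin (n + 1)) A) :=
    IsScalarTower.of_algebraMap_eq (R := A) (S := CohB1.polyGrading n A 0) (A := MvPolynomial (Fin (n + 1)) A) fun x => rfl
  have : Algebra.FiniteType (CohB1.polyGrading n A 0) (MvPolynomial (Fin (n + 1)) A) :=
    Algebra.FiniteType.of_restrictScalars_finiteType A _ _
  have : IsClosedImmersion (Spec.map (CommRingCat.ofHom (algebraMap A (CohB1.polyGrading n A 0)))) :=
    IsClosedImmersion.spec_of_surjective _ polyGrading_zero_surjective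
  exact inferInstanceAs (IsProper (Proj.toSpecZero (CohB1.polyGrading n A) ≫
    Spec.map (CommRingCat.ofHom (algebraMap A (CohB1.polyGrading n A 0)))))

theorem isNoetherian_proj [IsNoetherianRing A] : IsNoetherian (Proj (CohB1.polyGrading n A)) := by
  have := isProper_tS (n := n) (A := A)
  exact { toIsLocallyNoetherian := LocallyOfFiniteType.isLocallyNoetherian (ProjCoh.tS n A)
          toCompactSpace := QuasiCompact.compactSpace_of_compactSpace (ProjCoh.tS n A) }

end Groth.Agent.CohFinite
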