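import Groth.Agent.CohFinite.RelVanishingDefs
import Groth.Agent.CohFinite.ClosedDescent
import Groth.Agent.QCohLib.Pullback
import Groth.Agent.ProjCoh.Serre
import Groth.Agent.CohVanish.Sections

/-!
# The twists `O_W(d)` of a closed subscheme of projective space
-/

set_option backward.isDefEq.respectTransparency false
universe u
open CategoryTheory AlgebraicGeometry TopologicalSpace Opposite

namespace Groth.Agent.CohFinite

open Groth.Agent.ProjCoh Groth.Agent.CechCmp

variable {n : ℕ} {A : Type u} [CommRing A] {W : Scheme.{u}}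
  (j : W ⟶ Proj (CohB1.polyGrading n A)) [IsClosedImmersion j]

local notation "Pn" => Proj (CohB1.polyGrading n A)

/-- `j_* O_W ⊗ O(d)`. -/
noncomputable def twPush (d : ℤ) : (Proj (CohB1.polyGrading n A)).Modules :=
  CohB1.tensorMod ((Scheme.Modules.pushforward j).obj (Coh.structureModule W)) (Twist.twist (CohB1.polyGrading n A) d)

theorem isCoh_twPush [IsNoetherianRing A] [IsLocallyNoetherian (Proj (CohB1.polyGrading n A))] (d : ℤ) :
    Coh.IsCoh (twPush j d) := by
  have := LocallyOfFiniteType.isLocallyNoetherian j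
  refine isCoh_twist (R := A) _ (QCohLib.isCoh_pushforward j ?_) d
  refine QCohLib.isCoh_iff.mpr ⟨CohVanish.isQuasicoherent_oMod W, fun U => ?_⟩
  exact inferInstanceAs (Module.Finite Γ(W, U.1) Γ(W, U.1))

theorem killed_twPush (d : ℤ) : ClSub.KilledByIdeal j.ker (twPush j d) := by
  intro U a ha (m : Γ(twPush j d, U.1))
  rw [Scheme.Hom.ker_apply] at ha
  let M := (Scheme.Modules.pushforward j).obj (Coh.structureModule W)
  let Lt := Twist.twist (CohB1.polyGrading n A) d
  change a • m = 0
  refine TopCat.Sheaf.eq_of_locally_eq' ⟨(twPush j d).presheaf, (twPush j d).isSheaf⟩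
    (fun i : Ix.{u} n => U.1 ⊓ chartMeet A ({i} : Finset (Ix.{u} n))) U.1
    (fun i => homOfLE inf_le_left) (fun x hx => ?_) _ _ fun i => ?_
  · obtain ⟨i, hi⟩ := Opens.mem_iSup.1 ((iSup_chartU (n := n) (R := A)).ge (Opens.mem_top x))
    refine Opens.mem_iSup.2 ⟨i, hx, ?_⟩
    change x ∈ ⨅ k ∈ ({i} : Finset (Ix.{u} n)), chartU A k
    rw [Finset.iInf_singleton]
    exact hi
  · let V := U.1 ⊓ chartMeet A ({i} : Finset (Ix.{u} n))
    change (twPush j d).presheaf.map (homOfLE (inf_le_left : V ≤ U.1)).op (a • m) =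
      (twPush j d).presheaf.map (homOfLE (inf_le_left : V ≤ U.1)).op 0
    rw [map_zero, Scheme.Modules.map_smul]
    obtain ⟨q, hq⟩ := tmul_gen_surjective M (isFreeGen_gen (Finset.mem_singleton_self i) d)
      (inf_le_right : V ≤ _) ((twPush j d).presheaf.map (homOfLE (inf_le_left : V ≤ U.1)).op m)
    refine (congrArg (fun z => (Proj (CohB1.polyGrading n A)).presheaf.map
      (homOfLE (inf_le_left : V ≤ U.1)).op a • z) hq.symm).trans ?_
    refine (tmul_smul_left M Lt V _ q _).symm.trans ?_
    have h0 : (Proj (CohB1.polyGrading n A)).presheaf.map (homOfLE (inf_le_left : V ≤ U.1)).op a • q = 0 := by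
      change (show Γ(W, j ⁻¹ᵁ V) from j.app V ((Proj (CohB1.polyGrading n A)).presheaf.map
        (homOfLE (inf_le_left : V ≤ U.1)).op a)) * (show Γ(W, j ⁻¹ᵁ V) from q) = 0
      have : j.app V ((Proj (CohB1.polyGrading n A)).presheaf.map (homOfLE (inf_le_left : V ≤ U.1)).op a) = 0 := by
        rw [← ConcreteCategory.comp_apply, Scheme.Hom.naturality, ConcreteCategory.comp_apply,
          show j.app U.1 a = 0 from ha, map_zero]
      rw [this, zero_mul]
    exact (congrArg (fun z => SecTwist.tmul M Lt V z (Lt.presheaf.map _ _)) h0).trans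
      (tmul_zero_left M Lt V _)

/-- `O_W(d)`. -/
noncomputable def twL (d : ℤ) : W.Modules := (Scheme.Modules.pullback j).obj (twPush j d)

/-- The comparison of sections of `O_W(d)` with those on projective space. -/
noncomputable def twTheta (d : ℤ) (D : (Proj (CohB1.polyGrading n A)).Opens)
    (x : Γ(twPush j d, D)) : Γ(twL j d, j ⁻¹ᵁ D) :=
  ((Scheme.Modules.pullbackPushforwardAdjunction j).unit.app (twPush j d)).app D x

variable [IsNoetherianRing A] [IsLocallyNoetherian (Proj (CohB1.polyGrading n A))]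

theorem isIso_twUnit (d : ℤ) :
    IsIso ((Scheme.Modules.pullbackPushforwardAdjunction j).unit.app (twPush j d)) := by
  have := (isCoh_twPush j d).1
  exact isIso_unit j _ (killed_twPush j d)

theorem twTheta_bijective (d : ℤ) (D : (Proj (CohB1.polyGrading n A)).Opens) :
    Function.Bijective (twTheta j d D) := by
  have := isIso_twUnit j d
  exact ConcreteCategory.bijective_of_isIso
    (((Scheme.Modules.pullbackPushforwardAdjunction j).unit.app (twPush j d)).app D)

omit [IsClosedImmersion j] [IsNoetherianRing A] [IsLocallyNoetherian (Proj (CohB1.polyGrading n A))] in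
theorem twTheta_smul (d : ℤ) (D : (Proj (CohB1.polyGrading n A)).Opens)
    (r : Γ(Proj (CohB1.polyGrading n A), D)) (x : Γ(twPush j d, D)) :
    twTheta j d D (r • x) = j.app D r • twTheta j d D x :=
  LinearMap.map_smul (((Scheme.Modules.pullbackPushforwardAdjunction j).unit.app (twPush j d)).val.app
    (op D)).hom r x

omit [IsClosedImmersion j] [IsNoetherianRing A] [IsLocallyNoetherian (Proj (CohB1.polyGrading n A))] in
theorem twTheta_res (d : ℤ) {D D' : (Proj (CohB1.polyGrading n A)).Opens} (h : D' ≤ D)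
    (x : Γ(twPush j d, D)) :
    (twL j d).presheaf.map (homOfLE (j.preimage_mono h)).op (twTheta j d D x) =
      twTheta j d D' ((twPush j d).presheaf.map (homOfLE h).op x) :=
  (ConcreteCategory.congr_hom (((Scheme.Modules.pullbackPushforwardAdjunction j).unit.app
    (twPush j d)).mapPresheaf.naturality (homOfLE h).op) x).symm

omit [IsNoetherianRing A] [IsLocallyNoetherian (Proj (CohB1.polyGrading n A))] in
theorem twTheta_twTmul (d : ℤ) (D : (Proj (CohB1.polyGrading n A)).Opens) (r : Γ(W, j ⁻¹ᵁ D))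
    (g : Γ(Twist.twist (CohB1.polyGrading n A) d, D)) :
    twTheta j d D (SecTwist.tmul ((Scheme.Modules.pushforward j).obj (Coh.structureModule W))
      (Twist.twist (CohB1.polyGrading n A) d) D r g) =
    r • twTheta j d D (SecTwist.tmul ((Scheme.Modules.pushforward j).obj (Coh.structureModule W))
      (Twist.twist (CohB1.polyGrading n A) d) D (show Γ(W, j ⁻¹ᵁ D) from 1) g) := by
  let M := (Scheme.Modules.pushforward j).obj (Coh.structureModule W)
  let Lt := Twist.twist (CohB1.polyGrading n A) d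
  have hcov : ∀ x : ↥D, ∃ E : (Proj (CohB1.polyGrading n A)).Opens, IsAffineOpen E ∧ x.1 ∈ E ∧ E ≤ D := fun x => by
    obtain ⟨E, h1, h2, h3⟩ := exists_isAffineOpen_mem_and_subset x.2
    exact ⟨E, h1, h2, h3⟩
  choose E hEa hxE hED using hcov
  refine TopCat.Sheaf.eq_of_locally_eq' ⟨(twL j d).presheaf, (twL j d).isSheaf⟩
    (fun x => j ⁻¹ᵁ E x) (j ⁻¹ᵁ D) (fun x => homOfLE (j.preimage_mono (hED x)))
    (fun y hy => Opens.mem_iSup.2 ⟨⟨j y, hy⟩, hxE _⟩) _ _ fun x => ?_
  change (twL j d).presheaf.map (homOfLE (j.preimage_mono (hED x))).op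
      (twTheta j d D (SecTwist.tmul M Lt D r g)) =
    (twL j d).presheaf.map (homOfLE (j.preimage_mono (hED x))).op
      (r • twTheta j d D (SecTwist.tmul M Lt D (show Γ(W, j ⁻¹ᵁ D) from 1) g))
  have e : ∀ z : Γ(W, j ⁻¹ᵁ D), (twPush j d).presheaf.map (homOfLE (hED x)).op (SecTwist.tmul M Lt D z g) =
      SecTwist.tmul M Lt (E x) (W.presheaf.map (homOfLE (j.preimage_mono (hED x))).op z)
        (Lt.presheaf.map (homOfLE (hED x)).op g) := fun z => map_tmul_gen M Lt (hED x) z g
  rw [Scheme.Modules.map_smul, twTheta_res j d (hED x), twTheta_res j d (hED x)]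
  obtain ⟨a, ha⟩ := j.app_surjective (E x) (hEa x)
    (W.presheaf.map (homOfLE (j.preimage_mono (hED x))).op r)
  refine ((congrArg (twTheta j d (E x)) (e r)).trans ?_).trans
    (congrArg (fun z => W.presheaf.map (homOfLE (j.preimage_mono (hED x))).op r • twTheta j d (E x) z) (e 1)).symm
  rw [map_one, ← ha]
  refine Eq.trans ?_ (twTheta_smul j d (E x) a _)
  refine congrArg (twTheta j d (E x)) ?_
  refine Eq.trans ?_ (tmul_smul_left M Lt (E x) a _ _)
  exact congrArg (fun z : Γ(W, j ⁻¹ᵁ E x) => SecTwist.tmul M Lt (E x) z _) (mul_one (j.app (E x) a)).symm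

/-- `1 ⊗ x_l^d`. -/
noncomputable def oneGen (d : ℤ) {s : Finset (Ix.{u} n)} {l : Ix.{u} n} (hl : l ∈ s) :
    Γ(twPush j d, chartMeet A s) :=
  SecTwist.tmul ((Scheme.Modules.pushforward j).obj (Coh.structureModule W))
    (Twist.twist (CohB1.polyGrading n A) d) (chartMeet A s)
    (show Γ(W, j ⁻¹ᵁ chartMeet A s) from 1) (gen hl d)

/-- The generator of `O_W(d)` on a chart. -/
noncomputable def twSigma (d : ℤ) (l : Ix.{u} n) : Γ(twL j d, j ⁻¹ᵁ chartMeet A {l}) :=
  twTheta j d _ (oneGen j d (Finset.mem_singleton_self l))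

theorem isFreeGen_twSigma (d : ℤ) (l : Ix.{u} n) : IsFreeGen (twL j d) (twSigma j d l) := by
  intro W' hW'
  obtain ⟨D', rfl⟩ := exists_preimage_eq j W'
  set C := chartMeet A ({l} : Finset (Ix.{u} n))
  have hE : j ⁻¹ᵁ (D' ⊓ C) = j ⁻¹ᵁ D' := by
    change j ⁻¹ᵁ D' ⊓ j ⁻¹ᵁ C = _
    exact inf_eq_left.2 hW'
  suffices key : ∀ (W'' : W.Opens) (_ : j ⁻¹ᵁ (D' ⊓ C) = W'') (h : W'' ≤ j ⁻¹ᵁ C),
      Function.Bijective fun r : Γ(W, W'') => r • (twL j d).presheaf.map (homOfLE h).op (twSigma j d l) from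
    key _ hE hW'
  rintro _ rfl h
  let M := (Scheme.Modules.pushforward j).obj (Coh.structureModule W)
  let Lt := Twist.twist (CohB1.polyGrading n A) d
  have hb := (twTheta_bijective j d (D' ⊓ C)).comp
    (tmul_gen_bijective M (isFreeGen_gen (Finset.mem_singleton_self l) d) (inf_le_right : D' ⊓ C ≤ C))
  have hg : ∀ r : Γ(W, j ⁻¹ᵁ (D' ⊓ C)),
      twTheta j d (D' ⊓ C) (SecTwist.tmul M Lt (D' ⊓ C) r
        (Lt.presheaf.map (homOfLE (inf_le_right : D' ⊓ C ≤ C)).op (gen (Finset.mem_singleton_self l) d))) =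
      r • (twL j d).presheaf.map (homOfLE h).op (twSigma j d l) := by
    intro r
    rw [twTheta_twTmul]
    refine congrArg (fun z => r • z) ?_
    refine ((twTheta_res j d (inf_le_right : D' ⊓ C ≤ C) (oneGen j d (Finset.mem_singleton_self l))).trans
      (congrArg (twTheta j d (D' ⊓ C)) ?_)).symm
    refine (map_tmul_gen M Lt (inf_le_right : D' ⊓ C ≤ C) _ _).trans ?_
    exact congrArg (fun z => SecTwist.tmul M Lt (D' ⊓ C) z _)
      (map_one (W.presheaf.map (homOfLE (j.preimage_mono (inf_le_right : D' ⊓ C ≤ C))).op).hom)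
  exact (funext hg : _ = _) ▸ hb

theorem resChart_twSigma (d : ℤ) {s : Finset (Ix.{u} n)} {l : Ix.{u} n} (hl : {l} ⊆ s) :
    resChart j (twL j d) (r := {l}) hl (twSigma j d l) = twTheta j d _ (oneGen j d (hl (Finset.mem_singleton_self l))) := by
  refine (twTheta_res j d (RSh.meetOpen_anti (chartU A) hl) _).trans (congrArg (twTheta j d _) ?_)
  refine (map_tmul_gen ((Scheme.Modules.pushforward j).obj (Coh.structureModule W))
    (Twist.twist (CohB1.polyGrading n A) d) (RSh.meetOpen_anti (chartU A) hl) _ _).trans ?_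
  exact congrArg₂ (SecTwist.tmul _ _ _) (map_one (W.presheaf.map (homOfLE (j.preimage_mono
    (RSh.meetOpen_anti (chartU A) hl))).op).hom) (gen_res hl (Finset.mem_singleton_self l) d)

/-- The family of twists of a closed subscheme of projective space. -/
noncomputable def twFamily : TwistFamily j where
  L := twL j
  qcoh d := (QCohLib.isCoh_pullback j _ (isCoh_twPush j d)).1
  σ := twSigma j
  free := isFreeGen_twSigma j
  trans d s i l hi hl := by
    rw [resChart_twSigma j d hl, resChart_twSigma j d hi]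
    refine (twTheta_smul j d (chartMeet A s) _ _).symm.trans (congrArg (twTheta j d _) ?_)
    refine (tmul_smul_left _ _ _ _ _ _).symm.trans ((tmul_smul_right _ _ _ _ _ _).symm.trans ?_)
    exact congrArg (SecTwist.tmul _ _ _ _) (theta_uz_smul_gen _ _ d)

end Groth.Agent.CohFinite
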