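import Groth.Agent.CohFinite.AffineBase
import Groth.Agent.CohFinite.Push
import Groth.Agent.CohFinite.TwistPull
import Groth.Agent.CohFinite.ProjBase
import Groth.Agent.ProjCoh.Coherent
import Groth.Agent.QCohLib.Criterion
import Groth.Agent.QCohLib.Coherent

/-!
# The test module of a projective modification
-/

set_option backward.isDefEq.respectTransparency false
universe u
open CategoryTheory AlgebraicGeometry TopologicalSpace Opposite
open scoped Groth.Agent.CohVanish

namespace Groth.Agent.CohFinite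

open Groth.Agent.ProjCoh Groth.Agent.CechCmp Groth.Agent.CohVanish

variable {n : ℕ} {A : Type u} [CommRing A] [IsNoetherianRing A] {X W : Scheme.{u}}


omit [IsNoetherianRing A] in
theorem exists_finite_affine_cover (b : X ⟶ Spec (CommRingCat.of A)) [IsSeparated b] [CompactSpace X]
    [Nonempty X] :
    ∃ (ι : Type u) (_ : Fintype ι) (_ : Nonempty ι) (U : ι → X.Opens), ⨆ i, U i = ⊤ ∧
      ∀ s : Finset ι, s.Nonempty → IsAffineOpen (RSh.meetOpen U s) := by
  classical
  obtain ⟨t, ht⟩ := isCompact_univ.elim_finite_subcover (fun U : X.affineOpens => (U.1 : Set X))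
    (fun U => U.1.2) (fun x _ => by
      obtain ⟨U, hU, hxU, -⟩ := exists_isAffineOpen_mem_and_subset (Opens.mem_top x)
      exact Set.mem_iUnion.2 ⟨⟨U, hU⟩, hxU⟩)
  have hne : Nonempty t := by
    obtain ⟨x⟩ := (inferInstance : Nonempty X)
    obtain ⟨U, hU, -⟩ := Set.mem_iUnion₂.1 (ht (Set.mem_univ x))
    exact ⟨⟨U, hU⟩⟩
  refine ⟨t, inferInstance, hne, fun U => U.1.1, ?_, fun s hs => ?_⟩
  · refine top_le_iff.1 fun x _ => ?_
    obtain ⟨U, hU, hxU⟩ := Set.mem_iUnion₂.1 (ht (Set.mem_univ x))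
    exact Opens.mem_iSup.2 ⟨⟨U, hU⟩, hxU⟩
  · induction hs using Finset.Nonempty.cons_induction with
    | singleton a =>
      rw [RSh.meetOpen, Finset.iInf_singleton]
      exact a.1.2
    | cons a s _ _ ih =>
      have e : RSh.meetOpen (fun U : t => U.1.1) (Finset.cons a s ‹_›) =
          a.1.1 ⊓ (RSh.meetOpen (fun U : t => U.1.1) s) := by
        rw [RSh.meetOpen, Finset.cons_eq_insert, Finset.iInf_insert]
      rw [e]
      exact isAffineOpen_inf_preimage b (𝟙 X) a.1.2 ih

/-- A proper map from a closed subscheme of projective space has, in high twists, coherent direct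
image with finite cohomology. -/
theorem exists_test_twist (b : X ⟶ Spec (CommRingCat.of A)) [IsSeparated b] [LocallyOfFiniteType b]
    [IsNoetherian X] [Nonempty X] (g : W ⟶ X) (j : W ⟶ Proj (CohB1.polyGrading n A))
    [IsClosedImmersion j] (hg : g ≫ b = j ≫ tS n A) :
    ∃ (T : TwistFamily j) (d : ℤ), Coh.IsCoh ((Scheme.Modules.pushforward g).obj (T.L d)) ∧
      AllFin (Coh.toGlobal b) ((Scheme.Modules.pushforward g).obj (T.L d)) := by
  classical
  have := isNoetherian_proj (n := n) (A := A)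
  have := isProper_tS (n := n) (A := A)
  have : IsProper (g ≫ b) := by rw [hg]; infer_instance
  have hgp : IsProper g := IsProper.of_comp g b
  let T := twFamily j
  obtain ⟨ι, _, _, U, hcov, hU⟩ := exists_finite_affine_cover b
  have hd : ∀ s : Finset ι, ∃ d₀ : ℤ, s.Nonempty → ∀ d, d₀ ≤ d → ∀ q,
      Subsingleton (EU (X := sp W) (Coh.toAb (T.L d)) (g ⁻¹ᵁ RSh.meetOpen U s) (q + 1)) := by
    intro s
    by_cases hs : s.Nonempty
    · obtain ⟨-, d₀, h⟩ := affine_base b g j hg T (hU s hs)
      exact ⟨d₀, fun _ => h⟩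
    · exact ⟨0, fun h => absurd h hs⟩
  choose d₀ hd₀ using hd
  obtain ⟨d, hd'⟩ : ∃ d : ℤ, ∀ s, d₀ s ≤ d :=
    ⟨Finset.univ.sup' Finset.univ_nonempty d₀, fun s => Finset.le_sup' d₀ (Finset.mem_univ s)⟩
  have := T.qcoh d
  have hq : ((Scheme.Modules.pushforward g).obj (T.L d)).IsQuasicoherent :=
    QCohLib.isQuasicoherent_pushforward (M := T.L d) g
  refine ⟨T, d, QCohLib.isCoh_iff.mpr ⟨hq, fun V => (affine_base b g j hg T V.2).1 d⟩, fun p => ?_⟩
  obtain ⟨eg⟩ := nonempty_push_equiv g (Coh.toGlobal b) (T.L d) U hcov hU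
    (fun s hs q => hd₀ s hs d (hd' s) q) p
  have hj : ((Scheme.Modules.pushforward j).obj (T.L d)).IsQuasicoherent :=
    QCohLib.isQuasicoherent_pushforward (M := T.L d) j
  obtain ⟨ej⟩ := nonempty_push_equiv j (Coh.toGlobal (tS n A)) (T.L d) (chartU A) iSup_chartU
    (fun s hs => isAffineOpen_chartMeet s hs)
    (fun s hs q => subsingleton_EU_of_isAffineOpen (T.L d) ((isAffineOpen_chartMeet s hs).preimage j) q) p
  have hP : Module.Finite A (HMod (modRSh (Coh.toGlobal (tS n A)) ((Scheme.Modules.pushforward j).obj (T.L d))) ⊤ p) := by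
    have := isIso_twUnit j d
    have h0 : AllFin (Coh.toGlobal (tS n A)) (twPush j d) := fun q =>
      @Module.Finite.equiv _ _ _ _ _ _ _ _ (finite_HH (R := A) (twPush j d) (isCoh_twPush j d) q)
        (hhEquiv (A := A) (X := CohB1.ProjSpace n A) (twPush j d) q)
    exact allFin_of_iso (asIso ((Scheme.Modules.pullbackPushforwardAdjunction j).unit.app (twPush j d))) h0 p
  have e : pullAct j (Coh.toGlobal (tS n A)) = pullAct g (Coh.toGlobal b) := by
    refine RingHom.ext fun a => ?_
    change ((tS n A).appTop ≫ j.appTop) ((Scheme.ΓSpecIso (CommRingCat.of A)).inv a) =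
      (b.appTop ≫ g.appTop) ((Scheme.ΓSpecIso (CommRingCat.of A)).inv a)
    rw [← Scheme.Hom.comp_appTop, ← Scheme.Hom.comp_appTop, hg]
  have hW : Module.Finite A (HMod (modRSh (pullAct j (Coh.toGlobal (tS n A))) (T.L d)) ⊤ p) :=
    Module.Finite.equiv ej
  rw [e] at hW
  exact Module.Finite.equiv eg.symm

end Groth.Agent.CohFinite
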