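import Groth.Agent.CohFinite.ChowRel
import Groth.Agent.CohFinite.TestModule
import Mathlib.AlgebraicGeometry.ZariskisMainTheorem

/-!
# A projective modification of an integral scheme proper over an affine base
-/

set_option backward.isDefEq.respectTransparency false
universe u
open CategoryTheory CategoryTheory.Limits AlgebraicGeometry TopologicalSpace Opposite

namespace Groth.Agent.CohFinite

open Groth.Agent.ProjCoh Groth.Agent.CechCmp

variable {A : Type u} [CommRing A] {Z : Scheme.{u}}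

/-- The structure map on an open. -/
noncomputable def strMap (c : Z ⟶ Spec (CommRingCat.of A)) (V : Z.Opens) : A →+* Γ(Z, V) :=
  (c.appLE ⊤ V le_top).hom.comp (Scheme.ΓSpecIso (CommRingCat.of A)).inv.hom

theorem appLE_strMap (c : Z ⟶ Spec (CommRingCat.of A)) {Y : Scheme.{u}} (g : Y ⟶ Z) {V : Z.Opens}
    (h : ⊤ ≤ g ⁻¹ᵁ V) (a : A) : g.appLE V ⊤ h (strMap c V a) = Coh.toGlobal (g ≫ c) a := by
  change g.appLE V ⊤ h (c.appLE ⊤ V le_top _) = (g ≫ c).appTop _
  rw [← ConcreteCategory.comp_apply, Scheme.Hom.appLE_comp_appLE]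
  simp [Scheme.Hom.appLE]

theorem exists_padded_generators (c : Z ⟶ Spec (CommRingCat.of A)) [LocallyOfFiniteType c] {ι : Type u}
    [Fintype ι] (U : ι → Z.Opens) (hU : ∀ i, IsAffineOpen (U i)) :
    ∃ (n : ℕ) (β : ∀ i, Fin (n + 1) → Γ(Z, U i)), (∀ i, β i 0 = 1) ∧
      ∀ i, Subring.closure (Set.range (strMap c (U i)) ∪ Set.range (β i)) = ⊤ := by
  classical
  have h : ∀ i, ∃ s : Finset Γ(Z, U i), Subring.closure (Set.range (strMap c (U i)) ∪ ↑s) = ⊤ := fun i => by
    have hft : (strMap c (U i)).FiniteType :=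
      (LocallyOfFiniteType.finiteType_appLE c (isAffineOpen_top _) (hU i) le_top).comp
        (RingHom.FiniteType.of_surjective _
          (ConcreteCategory.bijective_of_isIso (Scheme.ΓSpecIso (CommRingCat.of A)).inv).2)
    let _ := (strMap c (U i)).toAlgebra
    have : Algebra.FiniteType A Γ(Z, U i) := hft
    obtain ⟨s, hs⟩ := this.out
    refine ⟨s, ?_⟩
    have := congrArg Subalgebra.toSubring hs
    rwa [Algebra.adjoin_eq_ring_closure, Algebra.top_toSubring] at this
  choose s hs using h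
  refine ⟨∑ i, (s i).card, fun i => Fin.cases 1 fun k => (s i).toList.getD k.val 1, fun i => Fin.cases_zero, fun i => ?_⟩
  refine top_le_iff.1 ((hs i).ge.trans (Subring.closure_le.2 ?_))
  rintro x (hx | hx)
  · exact Subring.subset_closure (Or.inl hx)
  · obtain ⟨k, hk, rfl⟩ := List.mem_iff_getElem.1 (Finset.mem_toList.2 hx)
    have hk' : k < ∑ j, (s j).card := lt_of_lt_of_le (by simpa using hk)
      (Finset.single_le_sum (f := fun j => (s j).card) (fun _ _ => Nat.zero_le _) (Finset.mem_univ i))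
    exact Subring.subset_closure (Or.inr ⟨Fin.succ ⟨k, hk'⟩, by simp only [Fin.cases_succ]; exact (List.getElem_eq_getD (h := hk) 1).symm⟩)

/-- A finite cover by nonempty affine opens with affine intersections. -/
theorem exists_affine_cover_nonempty (c : Z ⟶ Spec (CommRingCat.of A)) [IsSeparated c] [CompactSpace Z]
    [Nonempty Z] :
    ∃ (ι : Type u) (_ : Fintype ι) (_ : Nonempty ι) (U : ι → Z.Opens), ⨆ i, U i = ⊤ ∧
      (∀ i, ((U i : Z.Opens) : Set Z).Nonempty) ∧
      ∀ s : Finset ι, s.Nonempty → IsAffineOpen (RSh.meetOpen U s) := by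
  classical
  obtain ⟨ι, _, _, U, hcov, hU⟩ := exists_finite_affine_cover c
  have hne : Nonempty {i // ((U i : Z.Opens) : Set Z).Nonempty} := by
    obtain ⟨z⟩ := (inferInstance : Nonempty Z)
    obtain ⟨i, hi⟩ := Opens.mem_iSup.1 (hcov.ge (Opens.mem_top z))
    exact ⟨⟨i, z, hi⟩⟩
  refine ⟨{i // ((U i : Z.Opens) : Set Z).Nonempty}, inferInstance, hne, fun i => U i.1,
    top_le_iff.1 fun z _ => ?_, fun i => i.2, fun s hs => ?_⟩
  · obtain ⟨i, hi⟩ := Opens.mem_iSup.1 (hcov.ge (Opens.mem_top z))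
    exact Opens.mem_iSup.2 ⟨⟨i, z, hi⟩, hi⟩
  · have e : RSh.meetOpen (fun i : {i // ((U i : Z.Opens) : Set Z).Nonempty} => U i.1) s =
        RSh.meetOpen U (s.image Subtype.val) := by
      rw [RSh.meetOpen, RSh.meetOpen, Finset.iInf_finset_image]
    rw [e]
    exact hU _ (hs.image _)

/-- Chow's lemma in the form needed for finiteness. -/
theorem exists_projective_modification [IsIntegral Z] (c : Z ⟶ Spec (CommRingCat.of A)) [IsProper c] :
    ∃ (N : ℕ) (W : Scheme.{u}) (π : W ⟶ Z) (j : W ⟶ Proj (CohB1.polyGrading N A)),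
      IsClosedImmersion j ∧ IsReduced W ∧ π ≫ c = j ≫ tS N A ∧ genericPoint Z ∈ Set.range π ∧
      ∃ (V : Z.Opens) (l : Ix.{u} N), genericPoint Z ∈ V ∧ π ⁻¹ᵁ V ≤ j ⁻¹ᵁ chartMeet A {l} := by
  classical
  have : CompactSpace Z := QuasiCompact.compactSpace_of_compactSpace c
  have : Z.IsSeparated := ⟨by
    rw [← terminal.comp_from c]
    infer_instance⟩
  obtain ⟨ι, _, _, U, hcov, hne, hU⟩ := exists_affine_cover_nonempty c
  have hUi : ∀ i, IsAffineOpen (U i) := fun i => by
    have := hU {i} (Finset.singleton_nonempty i)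
    rwa [RSh.meetOpen, Finset.iInf_singleton] at this
  obtain ⟨n, β, hβ0, hβgen⟩ := exists_padded_generators c U hUi
  set M := Fintype.card (ι → Fin (n + 1)) with hM
  obtain ⟨N, hN⟩ : ∃ N, M = N + 1 := ⟨M - 1, (Nat.succ_pred_eq_of_pos Fintype.card_pos).symm⟩
  let e : (ι → Fin (n + 1)) ≃ Ix.{u} N := (Fintype.equivFinOfCardEq hN).trans Equiv.ulift.symm
  let U0 : Z.Opens := RSh.meetOpen U (Finset.univ : Finset ι)
  have hU0 : IsAffineOpen U0 := hU _ Finset.univ_nonempty
  have : IsAffine (U0 : Scheme.{u}) := hU0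
  have hU0le : ∀ i, U0 ≤ U i := fun i => iInf₂_le i (Finset.mem_univ i)
  have hη : genericPoint Z ∈ U0 := by
    have hi : ∀ i, genericPoint Z ∈ U i := fun i =>
      ((genericPoint_spec Z).mem_open_set_iff (U i).isOpen).2 (by rw [Set.univ_inter]; exact hne i)
    have hgen : ∀ s : Finset ι, genericPoint Z ∈ RSh.meetOpen U s := fun s => by
      induction s using Finset.induction with
      | empty => simp [RSh.meetOpen]
      | insert i s _ ih => rw [RSh.meetOpen, Finset.iInf_insert]; exact ⟨hi i, ih⟩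
    exact hgen _
  have hg : ∀ i, ⊤ ≤ U0.ι ⁻¹ᵁ U i := fun i p _ => hU0le i p.2
  let l : Ix.{u} N := e fun _ => 0
  obtain ⟨u, hu, hu1, hu2⟩ := exists_chart_point (S := (U0 : Scheme.{u})) (Coh.toGlobal (U0.ι ≫ c))
    (fun m => ∏ i, U0.ι.appLE (U i) ⊤ (hg i) (β i (e.symm ⟨m⟩ i))) l
    (Finset.prod_eq_one fun i _ => by
      rw [show (⟨l.down⟩ : Ix.{u} N) = l from rfl, show e.symm l = fun _ => 0 from e.symm_apply_apply _,
        hβ0, map_one])
  have hcomp : U0.ι ≫ c = u ≫ tS N A := by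
    refine ext_of_isAffine ?_
    ext a
    obtain ⟨a, rfl⟩ := (ConcreteCategory.bijective_of_isIso (Scheme.ΓSpecIso (CommRingCat.of A)).inv).2 a
    exact (hu1 a).symm
  have := isProper_tS (n := N) (A := A)
  let h : (U0 : Scheme.{u}) ⟶ pullback c (tS N A) := pullback.lift U0.ι u hcomp
  have : IsProper (pullback.fst c (tS N A) ≫ c) := inferInstance
  have : QuasiCompact (h ≫ pullback.fst c (tS N A) ≫ c) := inferInstance
  have : QuasiCompact h := QuasiCompact.of_comp h (pullback.fst c (tS N A) ≫ c)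
  let q := h.toImage
  let π : h.image ⟶ Z := h.imageι ≫ pullback.fst c (tS N A)
  let j : h.image ⟶ Proj (CohB1.polyGrading N A) := h.imageι ≫ pullback.snd c (tS N A)
  have hqπ : q ≫ π = U0.ι := by simp [q, π, h]
  have hqj : q ≫ j = u := by simp [q, j, h]
  have hrel : ∀ {Y : Scheme.{u}} (y : Y ⟶ h.image), Rel e U β (y ≫ π) (y ≫ j) :=
    rel_of_injective e U β q π j (toImage_app_injective_of_open h) fun s => by
      rw [hqπ, hqj]
      refine rel_of_coordinates e U β U0.ι u hg l hu (fun K => ?_) s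
      refine (hu2 (e K)).trans ?_
      change ∏ i, U0.ι.appLE (U i) ⊤ (hg i) (β i (e.symm (e K) i)) = _
      rw [Equiv.symm_apply_apply]
  have hchart : ∀ w : h.image, ∃ K, j w ∈ chartMeet A {e K} := fun w => by
    obtain ⟨k, hk⟩ := Opens.mem_iSup.1 ((iSup_chartU (n := N) (R := A)).ge (Opens.mem_top (j w)))
    exact ⟨e.symm k, by rw [Equiv.apply_symm_apply, chartMeet, Finset.iInf_singleton]; exact hk⟩
  have hπU0 : π ⁻¹ᵁ U0 ≤ j ⁻¹ᵁ chartMeet A {l} := by
    intro w hw
    obtain ⟨K, hK⟩ := hchart w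
    have : ∀ t : Finset ι, j w ∈ chartMeet A {e fun i => if i ∈ t then 0 else K i} := by
      intro t
      induction t using Finset.induction with
      | empty => simpa using hK
      | insert i t _ ih =>
        have := mem_chart_update e U β (fun y => hrel y) hβ0 (i := i) (hU0le i hw) ih
        have he : (fun x => if x ∈ insert i t then 0 else K x) =
            Function.update (fun x => if x ∈ t then 0 else K x) i 0 := by
          funext x
          by_cases hx : x = i <;> simp [hx]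
        rw [he]
        exact this
    simpa [l] using this Finset.univ
  -- in the chart of `K` with `K i = 0` everything lies over `U i`
  have hB : ∀ i K, K i = 0 → j ⁻¹ᵁ chartMeet A {e K} ≤ π ⁻¹ᵁ U i := by
    intro i K hK
    set T : h.image.Opens := j ⁻¹ᵁ chartMeet A {e K}
    set q' := q ∣_ T
    have hinj : Function.Injective q'.appTop := by
      intro a b hab
      rw [morphismRestrict_appTop, ConcreteCategory.comp_apply, ConcreteCategory.comp_apply] at hab
      exact toImage_app_injective_of_open h _ ((ConcreteCategory.bijective_of_isIso _).1 hab)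
    have hS' : ∀ {X : Scheme.{u}} (m : h.image ⟶ X) (m' : (U0 : Scheme.{u}) ⟶ X), q ≫ m = m' →
        q' ≫ T.ι ≫ m = (q ⁻¹ᵁ T).ι ≫ m' := fun m m' e' => by
      rw [← e', ← Category.assoc, morphismRestrict_ι, Category.assoc]
    set s := (q ⁻¹ᵁ T).ι
    have hsi : ⊤ ≤ (s ≫ U0.ι) ⁻¹ᵁ U i := fun p _ => hg i (Opens.mem_top (s p))
    have hTK : ⊤ ≤ (T.ι ≫ j) ⁻¹ᵁ chartMeet A {e K} := fun p _ => p.2
    have hrange : ∀ z, (s ≫ U0.ι).appLE (U i) ⊤ hsi z ∈ q'.appTop.hom.range := by
      intro z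
      suffices hz : z ∈ q'.appTop.hom.range.comap ((s ≫ U0.ι).appLE (U i) ⊤ hsi).hom from hz
      refine ((hβgen i).ge.trans (Subring.closure_le.2 ?_)) (Subring.mem_top z)
      rintro _ (⟨a, rfl⟩ | ⟨k, rfl⟩)
      · refine ⟨Coh.toGlobal (T.ι ≫ π ≫ c) a, ?_⟩
        change q'.appTop ((T.ι ≫ π ≫ c).appTop _) = (s ≫ U0.ι).appLE (U i) ⊤ hsi (strMap c (U i) a)
        rw [← ConcreteCategory.comp_apply, ← Scheme.Hom.comp_appTop, appLE_strMap,
          hS' (π ≫ c) (U0.ι ≫ c) (by rw [reassoc_of% hqπ]), ← Category.assoc]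
        rfl
      · refine ⟨(T.ι ≫ j).appLE (chartMeet A {e K}) ⊤ hTK (ratSec A (e K) (e (Function.update K i k))), ?_⟩
        have h1 : ⊤ ≤ (q' ≫ T.ι ≫ j) ⁻¹ᵁ chartMeet A {e K} := fun p _ => hTK (Opens.mem_top (q' p))
        have h1' : ⊤ ≤ (s ≫ u) ⁻¹ᵁ chartMeet A {e K} := by rw [← hS' j u hqj]; exact h1
        change q'.appTop _ = _
        rw [← appLE_top_comp q' (T.ι ≫ j) _ hTK h1, appLE_congr_hom (hS' j u hqj) _ h1 h1']
        have := rel_of_coordinates e U β U0.ι u hg l hu (fun K => by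
          refine (hu2 (e K)).trans ?_
          change ∏ i, U0.ι.appLE (U i) ⊤ (hg i) (β i (e.symm (e K) i)) = _
          rw [Equiv.symm_apply_apply]) s i K k h1' hsi
        rw [hK, hβ0, map_one, mul_one] at this
        exact this
    let ρ := RingEquiv.ofBijective q'.appTop.hom.rangeRestrict
      ⟨fun a b hab => hinj (congrArg Subtype.val hab), RingHom.rangeRestrict_surjective _⟩
    let a : Γ(Z, U i) ⟶ Γ(T, ⊤) := CommRingCat.ofHom
      (ρ.symm.toRingHom.comp (((s ≫ U0.ι).appLE (U i) ⊤ hsi).hom.codRestrict _ hrange))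
    have ha : ∀ z, q'.appTop (a z) = (s ≫ U0.ι).appLE (U i) ⊤ hsi z := fun z =>
      congrArg Subtype.val (ρ.apply_symm_apply ⟨_, hrange z⟩)
    obtain ⟨x, hx, hxa⟩ := exists_hom_appLE (hUi i) a
    have := isReduced_image h
    have : IsDominant q' := IsZariskiLocalAtTarget.restrict (P := @IsDominant) inferInstance T
    have hxT : x = T.ι ≫ π := by
      refine ext_of_isDominant q' ?_
      rw [hS' π U0.ι hqπ]
      refine eq_of_appLE_eq (hUi i) (fun p _ => hx (Opens.mem_top (q' p))) hsi ?_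
      ext z
      rw [appLE_top_comp q' x _ hx, hxa]
      exact ha z
    intro w hw
    have := hx (x := ⟨w, hw⟩) trivial
    rw [hxT] at this
    exact this
  have hWK : ∀ w : h.image, ∃ i K, K i = 0 ∧ j w ∈ chartMeet A {e K} := fun w => by
    obtain ⟨i, hi⟩ := Opens.mem_iSup.1 (hcov.ge (Opens.mem_top (π w)))
    obtain ⟨K, hK⟩ := hchart w
    exact ⟨i, Function.update K i 0, Function.update_self _ _ _, mem_chart_update e U β (fun y => hrel y) hβ0 hi hK⟩
  have hmono : Mono j := by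
    refine ⟨fun {Y} a b hab => ?_⟩
    refine Scheme.hom_ext_of_forall a b fun y => ?_
    obtain ⟨i, K, hK0, hK⟩ := hWK (a y)
    refine ⟨(a ≫ j) ⁻¹ᵁ chartMeet A {e K}, hK, ?_⟩
    set O := (a ≫ j) ⁻¹ᵁ chartMeet A {e K}
    have ha1 : ⊤ ≤ ((O.ι ≫ a) ≫ j) ⁻¹ᵁ chartMeet A {e K} := fun p _ => p.2
    have hb1 : ⊤ ≤ ((O.ι ≫ b) ≫ j) ⁻¹ᵁ chartMeet A {e K} := fun p _ => by
      have := ha1 (x := p) trivial
      change p ∈ ((O.ι ≫ b) ≫ j) ⁻¹ᵁ chartMeet A {e K}
      rwa [Category.assoc, ← hab, ← Category.assoc]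
    have ha2 : ⊤ ≤ ((O.ι ≫ a) ≫ π) ⁻¹ᵁ U i := fun p hp => hB i K hK0 (ha1 hp)
    have hb2 : ⊤ ≤ ((O.ι ≫ b) ≫ π) ⁻¹ᵁ U i := fun p hp => hB i K hK0 (hb1 hp)
    have hj : (O.ι ≫ a) ≫ j = (O.ι ≫ b) ≫ j := by rw [Category.assoc, hab, Category.assoc]
    have hπ : (O.ι ≫ a) ≫ π = (O.ι ≫ b) ≫ π := by
      refine eq_of_appLE_eq (hUi i) ha2 hb2 ?_
      ext1
      refine RingHom.eq_of_eqOn_set_top ?_
      rw [← hβgen i]
      refine RingHom.eqOn_set_closure ?_
      rintro _ (⟨r, rfl⟩ | ⟨k, rfl⟩)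
      · refine (appLE_strMap c _ ha2 r).trans (Eq.trans ?_ (appLE_strMap c _ hb2 r).symm)
        have hpc : π ≫ c = j ≫ tS N A := by simp only [π, j, Category.assoc, pullback.condition]
        rw [Category.assoc _ π c, Category.assoc _ π c, hpc, ← Category.assoc _ j, hj, ← Category.assoc _ j]
      · have h3 := hrel (O.ι ≫ a) i K k ha1 ha2
        have h4 := hrel (O.ι ≫ b) i K k hb1 hb2
        rw [hK0, hβ0, map_one, mul_one] at h3 h4
        rw [← h3, ← h4]
        exact appLE_congr_hom hj _ ha1 hb1 _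
    rw [← cancel_mono h.imageι]
    apply pullback.hom_ext
    · simpa [π] using hπ
    · simpa [j] using hj
  have : IsProper j := inferInstanceAs (IsProper (h.imageι ≫ pullback.snd c (tS N A)))
  refine ⟨N, h.image, π, j, (IsClosedImmersion.iff_isProper_and_mono j).2 ⟨inferInstance, hmono⟩,
    isReduced_image h, by simp only [π, j, Category.assoc, pullback.condition], ?_, U0, l, hη, hπU0⟩
  exact ⟨q ⟨genericPoint Z, hη⟩, by rw [← Scheme.Hom.comp_apply, hqπ]; rfl⟩

end Groth.Agent.CohFinite
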