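import Mathlib.AlgebraicGeometry.Morphisms.QuasiCompact
import Mathlib.AlgebraicGeometry.IdealSheaf.Subscheme
import Mathlib.AlgebraicGeometry.Morphisms.UnderlyingMap

/-!
# Morphisms into affine opens; scheme-theoretic images of reduced schemes
-/

set_option backward.isDefEq.respectTransparency false

universe u
open CategoryTheory AlgebraicGeometry TopologicalSpace Opposite

namespace Groth.Agent.CohFinite

variable {S Z : Scheme.{u}}

/-- A morphism into an affine open, given on functions. -/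
theorem exists_hom_appLE {V : Z.Opens} (hV : IsAffineOpen V) (a : Γ(Z, V) ⟶ Γ(S, ⊤)) :
    ∃ (x : S ⟶ Z) (hx : ⊤ ≤ x ⁻¹ᵁ V), x.appLE V ⊤ hx = a := by
  refine ⟨S.toSpecΓ ≫ Spec.map a ≫ hV.fromSpec, fun p _ => ?_, ?_⟩
  · exact hV.range_fromSpec.subset (Set.mem_range_self (Spec.map a (S.toSpecΓ p)))
  · have key : ∀ (w : S ⟶ Spec Γ(Z, V)) (h : (⊤ : S.Opens) ≤ (w ≫ hV.fromSpec) ⁻¹ᵁ V),
        (w ≫ hV.fromSpec).appLE V ⊤ h = (Scheme.ΓSpecIso Γ(Z, V)).inv ≫ w.appTop := by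
      intro w h
      rw [Scheme.Hom.comp_appLE, IsAffineOpen.fromSpec_app_self, Category.assoc,
        Scheme.Hom.map_appLE, Scheme.Hom.appTop, Scheme.Hom.app_eq_appLE]
      rfl
    have hw : (⊤ : S.Opens) ≤ ((S.toSpecΓ ≫ Spec.map a) ≫ hV.fromSpec) ⁻¹ᵁ V := fun p _ =>
      hV.range_fromSpec.subset (Set.mem_range_self (Spec.map a (S.toSpecΓ p)))
    have := key (S.toSpecΓ ≫ Spec.map a) hw
    simp only [Category.assoc] at this
    rw [this]
    simp [Scheme.toSpecΓ_appTop]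

/-- Morphisms into an affine open agree when they agree on functions. -/
theorem eq_of_appLE_eq {V : Z.Opens} (hV : IsAffineOpen V) {x y : S ⟶ Z} (hx : ⊤ ≤ x ⁻¹ᵁ V)
    (hy : ⊤ ≤ y ⁻¹ᵁ V) (h : x.appLE V ⊤ hx = y.appLE V ⊤ hy) : x = y := by
  have : IsAffine V := hV
  have key : ∀ (z : S ⟶ Z) (hz : ⊤ ≤ z ⁻¹ᵁ V), ∃ z' : S ⟶ (V : Scheme.{u}),
      z' ≫ V.ι = z ∧ V.topIso.inv ≫ z'.appTop = z.appLE V ⊤ hz := by
    intro z hz
    let z' : S ⟶ (V : Scheme.{u}) := IsOpenImmersion.lift V.ι z (by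
      rw [Scheme.Opens.range_ι]; rintro _ ⟨p, rfl⟩; exact hz (Set.mem_univ p))
    have e : z' ≫ V.ι = z := IsOpenImmersion.lift_fac _ _ _
    suffices h : ∀ (w : S ⟶ (V : Scheme.{u})) (hw : ⊤ ≤ (w ≫ V.ι) ⁻¹ᵁ V),
        V.topIso.inv ≫ w.appTop = (w ≫ V.ι).appLE V ⊤ hw by
      refine ⟨z', e, (h z' (e.symm ▸ hz)).trans ?_⟩
      congr 1
    intro w hw
    have e : w.appLE ⊤ ⊤ le_top = w.appTop := by simp [Scheme.Hom.appLE]
    rw [← e, Scheme.Hom.comp_appLE]
    simp only [Scheme.Opens.topIso_inv, Scheme.Opens.ι_app]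
    have : ∀ (O : (V : Scheme.{u}).Opens) (_ : O = ⊤) (h1 : V.ι ''ᵁ O ≤ V) (h2 : ⊤ ≤ w ⁻¹ᵁ O)
        (h3 : V.ι ''ᵁ ⊤ ≤ V),
        Z.presheaf.map (homOfLE h3).op ≫ w.appLE ⊤ ⊤ le_top =
        Z.presheaf.map (homOfLE h1).op ≫ w.appLE O ⊤ h2 := by
      rintro O rfl h1 h2 h3; rfl
    exact this _ V.ι_preimage_self _ _ (by simp)
  obtain ⟨x', rfl, hx'⟩ := key x hx
  obtain ⟨y', rfl, hy'⟩ := key y hy
  rw [ext_of_isAffine (f := x') (g := y') ((cancel_epi V.topIso.inv).1 (hx'.trans (h.trans hy'.symm)))]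

/-- Functions on the scheme-theoretic image are detected on the source. -/
theorem toImage_app_injective_of_open {X Y : Scheme.{u}} (f : X ⟶ Y) [QuasiCompact f] (T : f.image.Opens) :
    Function.Injective (f.toImage.app T) :=
  (TopCat.Presheaf.app_injective_iff_stalkFunctor_map_injective
    (F := f.image.sheaf) f.toImage.c).1 (fun x => f.stalkFunctor_toImage_injective x) T

/-- The scheme-theoretic image of a reduced scheme is reduced. -/
theorem isReduced_image {X Y : Scheme.{u}} (f : X ⟶ Y) [QuasiCompact f] [IsReduced X] :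
    IsReduced f.image := by
  constructor
  intro T
  exact isReduced_of_injective (f.toImage.app T).hom (toImage_app_injective_of_open f T)

end Groth.Agent.CohFinite
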