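import Groth.Agent.CohFinite.ChartPoint
import Groth.Agent.CohFinite.MorToAffine
import Mathlib.AlgebraicGeometry.Morphisms.Separated

/-!
# The coordinate relation of a Segre-type embedding

`Rel e U β g h`: on `g⁻¹U i ⊓ h⁻¹C_K` one has `(x_{K[i:=k]}/x_K) · β i (K i) = β i k`.
-/

set_option backward.isDefEq.respectTransparency false
universe u
open CategoryTheory AlgebraicGeometry TopologicalSpace Opposite

namespace Groth.Agent.CohFinite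

open Groth.Agent.ProjCoh Groth.Agent.CechCmp

theorem appLE_top_comp {X Y Z : Scheme.{u}} (f : X ⟶ Y) (g : Y ⟶ Z) (V : Z.Opens)
    (h : ⊤ ≤ g ⁻¹ᵁ V) (h' : ⊤ ≤ (f ≫ g) ⁻¹ᵁ V) (z : Γ(Z, V)) :
    (f ≫ g).appLE V ⊤ h' z = f.appTop (g.appLE V ⊤ h z) := by
  have e : f.appLE ⊤ ⊤ le_top = f.appTop := by simp [Scheme.Hom.appLE]
  rw [← e, ← ConcreteCategory.comp_apply, Scheme.Hom.appLE_comp_appLE]

theorem appLE_congr_hom {X Y : Scheme.{u}} {f g : X ⟶ Y} (e : f = g) (V : Y.Opens)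
    (h : ⊤ ≤ f ⁻¹ᵁ V) (h' : ⊤ ≤ g ⁻¹ᵁ V) (z : Γ(Y, V)) : f.appLE V ⊤ h z = g.appLE V ⊤ h' z := by
  subst e; rfl

variable {N n : ℕ} {A : Type u} [CommRing A] {ι : Type u} [DecidableEq ι]

local notation "Pn" => Proj (CohB1.polyGrading N A)

/-- The coordinate ratio `x_m/x_l` on the chart of `l`. -/
noncomputable def ratSec (A : Type u) [CommRing A] (l m : Ix.{u} N) :
    Γ(Proj (CohB1.polyGrading N A), chartMeet A ({l} : Finset (Ix.{u} N))) :=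
  theta A {l} (rat (Finset.mem_singleton_self l) 1 m)

theorem psiR_locElem_singleton (l m : Ix.{u} N) :
    psiR A {l} (locElem {l} m) = rat (Finset.mem_singleton_self l) 1 m := by
  have h := psiR_locElem_pow (R := A) (Finset.mem_singleton_self l) m 1
  simp only [pow_one, Finset.card_singleton, mul_one] at h
  refine Eq.trans ?_ h
  refine (one_mul (psiR A {l} (locElem {l} m))).symm.trans (congrArg (· * _) (Subtype.ext ?_))
  change (1 : Laurent A (Ix.{u} N)) = AddMonoidAlgebra.single _ 1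
  rw [AddMonoidAlgebra.one_def]
  congr 1
  funext i
  simp [es, ev, Pi.single_apply]

theorem basicOpen_ratSec (l m : Ix.{u} N) :
    (Proj (CohB1.polyGrading N A)).basicOpen (ratSec A l m) = chartMeet A {m, l} := by
  rw [ratSec, ← psiR_locElem_singleton, theta_psiR,
    basicOpen_secHom_locElem _ (Finset.singleton_nonempty l) m]

theorem preimage_le_of_isUnit_ratSec {Y : Scheme.{u}} (h : Y ⟶ Pn) (l m : Ix.{u} N)
    (h1 : ⊤ ≤ h ⁻¹ᵁ chartMeet A {l}) (hu : IsUnit (h.appLE (chartMeet A {l}) ⊤ h1 (ratSec A l m))) :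
    ⊤ ≤ h ⁻¹ᵁ chartMeet A {m} := by
  have e := Scheme.basicOpen_appLE h ⊤ (chartMeet A {l}) h1 (ratSec A l m)
  rw [Scheme.basicOpen_of_isUnit _ hu, basicOpen_ratSec] at e
  intro x hx
  have hle : chartMeet A ({m, l} : Finset (Ix.{u} N)) ≤ chartMeet A {m} :=
    RSh.meetOpen_anti (chartU A) (by simp)
  exact hle (e.le hx).2

variable {Z : Scheme.{u}} (e : (ι → Fin (n + 1)) ≃ Ix.{u} N) (U : ι → Z.Opens)
  (β : ∀ i, Fin (n + 1) → Γ(Z, U i))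

/-- The coordinate relation. -/
def Rel {Y : Scheme.{u}} (g : Y ⟶ Z) (h : Y ⟶ Proj (CohB1.polyGrading N A)) : Prop :=
  ∀ (i : ι) (K : ι → Fin (n + 1)) (k : Fin (n + 1)) (h1 : ⊤ ≤ h ⁻¹ᵁ chartMeet A {e K})
    (h2 : ⊤ ≤ g ⁻¹ᵁ U i),
    h.appLE (chartMeet A {e K}) ⊤ h1 (ratSec A (e K) (e (Function.update K i k))) *
      g.appLE (U i) ⊤ h2 (β i (K i)) = g.appLE (U i) ⊤ h2 (β i k)

/-- The relation holds for the morphism given by the products of coordinates. -/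
theorem rel_of_coordinates {S : Scheme.{u}} (g : S ⟶ Z) (h : S ⟶ Pn) [Fintype ι]
    (hg : ∀ i, ⊤ ≤ g ⁻¹ᵁ U i) (l : Ix.{u} N) (hl : ⊤ ≤ h ⁻¹ᵁ chartMeet A {l})
    (hv : ∀ K, h.appLE (chartMeet A {l}) ⊤ hl (ratSec A l (e K)) =
      ∏ i, g.appLE (U i) ⊤ (hg i) (β i (K i))) {S' : Scheme.{u}} (s : S' ⟶ S) :
    Rel e U β (s ≫ g) (s ≫ h) := by
  intro i K k h1 h2
  set K' := Function.update K i k
  set c : Finset (Ix.{u} N) := {l, e K}
  have hls : ({l} : Finset (Ix.{u} N)) ⊆ c := by simp [c]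
  have hKs : ({e K} : Finset (Ix.{u} N)) ⊆ c := by simp [c]
  have hlc : l ∈ c := by simp [c]
  have hKc : e K ∈ c := by simp [c]
  have hl' : ⊤ ≤ (s ≫ h) ⁻¹ᵁ chartMeet A {l} := fun x _ => hl (Opens.mem_top (s x))
  have hc : ⊤ ≤ (s ≫ h) ⁻¹ᵁ chartMeet A c := fun x hx => by
    change (s ≫ h) x ∈ chartMeet A c
    rw [show chartMeet A c = chartMeet A {l} ⊓ chartMeet A {e K} by
      simp only [chartMeet, c, Finset.iInf_insert, Finset.iInf_singleton]]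
    exact ⟨hl' hx, h1 hx⟩
  let ev : reg A c →+* Γ(S', ⊤) := ((s ≫ h).appLE (chartMeet A c) ⊤ hc).hom.comp (theta A c)
  have hev : ∀ (a : Ix.{u} N) (ha : ({a} : Finset (Ix.{u} N)) ⊆ c) (h' : ⊤ ≤ (s ≫ h) ⁻¹ᵁ chartMeet A {a})
      (m : Ix.{u} N), (s ≫ h).appLE (chartMeet A {a}) ⊤ h' (ratSec A a m) =
        ev (rat (ha (Finset.mem_singleton_self a)) 1 m) := by
    intro a ha h' m
    change _ = (s ≫ h).appLE (chartMeet A c) ⊤ hc (theta A c _)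
    rw [← incl_rat ha (Finset.mem_singleton_self a), ← theta_res ha (RSh.meetOpen_anti (chartU A) ha),
      ← ConcreteCategory.comp_apply, Scheme.Hom.map_appLE]
    rfl
  have hρ : ∀ (j : ι) (z : Γ(Z, U j)), (s ≫ g).appLE (U j) ⊤ (fun x _ => hg j (Opens.mem_top (s x))) z =
      s.appTop (g.appLE (U j) ⊤ (hg j) z) := fun j z => appLE_top_comp s g (U j) _ _ z
  have hv' : ∀ L, ev (rat hlc 1 (e L)) = ∏ j, s.appTop (g.appLE (U j) ⊤ (hg j) (β j (L j))) := fun L => by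
    rw [← hev l hls hl', appLE_top_comp s h _ hl, hv, map_prod]
  have key : ev (rat hKc 1 (e K')) * ev (rat hlc 1 (e K)) = ev (rat hlc 1 (e K')) := by
    rw [← map_mul, mul_comm, rat_mul_rat hlc hKc]
  have hunit : IsUnit (ev (rat hlc 1 (e K))) :=
    (IsUnit.of_mul_eq_one (rat hKc 1 l) (rat_inv hlc hKc 1)).map ev
  rw [hev (e K) hKs h1, hρ, hρ]
  rw [hv', ← Finset.mul_prod_erase _ _ (Finset.mem_univ i)] at hunit key
  rw [hv', ← Finset.mul_prod_erase _ _ (Finset.mem_univ i)] at key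
  have hrest : ∏ j ∈ Finset.univ.erase i, s.appTop (g.appLE (U j) ⊤ (hg j) (β j (K' j))) =
      ∏ j ∈ Finset.univ.erase i, s.appTop (g.appLE (U j) ⊤ (hg j) (β j (K j))) :=
    Finset.prod_congr rfl fun j hj => by rw [show K' j = K j from Function.update_of_ne (Finset.ne_of_mem_erase hj) _ _]
  rw [hrest, show K' i = k from Function.update_self _ _ _, ← mul_assoc] at key
  exact (isUnit_of_mul_isUnit_right hunit).mul_right_cancel key

/-- The relation descends along morphisms injective on functions. -/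
theorem rel_of_injective {S W : Scheme.{u}} (q : S ⟶ W) (π : W ⟶ Z) (j : W ⟶ Pn)
    (hq : ∀ O : W.Opens, Function.Injective (q.app O))
    (hS : ∀ {S' : Scheme.{u}} (s : S' ⟶ S), Rel e U β (s ≫ q ≫ π) (s ≫ q ≫ j))
    {Y : Scheme.{u}} (y : Y ⟶ W) : Rel e U β (y ≫ π) (y ≫ j) := by
  intro i K k h1 h2
  set O : W.Opens := j ⁻¹ᵁ chartMeet A {e K} ⊓ π ⁻¹ᵁ U i
  have hy : Set.range y ⊆ Set.range O.ι := by
    rw [Scheme.Opens.range_ι]
    rintro _ ⟨p, rfl⟩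
    exact ⟨h1 (Set.mem_univ p), h2 (Set.mem_univ p)⟩
  obtain ⟨y', rfl⟩ : ∃ y', y' ≫ O.ι = y :=
    ⟨IsOpenImmersion.lift O.ι y hy, IsOpenImmersion.lift_fac _ _ _⟩
  have g1 : ⊤ ≤ (O.ι ≫ j) ⁻¹ᵁ chartMeet A {e K} := fun p _ => p.2.1
  have g2 : ⊤ ≤ (O.ι ≫ π) ⁻¹ᵁ U i := fun p _ => p.2.2
  have hinj : Function.Injective (q ∣_ O).appTop := by
    intro a b hab
    rw [morphismRestrict_appTop, ConcreteCategory.comp_apply, ConcreteCategory.comp_apply] at hab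
    exact hq _ ((ConcreteCategory.bijective_of_isIso _).1 hab)
  suffices hO : (O.ι ≫ j).appLE (chartMeet A {e K}) ⊤ g1 (ratSec A (e K) (e (Function.update K i k))) *
      (O.ι ≫ π).appLE (U i) ⊤ g2 (β i (K i)) = (O.ι ≫ π).appLE (U i) ⊤ g2 (β i k) by
    simp only [Category.assoc] at h1 h2 ⊢
    rw [appLE_top_comp y' (O.ι ≫ j) _ g1, appLE_top_comp y' (O.ι ≫ π) _ g2,
      appLE_top_comp y' (O.ι ≫ π) _ g2, ← map_mul, hO]
  apply hinj
  have hg : ∀ {T : Scheme.{u}} (m : W ⟶ T), (q ∣_ O) ≫ O.ι ≫ m = (q ⁻¹ᵁ O).ι ≫ q ≫ m := fun m => by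
    rw [morphismRestrict_ι_assoc]
  have h1' : ⊤ ≤ ((q ⁻¹ᵁ O).ι ≫ q ≫ j) ⁻¹ᵁ chartMeet A {e K} := fun p _ => p.2.1
  have h2' : ⊤ ≤ ((q ⁻¹ᵁ O).ι ≫ q ≫ π) ⁻¹ᵁ U i := fun p _ => p.2.2
  have h1'' : ⊤ ≤ ((q ∣_ O) ≫ O.ι ≫ j) ⁻¹ᵁ chartMeet A {e K} := by rw [hg]; exact h1'
  have h2'' : ⊤ ≤ ((q ∣_ O) ≫ O.ι ≫ π) ⁻¹ᵁ U i := by rw [hg]; exact h2'
  rw [map_mul, ← appLE_top_comp (q ∣_ O) (O.ι ≫ j) _ g1 h1'', ← appLE_top_comp (q ∣_ O) (O.ι ≫ π) _ g2 h2'',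
    ← appLE_top_comp (q ∣_ O) (O.ι ≫ π) _ g2 h2'', appLE_congr_hom (hg j) _ h1'' h1',
    appLE_congr_hom (hg π) _ h2'' h2', appLE_congr_hom (hg π) _ h2'' h2']
  exact hS (q ⁻¹ᵁ O).ι i K k h1' h2'

variable {W : Scheme.{u}} {π : W ⟶ Z} {j : W ⟶ Proj (CohB1.polyGrading N A)}

/-- A point over `U i` in the chart of `K` is in the chart of `K[i := 0]`. -/
theorem mem_chart_update (hrel : ∀ {Y : Scheme.{u}} (y : Y ⟶ W), Rel e U β (y ≫ π) (y ≫ j))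
    (hβ : ∀ i, β i 0 = 1) {w : W} {i : ι} (hi : π w ∈ U i) {K : ι → Fin (n + 1)}
    (hK : j w ∈ chartMeet A {e K}) : j w ∈ chartMeet A {e (Function.update K i 0)} := by
  let O : W.Opens := j ⁻¹ᵁ chartMeet A {e K} ⊓ π ⁻¹ᵁ U i
  have g1 : ⊤ ≤ (O.ι ≫ j) ⁻¹ᵁ chartMeet A {e K} := fun p _ => p.2.1
  have g2 : ⊤ ≤ (O.ι ≫ π) ⁻¹ᵁ U i := fun p _ => p.2.2
  have h := hrel O.ι i K 0 g1 g2
  rw [hβ, map_one] at h
  exact preimage_le_of_isUnit_ratSec _ _ _ g1 (IsUnit.of_mul_eq_one _ h) (x := ⟨w, hK, hi⟩) trivial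

end Groth.Agent.CohFinite
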