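import Groth.Agent.CohFinite.Devissage

/-!
# Filtrations of coherent modules by push-forwards of ideals of integral closed subschemes

`exists_chain`: the filtration as a chain of monomorphisms.
-/

universe u

open CategoryTheory CategoryTheory.Limits AlgebraicGeometry TopologicalSpace Opposite

set_option backward.isDefEq.respectTransparency false

namespace Groth.Agent.CohFinite

open Groth.Agent.QCohLib

variable {X : Scheme.{u}}

/-- `Q ≅ i_* I` for a nonzero ideal `I` of an integral closed subscheme. -/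
def IsIdealPush (Q : X.Modules) : Prop :=
  ∃ (Z : Scheme.{u}) (i : Z ⟶ X), IsClosedImmersion i ∧ IsIntegral Z ∧
    ∃ (I : Z.Modules) (ι : I ⟶ Coh.structureModule Z), Mono ι ∧ Coh.IsQCoh I ∧ ¬ IsZero I ∧
      Nonempty (Q ≅ (Coh.push i).obj I)

theorem IsIdealPush.of_iso {Q Q' : X.Modules} (e : Q ≅ Q') (h : IsIdealPush Q) : IsIdealPush Q' := by
  obtain ⟨Z, i, hi, hZ, I, ι, h1, h2, h3, ⟨e'⟩⟩ := h
  exact ⟨Z, i, hi, hZ, I, ι, h1, h2, h3, ⟨e.symm ≪≫ e'⟩⟩

/-- Modules built by successive extensions from `i_* I`. -/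
inductive Filt : X.Modules → Prop
  | zero (M : X.Modules) : IsZero M → Filt M
  | step (N M : X.Modules) (f : N ⟶ M) : Mono f → Coh.IsCoh M → Filt N →
      IsIdealPush (cokernel f) → Filt M

theorem Filt.isCoh {M : X.Modules} : Filt M → Coh.IsCoh M
  | .zero _ h => isCoh_of_isZero h
  | .step _ _ _ _ h _ _ => h

theorem Filt.of_iso {M : X.Modules} (h : Filt M) : ∀ {M' : X.Modules} (_ : M ≅ M'), Filt M' := by
  induction h with
  | zero M hM => exact fun e => .zero _ (hM.of_iso e.symm)
  | step N M f hf hM hN hc _ =>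
    exact fun e => .step N _ (f ≫ e.hom) (mono_comp _ _) (isCoh_of_iso e hM) hN
      (hc.of_iso (cokernelCompIsIso f e.hom).symm)

theorem Filt.ext [IsLocallyNoetherian X] {Q : X.Modules} (hQ : Filt Q) :
    ∀ (S : ShortComplex X.Modules), S.ShortExact → S.X₃ = Q → Coh.IsCoh S.X₂ → Filt S.X₁ →
      Filt S.X₂ := by
  induction hQ with
  | zero Q hQ =>
    rintro S hS rfl hM hN
    have := hS.isIso_f_iff.mpr hQ
    exact hN.of_iso (asIso S.f)
  | step Q' Q f hf hQc hQ' hc ih =>
    rintro S hS rfl hM hN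
    have := hS.mono_f
    have := hS.epi_g
    have hQ'c := hQ'.isCoh
    have := hQc.1
    let M' := pullback S.g f
    have hM' : Coh.IsCoh M' := isCoh_pullback_limit S.g f hM hQ'c
    let a : S.X₁ ⟶ M' := pullback.lift S.f 0 (by rw [S.zero, zero_comp])
    have : Mono a := mono_of_mono_fac (pullback.lift_fst S.f 0 _)
    let T := ShortComplex.mk a (pullback.snd S.g f) (pullback.lift_snd _ _ _)
    have hT : T.ShortExact :=
      { exact := by
          refine ShortComplex.exact_of_f_is_kernel _ (KernelFork.IsLimit.ofι' _ _ fun g hg => ?_)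
          have h1 : (g ≫ pullback.fst S.g f) ≫ S.g = 0 := by
            rw [Category.assoc, pullback.condition, reassoc_of% hg, zero_comp]
          refine ⟨hS.exact.lift _ h1, pullback.hom_ext ?_ ?_⟩
          · rw [Category.assoc, pullback.lift_fst, hS.exact.lift_f]
          · rw [Category.assoc, pullback.lift_snd, comp_zero]
            exact hg.symm }
    have hFM' : Filt M' := ih T hT rfl hM' hN
    refine .step M' _ (pullback.fst S.g f) inferInstance hM hFM' (hc.of_iso ?_)
    let U := ShortComplex.mk (pullback.fst S.g f) (S.g ≫ cokernel.π f)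
      (by rw [pullback.condition_assoc, cokernel.condition, comp_zero])
    have hU : U.ShortExact :=
      { exact := by
          refine ShortComplex.exact_of_f_is_kernel _ (KernelFork.IsLimit.ofι' _ _ fun g hg => ?_)
          have h2 : (g ≫ S.g) ≫ cokernel.π f = 0 := (Category.assoc _ _ _).trans hg
          exact ⟨pullback.lift g (Abelian.monoLift f _ h2) (Abelian.monoLift_comp _ _ _).symm,
            pullback.lift_fst _ _ _⟩
        epi_g := epi_comp _ _ }
    exact (hU.gIsCokernel.coconePointUniqueUpToIso (colimit.isColimit _))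

theorem filt_of_isCoh [IsNoetherian X] {M : X.Modules} (hM : Coh.IsCoh M) : Filt M :=
  devissage_ext Filt (fun _ _ ⟨e⟩ h => h.of_iso e) Filt.zero (X' := Set.univ)
    (fun S hS _ h2 _ _ hP1 hP3 => hP3.ext S hS rfl h2 hP1)
    (fun Z i hi hZ _ I ι hι hI hI0 => by
      have hz : IsZero (kernel (𝟙 ((Coh.push i).obj I))) := isZero_kernel_of_mono _
      exact .step _ _ (kernel.ι (𝟙 ((Coh.push i).obj I))) inferInstance (isCoh_push_ideal i ι hI)
        (.zero _ hz) ⟨Z, i, hi, hZ, I, ι, hι, hI, hI0,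
          ⟨cokernelIsoOfEq (hz.eq_of_src _ 0) ≪≫ cokernelZeroIsoTarget⟩⟩)
    M hM (Set.subset_univ _)

theorem isIdealPush_conj {A A' B B' : X.Modules} (a : A' ≅ A) (f : A ⟶ B) (b : B ≅ B') [Mono f]
    (h : IsIdealPush (cokernel f)) :
    Mono (a.hom ≫ f ≫ b.hom) ∧ IsIdealPush (cokernel (a.hom ≫ f ≫ b.hom)) :=
  ⟨mono_comp _ _, h.of_iso ((cokernelEpiComp a.hom (f ≫ b.hom)) ≪≫ cokernelCompIsIso f b.hom).symm⟩

theorem exists_chain {M : X.Modules} (h : Filt M) :
    ∃ (m : ℕ) (F : ℕ → X.Modules) (φ : (j : ℕ) → (F j ⟶ F (j + 1))),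
      IsZero (F 0) ∧ Nonempty (F m ≅ M) ∧ (∀ j ≤ m, Coh.IsCoh (F j)) ∧
        ∀ j < m, Mono (φ j) ∧ IsIdealPush (cokernel (φ j)) := by
  induction h with
  | zero M hM =>
    exact ⟨0, fun _ => M, fun _ => 0, hM, ⟨Iso.refl M⟩, fun _ _ => isCoh_of_isZero hM,
      fun j hj => absurd hj (Nat.not_lt_zero j)⟩
  | step N M f hf hM hN hc ih =>
    obtain ⟨m, F, φ, h0, ⟨e⟩, hF, hφ⟩ := ih
    classical
    let G : ℕ → X.Modules := fun n => if n ≤ m then F n else M
    have hG1 : ∀ n, n ≤ m → G n = F n := fun n hn => if_pos hn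
    have hG2 : ∀ n, m < n → G n = M := fun n hn => if_neg (not_le.mpr hn)
    let ψ : ∀ n, G n ⟶ G (n + 1) := fun n =>
      if h : n < m then eqToHom (hG1 n h.le) ≫ φ n ≫ eqToHom (hG1 (n + 1) h).symm
      else if h' : n = m then
        (eqToIso ((hG1 n h'.le).trans (by rw [h'])) ≪≫ e).hom ≫ f ≫
          (eqToIso (hG2 (n + 1) (by omega)).symm).hom
      else 0
    refine ⟨m + 1, G, ψ, ?_, ⟨eqToIso (hG2 (m + 1) (Nat.lt_succ_self m))⟩, fun j hj => ?_,
      fun j hj => ?_⟩
    · rw [hG1 0 (Nat.zero_le m)]; exact h0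
    · by_cases h : j ≤ m
      · rw [hG1 j h]; exact hF j h
      · rw [hG2 j (not_le.mp h)]; exact hM
    · by_cases h : j < m
      · rw [show ψ j = _ from dif_pos h]
        have := (hφ j h).1
        exact isIdealPush_conj (eqToIso (hG1 j h.le)) (φ j) (eqToIso (hG1 (j + 1) h).symm) (hφ j h).2
      · have h' : j = m := by omega
        rw [show ψ j = _ from (dif_neg h).trans (dif_pos h')]
        exact isIdealPush_conj _ f _ hc

end Groth.Agent.CohFinite
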