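import Groth.Agent.CechCmp.RSheaf
import Mathlib.RingTheory.Noetherian.Basic

/-!
# The long exact cohomology sequence of abelian sheaves with an action of a ring
-/

set_option backward.isDefEq.respectTransparency false

universe u

open CategoryTheory Limits Opposite TopologicalSpace Abelian
open scoped Groth.Agent.CohVanish

namespace Groth.Agent.CohFinite

open Groth.Agent.CohVanish Groth.Agent.CechCmp

variable {R : Type u} [CommRing R] {X : TopCat.{u}}

/-- Cohomology over an open of a sheaf with action. -/
def HMod (F : RSh R X) (U : Opens X) (p : ℕ) : Type u := EU F.F U p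

noncomputable instance (F : RSh R X) (U : Opens X) (p : ℕ) : AddCommGroup (HMod F U p) :=
  inferInstanceAs (AddCommGroup (EU F.F U p))

/-- The action on cohomology. -/
noncomputable def hAct (F : RSh R X) (U : Opens X) (p : ℕ) : R →+* AddMonoid.End (HMod F U p) where
  toFun r := eMap (F.act r) U p
  map_one' := by
    refine AddMonoidHom.ext fun x => ?_
    exact (congrArg (fun φ => eMap φ U p x) F.act.map_one).trans (eMap_id U p x)
  map_mul' r s := by
    refine AddMonoidHom.ext fun x => ?_
    exact (congrArg (fun φ => eMap φ U p x) (F.act.map_mul r s)).trans (eMap_comp _ _ U p x)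
  map_zero' := by
    refine AddMonoidHom.ext fun x => ?_
    refine (congrArg (fun φ => eMap φ U p x) F.act.map_zero).trans ?_
    rw [eMap_apply, Ext.mk₀_zero, Ext.comp_zero]
    rfl
  map_add' r s := by
    refine AddMonoidHom.ext fun x => ?_
    refine (congrArg (fun φ => eMap φ U p x) (F.act.map_add r s)).trans ?_
    rw [eMap_apply, Ext.mk₀_add, Ext.comp_add]
    rfl

noncomputable instance (F : RSh R X) (U : Opens X) (p : ℕ) : Module R (HMod F U p) :=
  Module.compHom _ (hAct F U p)

/-- A short exact sequence of sheaves with action. -/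
structure RSES (R : Type u) [CommRing R] (X : TopCat.{u}) where
  /-- The first term. -/
  X₁ : RSh R X
  /-- The middle term. -/
  X₂ : RSh R X
  /-- The last term. -/
  X₃ : RSh R X
  /-- The first map. -/
  f : RSh.Hom X₁ X₂
  /-- The second map. -/
  g : RSh.Hom X₂ X₃
  zero : f.hom ≫ g.hom = 0
  shortExact : (ShortComplex.mk f.hom g.hom zero).ShortExact

/-- Functoriality, linear over the ring. -/
noncomputable def mapHMod {F G : RSh R X} (φ : RSh.Hom F G) (U : Opens X) (p : ℕ) :
    HMod F U p →ₗ[R] HMod G U p where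
  toFun := eMap φ.hom U p
  map_add' x y := map_add (eMap φ.hom U p) x y
  map_smul' r x := by
    exact ((eMap_comp (F.act r) φ.hom U p x).symm.trans (congrArg (fun a => eMap a U p x) (φ.comm r))).trans
      (eMap_comp φ.hom (G.act r) U p x)

theorem mapHMod_surjective_of_section {F G : RSh R X} (i : RSh.Hom G F) (r : RSh.Hom F G)
    (h : i.hom ≫ r.hom = 𝟙 G.F) (U : Opens X) (p : ℕ) : Function.Surjective (mapHMod r U p) :=
  fun y => ⟨mapHMod i U p y,
    ((eMap_comp i.hom r.hom U p y).symm.trans (congrArg (fun a => eMap a U p y) h)).trans (eMap_id U p y)⟩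

variable (S : RSES R X)

/-- The short complex underlying a short exact sequence with action. -/
noncomputable abbrev RSES.sc : ShortComplex (AbSh X) := ShortComplex.mk S.f.hom S.g.hom S.zero

/-- Multiplication by a scalar on the short complex. -/
noncomputable def RSES.scAct (r : R) : S.sc ⟶ S.sc where
  τ₁ := S.X₁.act r
  τ₂ := S.X₂.act r
  τ₃ := S.X₃.act r
  comm₁₂ := S.f.comm r
  comm₂₃ := S.g.comm r

/-- The connecting map, linear over the ring. -/
noncomputable def RSES.delta (U : Opens X) (p : ℕ) :
    HMod S.X₃ U p →ₗ[R] HMod S.X₁ U (p + 1) where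
  toFun := eDelta (S := S.sc) S.shortExact U p
  map_add' x y := map_add (eDelta (S := S.sc) S.shortExact U p) x y
  map_smul' r x := (eDelta_naturality (S := S.sc) S.shortExact S.shortExact (S.scAct r) U p x).symm

/-- The middle of an exact pair with finite ends is finite. -/
theorem finite_of_exact_pair {M N P : Type u} [AddCommGroup M] [AddCommGroup N] [AddCommGroup P]
    [Module R M] [Module R N] [Module R P] [IsNoetherianRing R] (f : M →ₗ[R] N) (g : N →ₗ[R] P)
    (h : ∀ x, g x = 0 → ∃ y, f y = x) [Module.Finite R M] [Module.Finite R P] :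
    Module.Finite R N := by
  have : IsNoetherian R P := isNoetherian_of_isNoetherianRing_of_finite R P
  refine ⟨Submodule.fg_of_fg_map_of_fg_inf_ker g (IsNoetherian.noetherian _) ?_⟩
  have : IsNoetherian R M := isNoetherian_of_isNoetherianRing_of_finite R M
  have hk : ⊤ ⊓ LinearMap.ker g = ((⊤ ⊓ LinearMap.ker g).comap f).map f := by
    refine (Submodule.map_comap_eq_of_le fun x hx => ?_).symm
    exact h x hx.2
  rw [hk]
  exact (IsNoetherian.noetherian _).map f

omit [CommRing R] in
theorem eMap_injective_of_mono {F G : AbSh X} {φ : F ⟶ G} (h : Mono φ) (U : Opens X) :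
    Function.Injective (eMap φ U 0) := by
  intro x y hxy
  obtain ⟨a, rfl⟩ := (Ext.mk₀_bijective (freeSh U) F).2 x
  obtain ⟨b, rfl⟩ := (Ext.mk₀_bijective (freeSh U) F).2 y
  rw [eMap_apply, eMap_apply, Ext.mk₀_comp_mk₀, Ext.mk₀_comp_mk₀] at hxy
  exact congrArg Ext.mk₀ ((cancel_mono φ).1 ((Ext.mk₀_bijective (freeSh U) G).1 hxy))

variable [IsNoetherianRing R] (U : Opens X)

theorem RSES.finite_mid (h₁ : ∀ p, Module.Finite R (HMod S.X₁ U p))
    (h₃ : ∀ p, Module.Finite R (HMod S.X₃ U p)) (p : ℕ) : Module.Finite R (HMod S.X₂ U p) :=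
  have := h₁ p
  have := h₃ p
  finite_of_exact_pair (mapHMod S.f U p) (mapHMod S.g U p)
    fun x => (eMap_g_eq_zero_iff (S := S.sc) S.shortExact U p x).1

theorem RSES.finite_right (h₁ : ∀ p, Module.Finite R (HMod S.X₁ U p))
    (h₂ : ∀ p, Module.Finite R (HMod S.X₂ U p)) (p : ℕ) : Module.Finite R (HMod S.X₃ U p) :=
  have := h₂ p
  have := h₁ (p + 1)
  finite_of_exact_pair (mapHMod S.g U p) (S.delta U p)
    fun x => (eDelta_eq_zero_iff (S := S.sc) S.shortExact U p x).1

theorem RSES.finite_left (h₂ : ∀ p, Module.Finite R (HMod S.X₂ U p))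
    (h₃ : ∀ p, Module.Finite R (HMod S.X₃ U p)) :
    ∀ p, Module.Finite R (HMod S.X₁ U p)
  | 0 => by
    have := h₂ 0
    have : IsNoetherian R (HMod S.X₂ U 0) := isNoetherian_of_isNoetherianRing_of_finite R _
    exact Module.Finite.of_injective (mapHMod S.f U 0) (eMap_injective_of_mono S.shortExact.mono_f U)
  | p + 1 => by
    have := h₃ p
    have := h₂ (p + 1)
    exact finite_of_exact_pair (S.delta U p) (mapHMod S.f U (p + 1))
      fun x => (eMap_f_eq_zero_iff (S := S.sc) S.shortExact U p x).1

end Groth.Agent.CohFinite
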