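import Groth.Agent.CohFinite.RelVanishingDefs
import Mathlib.Algebra.MonoidAlgebra.Lift
import Mathlib.Algebra.MonoidAlgebra.MapDomain

/-!
# The coherent system over `B` of a scheme mapping to projective space over `A`

`W` lies over `Spec B` and maps to `P^n_A`; the preimages of the charts give, for every quasi-coherent
module on `W`, a system over the rings of degree zero Laurent polynomials with coefficients in `B`.
-/

universe u
open CategoryTheory AlgebraicGeometry TopologicalSpace Opposite

namespace Groth.Agent.CohFinite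

open Groth.Agent.ProjCoh Groth.Agent.CechCmp

section MonoidAlgebra

variable {ι : Type u} [Fintype ι]

/-- The monoid of the exponents of degree zero with denominators in `s`. -/
def coneMonoid (s : Finset ι) : AddSubmonoid (Expo ι) where
  carrier := cone 0 s
  zero_mem' := zero_mem_cone s
  add_mem' ha hb := by simpa using add_mem_cone ha hb

variable [DecidableEq ι] (B : Type u) [CommRing B]

/-- The monoid algebra of `coneMonoid s`, as degree zero Laurent polynomials. -/
noncomputable def toReg (s : Finset ι) : AddMonoidAlgebra B (coneMonoid s) →+* reg B s :=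
  (AddMonoidAlgebra.mapDomainRingHom B (coneMonoid s).subtype).codRestrict (reg B s).toSubring fun f a ha => by
    classical
    obtain ⟨b, -, rfl⟩ := Finset.mem_image.1
      (Finsupp.mapDomain_support (f := (coneMonoid s).subtype) (s := f.coeff) (Finsupp.mem_support_iff.2 ha))
    exact b.2

lemma toReg_single (s : Finset ι) (a : coneMonoid s) (b : B) :
    (toReg B s (AddMonoidAlgebra.single a b) : Laurent B ι) = AddMonoidAlgebra.single a.1 b :=
  AddMonoidAlgebra.mapDomain_single

lemma toReg_bijective (s : Finset ι) : Function.Bijective (toReg B s) := by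
  classical
  refine ⟨fun f g h => AddMonoidAlgebra.mapDomain_injective Subtype.val_injective (congrArg Subtype.val h), fun f => ?_⟩
  refine ⟨∑ a ∈ (f : Laurent B ι).coeff.support, if h : a ∈ cone 0 s then
    AddMonoidAlgebra.single (⟨a, h⟩ : coneMonoid s) ((f : Laurent B ι).coeff a) else 0, Subtype.ext ?_⟩
  rw [map_sum, AddSubmonoidClass.coe_finsetSum]
  conv_rhs => rw [← AddMonoidAlgebra.sum_coeff_single (f : Laurent B ι)]
  refine Finset.sum_congr rfl fun a ha => ?_
  rw [dif_pos (f.2 a (Finsupp.mem_support_iff.1 ha)), toReg_single]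

end MonoidAlgebra

variable {n : ℕ} {A : Type u} [CommRing A] {W : Scheme.{u}}
  (j : W ⟶ Proj (CohB1.polyGrading n A)) {B : Type u} [CommRing B]
  (t : W ⟶ Spec (CommRingCat.of B))

/-- The preimages of the charts. -/
noncomputable def chartV (i : Ix.{u} n) : W.Opens := j ⁻¹ᵁ chartU A i

lemma meetV_eq (s : Finset (Ix.{u} n)) : RSh.meetOpen (chartV j) s = j ⁻¹ᵁ chartMeet A s := by
  classical
  induction s using Finset.induction with
  | empty => simp [RSh.meetOpen, chartMeet]
  | insert i s hi ih =>
    rw [RSh.meetOpen, Finset.iInf_insert, chartMeet, Finset.iInf_insert, Scheme.Hom.preimage_inf]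
    exact congrArg₂ (· ⊓ ·) rfl ih

/-- Pulled back monomials on the intersections. -/
noncomputable def pullV (s : Finset (Ix.{u} n)) : reg A s →+* Γ(W, RSh.meetOpen (chartV j) s) :=
  (W.presheaf.map (homOfLE (meetV_eq j s).le).op).hom.comp (pullReg j s)

lemma pullV_res {s r : Finset (Ix.{u} n)} (h : s ⊆ r) (f : reg A s) :
    W.presheaf.map (homOfLE (RSh.meetOpen_anti (chartV j) h)).op (pullV j s f) = pullV j r (incl h f) := by
  change W.presheaf.map _ (W.presheaf.map _ (j.app (chartMeet A s) (theta A s f))) =
    W.presheaf.map _ (j.app (chartMeet A r) (theta A r (incl h f)))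
  rw [← theta_res h (RSh.meetOpen_anti (chartU A) h) f]
  have hn := ConcreteCategory.congr_hom (j.naturality (homOfLE (RSh.meetOpen_anti (chartU A) h)).op) (theta A s f)
  simp only [CommRingCat.comp_apply] at hn
  rw [hn]
  exact (map_map_eq _ _ (homOfLE ((RSh.meetOpen_anti (chartV j) h).trans (meetV_eq j s).le)).op _).trans
    (map_map_eq _ _ _ _).symm

/-- Pulled back monomials, as a monoid map. -/
noncomputable def monV (s : Finset (Ix.{u} n)) :
    Multiplicative (coneMonoid s) →* Γ(W, RSh.meetOpen (chartV j) s) where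
  toFun a := pullV j s ⟨AddMonoidAlgebra.single (Multiplicative.toAdd a).1 1, single_mem_supp (Multiplicative.toAdd a).2 1⟩
  map_one' := by
    rw [← map_one (pullV j s)]
    congr 1
  map_mul' a b := by
    rw [← map_mul]
    congr 1
    exact Subtype.ext (by simp [AddMonoidAlgebra.single_mul_single])

/-- The action of Laurent polynomials with coefficients in `B`. -/
noncomputable def pullB (s : Finset (Ix.{u} n)) : reg B s →+* Γ(W, RSh.meetOpen (chartV j) s) :=
  (AddMonoidAlgebra.liftNCRingHom
    ((W.presheaf.map (homOfLE (le_top (a := RSh.meetOpen (chartV j) s))).op).hom.comp (Coh.toGlobal t))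
    (monV j s) fun _ _ => Commute.all _ _).comp
      (RingEquiv.ofBijective (toReg B s) (toReg_bijective B s)).symm.toRingHom

lemma pullB_single (s : Finset (Ix.{u} n)) {a : Expo (Ix.{u} n)} (ha : a ∈ cone 0 s) (b : B) :
    pullB j t s ⟨AddMonoidAlgebra.single a b, single_mem_supp ha b⟩ =
      W.presheaf.map (homOfLE (le_top (a := RSh.meetOpen (chartV j) s))).op (Coh.toGlobal t b) *
        pullV j s ⟨AddMonoidAlgebra.single a 1, single_mem_supp ha 1⟩ := by
  have e : (RingEquiv.ofBijective (toReg B s) (toReg_bijective B s)).symm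
      ⟨AddMonoidAlgebra.single a b, single_mem_supp ha b⟩ = AddMonoidAlgebra.single (⟨a, ha⟩ : coneMonoid s) b :=
    (RingEquiv.ofBijective (toReg B s) (toReg_bijective B s)).injective
      (((RingEquiv.ofBijective (toReg B s) (toReg_bijective B s)).apply_symm_apply _).trans
        (Subtype.ext (toReg_single B s ⟨a, ha⟩ b).symm))
  rw [pullB, RingHom.comp_apply]
  change AddMonoidAlgebra.liftNCRingHom _ (monV j s) _ ((RingEquiv.ofBijective (toReg B s) (toReg_bijective B s)).symm _) = _
  rw [e]
  change AddMonoidAlgebra.liftNC _ _ (AddMonoidAlgebra.single _ b) = _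
  rw [AddMonoidAlgebra.liftNC_single]
  rfl

lemma pullB_monomial (s : Finset (Ix.{u} n)) {a : Expo (Ix.{u} n)} (ha : a ∈ cone 0 s) :
    pullB j t s ⟨AddMonoidAlgebra.single a 1, single_mem_supp ha 1⟩ =
      pullV j s ⟨AddMonoidAlgebra.single a 1, single_mem_supp ha 1⟩ := by
  rw [pullB_single j t s ha, map_one]
  exact (congrArg (· * _) (map_one (W.presheaf.map (homOfLE (le_top (a := RSh.meetOpen (chartV j) s))).op).hom)).trans
    (one_mul _)

lemma pullB_algebraMap (s : Finset (Ix.{u} n)) (b : B) :
    pullB j t s (algebraMap B _ b) =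
      W.presheaf.map (homOfLE (le_top (a := RSh.meetOpen (chartV j) s))).op (Coh.toGlobal t b) := by
  have e : algebraMap B (reg B s) b = ⟨AddMonoidAlgebra.single 0 b, single_mem_supp (zero_mem_cone s) b⟩ :=
    Subtype.ext (algebraMap_laurent b)
  rw [e, pullB_single j t s (zero_mem_cone s)]
  have e1 : (⟨AddMonoidAlgebra.single 0 1, single_mem_supp (zero_mem_cone s) 1⟩ : reg A s) = 1 :=
    Subtype.ext AddMonoidAlgebra.one_def.symm
  rw [e1, map_one, mul_one]

lemma pullB_res {s r : Finset (Ix.{u} n)} (h : s ⊆ r) (f : reg B s) :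
    W.presheaf.map (homOfLE (RSh.meetOpen_anti (chartV j) h)).op (pullB j t s f) = pullB j t r (incl h f) := by
  obtain ⟨g, rfl⟩ := (toReg_bijective B s).2 f
  induction g using AddMonoidAlgebra.induction_linear with
  | zero => simp
  | add g g' hg hg' => simp only [map_add]; exact congrArg₂ (· + ·) hg hg'
  | single a b =>
    have e : toReg B s (AddMonoidAlgebra.single a b) =
        ⟨AddMonoidAlgebra.single a.1 b, single_mem_supp a.2 b⟩ := Subtype.ext (toReg_single B s a b)
    rw [e, pullB_single j t s a.2, show incl h (⟨AddMonoidAlgebra.single a.1 b, single_mem_supp a.2 b⟩ : reg B s) =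
      ⟨AddMonoidAlgebra.single a.1 b, single_mem_supp (cone_mono 0 h a.2) b⟩ from rfl,
      pullB_single j t r (cone_mono 0 h a.2), map_mul, pullV_res j h]
    exact congrArg (· * _) (map_map_eq _ _ _ _)

variable (M : W.Modules)

/-- The sections of a module on the preimages of the chart intersections. -/
noncomputable abbrev vSys : Sys B (Ix.{u} n) := (modRSh (Coh.toGlobal t) M).sys (chartV j)

/-- An element of the system, as a section. -/
abbrev vSec (s : Finset (Ix.{u} n)) (x : (vSys j t M).obj s) : Γ(M, RSh.meetOpen (chartV j) s) := x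

/-- Laurent polynomials over `B` act on sections. -/
@[instance_reducible]
noncomputable def vMod (s : Finset (Ix.{u} n)) : Module (reg B s) ((vSys j t M).obj s) :=
  Module.compHom Γ(M, RSh.meetOpen (chartV j) s) (pullB j t s)

lemma vSys_smul_base (s : Finset (Ix.{u} n)) (b : B) (x : (vSys j t M).obj s) :
    b • x = pullB j t s (algebraMap B _ b) • vSec j t M s x :=
  (show b • x = (W.presheaf.map (homOfLE (le_top (a := RSh.meetOpen (chartV j) s))).op
      (Coh.toGlobal t b)) • vSec j t M s x from rfl).trans
    (congrArg (· • vSec j t M s x) (pullB_algebraMap j t s b).symm)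

lemma vTower (s : Finset (Ix.{u} n)) :
    @IsScalarTower B (reg B s) ((vSys j t M).obj s) inferInstance (vMod j t M s).toSMul inferInstance :=
  @IsScalarTower.mk B (reg B s) ((vSys j t M).obj s) inferInstance (vMod j t M s).toSMul inferInstance
    fun b a x => by
      change pullB j t s (b • a) • vSec j t M s x =
        b • (show (vSys j t M).obj s from pullB j t s a • vSec j t M s x)
      refine Eq.trans ?_ (vSys_smul_base j t M s b _).symm
      rw [Algebra.smul_def, map_mul]
      exact mul_smul _ _ _

lemma vRes_smul {s r : Finset (Ix.{u} n)} (h : s ⊆ r) (a : reg B s) (x : Γ(M, RSh.meetOpen (chartV j) s)) :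
    M.presheaf.map (homOfLE (RSh.meetOpen_anti (chartV j) h)).op (pullB j t s a • x) =
      pullB j t r (incl h a) • M.presheaf.map (homOfLE (RSh.meetOpen_anti (chartV j) h)).op x := by
  rw [Scheme.Modules.map_smul, pullB_res]

variable (haff : ∀ s : Finset (Ix.{u} n), s.Nonempty → IsAffineOpen (RSh.meetOpen (chartV j) s))

/-- The pulled back localising function. -/
noncomputable def vLoc (s : Finset (Ix.{u} n)) (i : Ix.{u} n) : Γ(W, RSh.meetOpen (chartV j) s) :=
  pullV j s (psiR A s (locElem s i))

lemma basicOpen_vLoc (s : Finset (Ix.{u} n)) (hs : s.Nonempty) (i : Ix.{u} n) :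
    W.basicOpen (vLoc j s i) = RSh.meetOpen (chartV j) (insert i s) := by
  unfold vLoc
  change W.basicOpen (W.presheaf.map _ (j.app _ (theta A s (psiR A s (locElem s i))))) = _
  rw [Scheme.basicOpen_res, theta_psiR_locElem, ← Scheme.preimage_basicOpen, basicOpen_secHom_locElem s hs i,
    ← meetV_eq]
  exact inf_eq_right.2 (RSh.meetOpen_anti (chartV j) (Finset.subset_insert i s))

lemma pullB_locPow {s : Finset (Ix.{u} n)} {l : Ix.{u} n} (hl : l ∈ s) (i : Ix.{u} n) (k : ℕ) :
    pullB j t s (⟨AddMonoidAlgebra.single ((k : ℤ) • es s - ((s.card * k : ℕ) : ℤ) • ev l) 1,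
        single_mem_supp (es_sub_mem hl k) 1⟩ : reg B s) * vLoc j s i ^ k =
      pullB j t s (rat hl (s.card * k) i) := by
  rw [pullB_monomial j t s (es_sub_mem hl k), vLoc, ← map_pow, ← map_mul, psiR_locElem_pow hl i k]
  exact (pullB_monomial j t s (smul_ev_sub_mem hl _ i)).symm

include haff in
lemma exists_vRat_smul_eq_res [M.IsQuasicoherent] {s : Finset (Ix.{u} n)} {l : Ix.{u} n} (hl : l ∈ s)
    (i : Ix.{u} n) (y : Γ(M, RSh.meetOpen (chartV j) (insert i s))) :
    ∃ (k : ℕ) (x : Γ(M, RSh.meetOpen (chartV j) s)),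
      pullB j t (insert i s) (rat (Finset.mem_insert_of_mem hl) k i) • y =
        M.presheaf.map (homOfLE (RSh.meetOpen_anti (chartV j) (Finset.subset_insert i s))).op x := by
  obtain ⟨k, x, hx⟩ := QCohLib.exists_res_eq_pow_smul (haff s ⟨l, hl⟩) (vLoc j s i) _
    (RSh.meetOpen_anti (chartV j) (Finset.subset_insert i s)) (basicOpen_vLoc j s ⟨l, hl⟩ i).symm y
  refine ⟨s.card * k, pullB j t s (⟨AddMonoidAlgebra.single ((k : ℤ) • es s - ((s.card * k : ℕ) : ℤ) • ev l) 1,
        single_mem_supp (es_sub_mem hl k) 1⟩ : reg B s) • x, ?_⟩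
  rw [vRes_smul j t M (Finset.subset_insert i s), hx, ← map_pow, ← pullB_res j t (Finset.subset_insert i s),
    smul_smul, ← map_mul, pullB_locPow j t hl i k, pullB_res j t (Finset.subset_insert i s), incl_rat]

include haff in
lemma exists_vRat_smul_eq_zero [M.IsQuasicoherent] {s : Finset (Ix.{u} n)} {l : Ix.{u} n} (hl : l ∈ s)
    (i : Ix.{u} n) (x : Γ(M, RSh.meetOpen (chartV j) s))
    (hx : M.presheaf.map (homOfLE (RSh.meetOpen_anti (chartV j) (Finset.subset_insert i s))).op x = 0) :
    ∃ k : ℕ, pullB j t s (rat hl k i) • x = 0 := by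
  obtain ⟨k, hk⟩ := QCohLib.exists_pow_smul_eq_zero (haff s ⟨l, hl⟩) (vLoc j s i) _
    (RSh.meetOpen_anti (chartV j) (Finset.subset_insert i s)) (basicOpen_vLoc j s ⟨l, hl⟩ i).symm x hx
  refine ⟨s.card * k, ?_⟩
  rw [← pullB_locPow j t hl i k, mul_smul, hk, smul_zero]

/-- The coherent system over `B` of a quasi-coherent module on `W`. -/
noncomputable def relSys [M.IsQuasicoherent] : LSys B (Ix.{u} n) where
  toSys := vSys j t M
  mod := vMod j t M
  tower := vTower j t M
  res_smul h a x := vRes_smul j t M h a x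
  loc_surj hl i y := exists_vRat_smul_eq_res j t M haff hl i y
  loc_ker hl i x hx := exists_vRat_smul_eq_zero j t M haff hl i x hx

end Groth.Agent.CohFinite
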