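import Groth.Agent.CohFinite.RelSys
import Groth.Agent.InvBasic.QCoh

/-!
# Relative Serre vanishing over an affine base
-/

universe u
open CategoryTheory AlgebraicGeometry TopologicalSpace Opposite

namespace Groth.Agent.CohFinite

open Groth.Agent.ProjCoh Groth.Agent.CechCmp

variable {n : ℕ} {A : Type u} [CommRing A] {W : Scheme.{u}}
  (j : W ⟶ Proj (CohB1.polyGrading n A)) {B : Type u} [CommRing B]
  (t : W ⟶ Spec (CommRingCat.of B))

lemma iSup_chartV : ⨆ i, chartV j i = ⊤ := by
  unfold chartV
  rw [← Scheme.Hom.preimage_iSup, iSup_chartU, Scheme.Hom.preimage_top]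

lemma toGlobal_comp {X Y : Scheme.{u}} (f : X ⟶ Y) (g : Y ⟶ Spec (CommRingCat.of A)) (a : A) :
    Coh.toGlobal (f ≫ g) a = f.appTop (Coh.toGlobal g a) := by
  simp only [Coh.toGlobal, RingHom.comp_apply, Scheme.Hom.comp_appTop]
  rfl

lemma toGlobal_SpecMap {X : Scheme.{u}} (φ : A →+* B) (g : X ⟶ Spec (CommRingCat.of B)) (a : A) :
    Coh.toGlobal (g ≫ Spec.map (CommRingCat.ofHom φ)) a = Coh.toGlobal g (φ a) := by
  rw [toGlobal_comp]
  refine congrArg (g.appTop ·) ?_
  exact (ConcreteCategory.congr_hom (Scheme.ΓSpecIso_inv_naturality (CommRingCat.ofHom φ)) a).symm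

variable {t}

/-- The monomial action is onto on a chart, when the functions of `B` and the monomials generate. -/
theorem pullB_surjective (φ : A →+* B) (hcomm : t ≫ Spec.map (CommRingCat.ofHom φ) = j ≫ tS n A)
    (l : Ix.{u} n)
    (hgen : Subring.closure
      (Set.range (fun b : B => W.presheaf.map (homOfLE (le_top (a := j ⁻¹ᵁ chartMeet A {l}))).op
          (Coh.toGlobal t b)) ∪
        Set.range (pullReg j {l})) = ⊤) :
    Function.Surjective (pullB j t {l}) := by
  classical
  have hconst : ∀ a : A, pullV j {l} (algebraMap A _ a) = pullB j t {l} (algebraMap B _ (φ a)) := by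
    intro a
    have e1 : algebraMap A (reg A ({l} : Finset (Ix.{u} n))) a = algebraMap A _ a := rfl
    rw [pullB_algebraMap, ← toGlobal_SpecMap φ t a, hcomm, toGlobal_comp]
    change W.presheaf.map _ (j.app _ (theta A {l} (algebraMap A _ a))) = _
    rw [← theta_algebraMap {l} a]
    have hn := ConcreteCategory.congr_hom
      (j.naturality (homOfLE (le_top (a := chartMeet A {l}))).op) (Coh.toGlobal (tS n A) a)
    refine (congrArg _ hn).trans ?_
    exact map_map_eq _ _ _ _
  have hmem : ∀ f : reg A ({l} : Finset (Ix.{u} n)), pullV j {l} f ∈ (pullB j t {l}).range := by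
    intro f
    obtain ⟨g, rfl⟩ := (toReg_bijective A {l}).2 f
    induction g using AddMonoidAlgebra.induction_linear with
    | zero => rw [map_zero, map_zero]; exact zero_mem _
    | add g g' hg hg' => rw [map_add, map_add]; exact add_mem hg hg'
    | single a c =>
      have e : toReg A {l} (AddMonoidAlgebra.single a c) =
          algebraMap A _ c * ⟨AddMonoidAlgebra.single a.1 1, single_mem_supp a.2 1⟩ := Subtype.ext (by
        rw [toReg_single, Subalgebra.coe_mul]
        simp [AddMonoidAlgebra.coe_algebraMap, AddMonoidAlgebra.single_mul_single])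
      rw [e, map_mul, hconst, ← pullB_monomial j t {l} a.2]
      exact mul_mem ⟨_, rfl⟩ ⟨_, rfl⟩
  intro x
  let U := RSh.meetOpen (chartV j) ({l} : Finset (Ix.{u} n))
  let r : Γ(W, U) →+* Γ(W, j ⁻¹ᵁ chartMeet A {l}) := (W.presheaf.map (homOfLE (meetV_eq j {l}).ge).op).hom
  have hrr : ∀ f : reg A ({l} : Finset (Ix.{u} n)), r (pullV j {l} f) = pullReg j {l} f := fun f =>
    (map_map_eq _ _ (𝟙 _) _).trans (by rw [CategoryTheory.Functor.map_id]; rfl)
  have hle : Subring.closure
      (Set.range (fun b : B => W.presheaf.map (homOfLE (le_top (a := j ⁻¹ᵁ chartMeet A {l}))).op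
          (Coh.toGlobal t b)) ∪
        Set.range (pullReg j {l})) ≤ (r.comp (pullB j t {l})).range := by
    refine Subring.closure_le.2 ?_
    rintro _ (⟨b, rfl⟩ | ⟨f, rfl⟩)
    · refine ⟨algebraMap B _ b, ?_⟩
      rw [RingHom.comp_apply, pullB_algebraMap]
      exact map_map_eq _ _ _ _
    · obtain ⟨g, hg⟩ := hmem f
      exact ⟨g, by rw [RingHom.comp_apply, hg, hrr]⟩
  rw [hgen] at hle
  obtain ⟨y, hy⟩ := hle (Subring.mem_top (r x))
  refine ⟨y, ?_⟩
  have hinj : Function.Injective r := fun a b h => by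
    have h' := congrArg (W.presheaf.map (homOfLE (meetV_eq j {l}).le).op) h
    simp only [r] at h'
    rw [map_map_eq _ _ (𝟙 _), map_map_eq _ _ (𝟙 _), CategoryTheory.Functor.map_id] at h'
    exact h'
  exact hinj hy

variable (haff : ∀ s : Finset (Ix.{u} n), s.Nonempty → IsAffineOpen (RSh.meetOpen (chartV j) s))

lemma isQuasicoherent_unit : (Coh.structureModule W).IsQuasicoherent :=
  InvBasic.isQuasicoherent_structureModule W

/-- The system of the structure sheaf. -/
noncomputable abbrev oSys : LSys B (Ix.{u} n) :=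
  @relSys n A _ W j B _ t (Coh.structureModule W) haff isQuasicoherent_unit

/-- An element of the structure system, as a function. -/
abbrev oVec (s : Finset (Ix.{u} n)) (x : (oSys (t := t) j haff).toSys.obj s) :
    Γ(W, RSh.meetOpen (chartV j) s) := x

lemma oSys_fg (hsurj : ∀ l, Function.Surjective (pullB j t {l})) : (oSys (t := t) j haff).FG := fun l => by
  letI := vMod j t (Coh.structureModule W) ({l} : Finset (Ix.{u} n))
  refine ⟨⟨{(show (oSys (t := t) j haff).toSys.obj {l} from
    (1 : Γ(W, RSh.meetOpen (chartV j) ({l} : Finset (Ix.{u} n)))))}, ?_⟩⟩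
  rw [Submodule.eq_top_iff']
  intro x
  obtain ⟨a, ha⟩ := hsurj l (oVec (t := t) j haff {l} x)
  rw [Finset.coe_singleton, Submodule.mem_span_singleton]
  exact ⟨a, (mul_one (pullB j t {l} a)).trans ha⟩

variable {j} (T : TwistFamily j) (d : ℤ)

/-- The generator on an intersection. -/
noncomputable def tGen {s : Finset (Ix.{u} n)} {l : Ix.{u} n} (hl : l ∈ s) :
    Γ(T.L d, RSh.meetOpen (chartV j) s) :=
  (T.L d).presheaf.map (homOfLE ((meetV_eq j s).le.trans
    (j.preimage_mono (RSh.meetOpen_anti (chartU A) (Finset.singleton_subset_iff.2 hl))))).op (T.σ d l)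

lemma tGen_trans {r : Finset (Ix.{u} n)} {i l : Ix.{u} n} (hi : i ∈ r) (hl : l ∈ r) :
    pullB j t r (uz hi hl d) • tGen T d hl = tGen T d hi := by
  have h := congrArg ((T.L d).presheaf.map (homOfLE (meetV_eq j r).le).op)
    (T.trans d r i l (Finset.singleton_subset_iff.2 hi) (Finset.singleton_subset_iff.2 hl))
  rw [Scheme.Modules.map_smul] at h
  simp only [resChart, ProjTwist.map_map] at h
  rw [show pullB j t r (uz hi hl d) = pullV j r (uz hi hl d) from pullB_monomial j t r (zsmul_ev_sub_mem hi hl d)]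
  exact h

/-- Multiplication by the chosen generator. -/
noncomputable def tApp (s : Finset (Ix.{u} n)) :
    (oSys (t := t) j haff).toSys.obj s →ₗ[B] (vSys j t (T.L d)).obj s :=
  open Classical in
  if hs : s.Nonempty then
    { toFun := fun x => oVec (t := t) j haff s x • tGen T d (pickIx_mem hs)
      map_add' := fun x y => add_smul (M := Γ(T.L d, RSh.meetOpen (chartV j) s))
        (oVec (t := t) j haff s x) (oVec (t := t) j haff s y) _
      map_smul' := fun b x => by
        refine Eq.trans ?_ (vSys_smul_base j t (T.L d) s b _).symm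
        exact (congrArg (fun z : Γ(W, RSh.meetOpen (chartV j) s) => z • tGen T d (pickIx_mem hs))
          (vSys_smul_base j t (Coh.structureModule W) s b x)).trans (mul_smul _ _ _) }
  else 0

lemma tApp_apply {s : Finset (Ix.{u} n)} (hs : s.Nonempty) (x : (oSys (t := t) j haff).toSys.obj s) :
    tApp haff T d s x = oVec (t := t) j haff s x • tGen T d (pickIx_mem hs) := by
  unfold tApp
  rw [dif_pos hs]
  rfl

/-- The twisted system of the structure sheaf computes the family. -/
noncomputable def tHom : Sys.Hom ((oSys (t := t) j haff).twSys d) (vSys j t (T.L d)) where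
  app := tApp haff T d
  nat {s r} h x hs := by
    refine (tApp_apply haff T d (hs.mono h) _).trans (Eq.trans ?_ (congrArg _ (tApp_apply haff T d hs x)).symm)
    change (pullB j t r (cmpU d h) *
        W.presheaf.map (homOfLE (RSh.meetOpen_anti (chartV j) h)).op
          (show Γ(W, RSh.meetOpen (chartV j) s) from x)) • tGen T d (pickIx_mem (hs.mono h)) =
      (T.L d).presheaf.map (homOfLE (RSh.meetOpen_anti (chartV j) h)).op
        ((show Γ(W, RSh.meetOpen (chartV j) s) from x) • tGen T d (pickIx_mem hs))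
    rw [Scheme.Modules.map_smul, mul_comm, mul_smul, cmpU_of_nonempty d h hs, tGen_trans]
    exact congrArg _ (ProjTwist.map_map _ _ _ _).symm

lemma tHom_bijective (s : Finset (Ix.{u} n)) (hs : s.Nonempty) :
    Function.Bijective ((tHom (t := t) haff T d).app s) := by
  have e : ⇑((tHom (t := t) haff T d).app s) =
      fun x => oVec (t := t) j haff s x • tGen T d (pickIx_mem hs) :=
    funext (tApp_apply haff T d hs)
  rw [e]
  exact T.free d _ (RSh.meetOpen (chartV j) s) ((meetV_eq j s).le.trans
    (j.preimage_mono (RSh.meetOpen_anti (chartU A) (Finset.singleton_subset_iff.2 (pickIx_mem hs)))))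

variable (t) in
include haff in
theorem nonempty_HH_equiv (p : ℕ) :
    letI : W.Over (Spec (CommRingCat.of B)) := ⟨t⟩
    Nonempty (Coh.HH W (T.L d) p ≃ₗ[B] ((oSys (t := t) j haff).twSys d).H p) := by
  letI : W.Over (Spec (CommRingCat.of B)) := ⟨t⟩
  haveI : (T.L d).IsQuasicoherent := T.qcoh d
  obtain ⟨e⟩ := nonempty_HH_linearEquiv (A := B) (X := W) (T.L d) (chartV j) (iSup_chartV j) haff p
  exact ⟨e.trans (LinearEquiv.ofBijective ((tHom (t := t) haff T d).mapH p)
    (bijective_mapH _ (fun s hs => tHom_bijective haff T d s hs) p)).symm⟩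

end Groth.Agent.CohFinite

namespace Groth.Agent.CohFinite

open Groth.Agent.ProjCoh Groth.Agent.CechCmp

/-- **Relative Serre vanishing and finiteness** over an affine Noetherian base. -/
theorem exists_relative_vanishing {n : ℕ} {A B : Type u} [CommRing A] [CommRing B] [IsNoetherianRing B]
    (φ : A →+* B) {W : Scheme.{u}}
    (t : W ⟶ Spec (CommRingCat.of B)) (j : W ⟶ Proj (CohB1.polyGrading n A))
    (hcomm : t ≫ Spec.map (CommRingCat.ofHom φ) = j ≫ tS n A)
    (haff : ∀ s : Finset (Ix.{u} n), s.Nonempty → IsAffineOpen (j ⁻¹ᵁ chartMeet A s))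
    (hgen : ∀ l : Ix.{u} n, Subring.closure
      (Set.range (fun b : B => W.presheaf.map (homOfLE (le_top (a := j ⁻¹ᵁ chartMeet A {l}))).op
          (Coh.toGlobal t b)) ∪
        Set.range (pullReg j {l})) = ⊤)
    (T : TwistFamily j) :
    letI : W.Over (Spec (CommRingCat.of B)) := ⟨t⟩
    (∀ d, Module.Finite B (Coh.HH W (T.L d) 0)) ∧
      ∃ d₀ : ℤ, ∀ d, d₀ ≤ d → ∀ p, 0 < p → Subsingleton (Coh.HH W (T.L d) p) := by
  letI : W.Over (Spec (CommRingCat.of B)) := ⟨t⟩
  have haff' : ∀ s : Finset (Ix.{u} n), s.Nonempty → IsAffineOpen (RSh.meetOpen (chartV j) s) :=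
    fun s hs => by rw [meetV_eq]; exact haff s hs
  have hfg := oSys_fg j haff' (t := t) fun l => pullB_surjective j φ hcomm l (hgen l)
  refine ⟨fun d => ?_, ?_⟩
  · obtain ⟨e⟩ := nonempty_HH_equiv t haff' T d 0
    haveI : Module.Finite B (((oSys (t := t) j haff').twSys d).H 0) :=
      ((oSys (t := t) j haff').tw d).finite ((oSys (t := t) j haff').tw_fg hfg d) 0
    exact Module.Finite.equiv e.symm
  · obtain ⟨d₀, hd₀⟩ := (oSys (t := t) j haff').exists_vanishing (Fintype.card (Ix.{u} n)) hfg
    refine ⟨d₀, fun d hd p hp => ?_⟩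
    obtain ⟨q, rfl⟩ : ∃ q, p = q + 1 := ⟨p - 1, by omega⟩
    haveI := hd₀ d hd q (by omega)
    obtain ⟨e⟩ := nonempty_HH_equiv t haff' T d (q + 1)
    exact e.injective.subsingleton

end Groth.Agent.CohFinite
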