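import Groth.Agent.ProjCoh.Serre

/-!
# Families of invertible modules pulled back from the twists on projective space
-/

set_option backward.isDefEq.respectTransparency false
universe u
open CategoryTheory AlgebraicGeometry TopologicalSpace Opposite

namespace Groth.Agent.CohFinite

open Groth.Agent.ProjCoh Groth.Agent.CechCmp

variable {n : ℕ} {A : Type u} [CommRing A] {W : Scheme.{u}}
  (j : W ⟶ Proj (CohB1.polyGrading n A))

/-- Laurent monomials pulled back along `j`. -/
noncomputable def pullReg (s : Finset (Ix.{u} n)) : reg A s →+* Γ(W, j ⁻¹ᵁ chartMeet A s) :=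
  (j.app (chartMeet A s)).hom.comp (theta A s)

/-- Restriction to a smaller chart intersection. -/
noncomputable def resChart (L : W.Modules) {s r : Finset (Ix.{u} n)} (h : r ⊆ s)
    (x : Γ(L, j ⁻¹ᵁ chartMeet A r)) : Γ(L, j ⁻¹ᵁ chartMeet A s) :=
  L.presheaf.map (homOfLE (j.preimage_mono (RSh.meetOpen_anti (chartU A) h))).op x

/-- A family of modules free on the charts with the transition rule of the twists. -/
structure TwistFamily where
  /-- The modules. -/
  L : ℤ → W.Modules
  qcoh : ∀ d, Coh.IsQCoh (L d)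
  /-- The generators. -/
  σ : ∀ (d : ℤ) (l : Ix.{u} n), Γ(L d, j ⁻¹ᵁ chartMeet A {l})
  free : ∀ d l, IsFreeGen (L d) (σ d l)
  trans : ∀ (d : ℤ) (s : Finset (Ix.{u} n)) (i l : Ix.{u} n) (hi : {i} ⊆ s) (hl : {l} ⊆ s),
    ((pullReg j s (uz (hi (Finset.mem_singleton_self i)) (hl (Finset.mem_singleton_self l)) d) •
      resChart j (L d) (r := {l}) hl (σ d l) : Γ(L d, j ⁻¹ᵁ chartMeet A s))) = resChart j (L d) (r := {i}) hi (σ d i)

end Groth.Agent.CohFinite
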